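import Groth.Agent.Lib.FEt21.AppBijective
import Groth.Agent.Lib.Depth.HartogsHom
import Groth.Agent.Lib.FiniteQuot.DepthDescent
import Mathlib.RingTheory.Ideal.GoingUp

/-!
# Restriction to opens containing the points of depth at most one
-/

set_option autoImplicit false
set_option backward.isDefEq.respectTransparency false

universe u

open CategoryTheory CategoryTheory.Limits AlgebraicGeometry

namespace GrothLib.FEt21

theorem app_ι_bijective_of_depthTwo {X : Scheme.{u}} [IsLocallyNoetherian X] {U : X.Opens}
    (hU : GrothLib.Depth.DepthTwoOutside U) (V : X.Opens) : Function.Bijective (U.ι.app V) := by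
  rw [Scheme.Opens.ι_app]
  exact GrothLib.Depth.res_bijective_of_eq hU _
    (by rw [Scheme.Hom.image_preimage_eq_opensRange_inf, Scheme.Opens.opensRange_ι, inf_comm])

theorem fullyFaithful_of_depthTwo {X : Scheme.{u}} [IsLocallyNoetherian X] {U : X.Opens}
    (hU : GrothLib.Depth.DepthTwoOutside U) : (FEt.restrict U.ι).Full ∧ (FEt.restrict U.ι).Faithful :=
  fullyFaithful_of_clopen U.ι
    (clopenInj_of_denseRange _ (denseRange_of_app_bijective _ (app_ι_bijective_of_depthTwo hU)))
    (clopenSurj_of_app_bijective _ (app_ι_bijective_of_depthTwo hU))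

/-- The depth of a stalk of `Spec B` is the depth of the localization. -/
theorem depth_stalk_Spec (B : Type u) [CommRing B] (x : PrimeSpectrum B) :
    LocCoh.depth ((Spec (CommRingCat.of B)).presheaf.stalk x) ((Spec (CommRingCat.of B)).presheaf.stalk x) =
      LocCoh.depth (Localization.AtPrime x.asIdeal) (Localization.AtPrime x.asIdeal) := by
  let σ : ((Spec (CommRingCat.of B)).presheaf.stalk x) ≃+* Localization.AtPrime x.asIdeal :=
    (AlgebraicGeometry.StructureSheaf.stalkIso (CommRingCat.of B) x).symm.toRingEquiv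
  unfold LocCoh.depth
  refine (GrothLib.FiniteQuot.idealDepth_congr σ σ.toAddEquiv (fun r y => map_mul σ r y)
    (IsLocalRing.maximalIdeal _)).trans ?_
  exact congrArg (fun I => LocCoh.idealDepth I (Localization.AtPrime x.asIdeal))
    (IsLocalRing.eq_maximalIdeal (Ideal.map_isMaximal_of_equiv σ))

theorem depthTwoOutside_puncturedSpec (A : Type u) [CommRing A] [IsLocalRing A]
    (hA : (2 : ℕ∞) ≤ LocCoh.depth A A) : GrothLib.Depth.DepthTwoOutside (FEt.puncturedSpec A) := by
  intro x hx
  obtain rfl : x = IsLocalRing.closedPoint A := not_not.mp hx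
  rw [depth_stalk_Spec]
  let σ := (IsLocalization.atUnits A (IsLocalRing.maximalIdeal A).primeCompl (S :=
    Localization.AtPrime (IsLocalRing.maximalIdeal A))
    (fun a ha => by by_contra h; exact ha ((IsLocalRing.mem_maximalIdeal a).2 h))).toRingEquiv
  refine hA.trans_eq ?_
  unfold LocCoh.depth
  rw [GrothLib.FiniteQuot.idealDepth_congr σ σ.toAddEquiv (fun r y => map_mul σ r y)]
  congr 1
  exact IsLocalRing.eq_maximalIdeal (Ideal.map_isMaximal_of_equiv σ)

/-- Sections of a finite algebra over the preimage of the punctured spectrum. -/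
theorem depthTwoOutside_preimage_puncturedSpec (A B : Type u) [CommRing A] [IsLocalRing A] [CommRing B]
    [Algebra A B] [Module.Finite A B]
    (h : ∀ (m : Ideal B) (_ : m.IsMaximal), (2 : ℕ∞) ≤ LocCoh.depth (Localization.AtPrime m) (Localization.AtPrime m)) :
    GrothLib.Depth.DepthTwoOutside
      (Spec.map (CommRingCat.ofHom (algebraMap A B)) ⁻¹ᵁ FEt.puncturedSpec A) := by
  intro x hx
  have hx' : Spec.map (CommRingCat.ofHom (algebraMap A B)) x = IsLocalRing.closedPoint A := not_not.mp hx
  have hm : x.asIdeal.IsMaximal := by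
    refine Ideal.isMaximal_of_isIntegral_of_isMaximal_comap (R := A) x.asIdeal ?_
    have : x.asIdeal.comap (algebraMap A B) = IsLocalRing.maximalIdeal A :=
      congrArg PrimeSpectrum.asIdeal hx'
    rw [this]
    exact IsLocalRing.maximalIdeal.isMaximal A
  rw [depth_stalk_Spec]
  exact h x.asIdeal hm

end GrothLib.FEt21
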