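import Groth.Agent.Lib.FEt21.Clopen
import Groth.Agent.Lib.Hensel.ClopenLift
import Groth.Agent.Lib.Hensel.FiniteEtaleLift

/-!
# Finite étale covers along henselian pairs
-/

set_option autoImplicit false
set_option backward.isDefEq.respectTransparency false

universe u

open CategoryTheory CategoryTheory.Limits AlgebraicGeometry TensorProduct

namespace GrothLib.FEt21

variable (A : Type u) [CommRing A] (I : Ideal A) [HenselianRing A I]

local notation "q" => Spec.map (CommRingCat.ofHom (Ideal.Quotient.mk I))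

theorem clopenInj_of_henselian (B : FEt.Cat (Spec (CommRingCat.of A))) : ClopenInj q B := by
  intro D hD he
  exact ((Hensel.henselianRing_iff_clopen_lift A I).1 ‹_› _ B.hom B.prop.1 ∅ isClopen_empty).unique
    ⟨hD, he⟩ ⟨isClopen_empty, Set.preimage_empty⟩

theorem clopenSurj_of_henselian (B : FEt.Cat (Spec (CommRingCat.of A))) : ClopenSurj q B :=
  fun C hC => ((Hensel.henselianRing_iff_clopen_lift A I).1 ‹_› _ B.hom B.prop.1 C hC).exists

theorem essSurj_of_henselian : (FEt.restrict q).EssSurj := by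
  refine ⟨fun V => ?_⟩
  let v : V.left ⟶ Spec (CommRingCat.of (A ⧸ I)) := V.hom
  haveI : IsFinite v := V.prop.1
  haveI : Etale v := V.prop.2
  haveI : IsAffine V.left := isAffine_of_isAffineHom v
  obtain ⟨φ, hφ⟩ := Spec.map_surjective (V.left.isoSpec.inv ≫ v)
  haveI h1 : IsFinite (Spec.map φ) := by rw [hφ]; infer_instance
  haveI h2 : Etale (Spec.map φ) := by rw [hφ]; infer_instance
  rw [IsFinite.SpecMap_iff] at h1
  rw [HasRingHomProperty.Spec_iff (P := @Etale)] at h2
  algebraize [φ.hom]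
  obtain ⟨B, _, _, _, _, ⟨e⟩⟩ := Hensel.exists_finite_etale_lift I Γ(V.left, ⊤)
  let b : Spec (CommRingCat.of B) ⟶ Spec (CommRingCat.of A) :=
    Spec.map (CommRingCat.ofHom (algebraMap A B))
  haveI : IsFinite b := (IsFinite.SpecMap_iff _).2 (RingHom.finite_algebraMap.2 ‹_›)
  haveI : Etale b := (HasRingHomProperty.Spec_iff (P := @Etale)).2 (RingHom.etale_algebraMap.2 ‹_›)
  refine ⟨MorphismProperty.Over.mk ⊤ b (prop_of b), ⟨MorphismProperty.Over.isoMk ?_ ?_⟩⟩
  · exact (pullbackSymmetry _ _) ≪≫ (pullbackSpecIso A (A ⧸ I) B) ≪≫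
      Scheme.Spec.mapIso e.toRingEquiv.symm.toCommRingCatIso.op ≪≫ V.left.isoSpec.symm
  · have he : Spec.map (CommRingCat.ofHom (e.symm : Γ(V.left, ⊤) →+* (A ⧸ I) ⊗[A] B)) ≫ Spec.map φ =
        Spec.map (CommRingCat.ofHom (algebraMap (A ⧸ I) ((A ⧸ I) ⊗[A] B))) := by
      rw [← Spec.map_comp]
      congr 1
      ext x
      exact e.symm.commutes x
    show ((pullbackSymmetry b q).hom ≫ (pullbackSpecIso A (A ⧸ I) B).hom ≫
      Spec.map (CommRingCat.ofHom (e.symm : Γ(V.left, ⊤) →+* (A ⧸ I) ⊗[A] B)) ≫ V.left.isoSpec.inv) ≫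
        v = pullback.snd b q
    simp only [Category.assoc]
    rw [← hφ, he]
    erw [pullbackSpecIso_hom_fst']
    exact pullbackSymmetry_hom_comp_fst _ _

theorem isEquivalence_of_henselian : (FEt.restrict q).IsEquivalence := by
  obtain ⟨_, _⟩ := fullyFaithful_of_clopen q (clopenInj_of_henselian A I) (clopenSurj_of_henselian A I)
  haveI := essSurj_of_henselian A I
  exact {}

end GrothLib.FEt21
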