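import Groth.Agent.Lib.FEt21.Graph
import Mathlib.AlgebraicGeometry.Morphisms.UniversallyInjective
import Mathlib.AlgebraicGeometry.PullbackCarrier

/-!
# Criteria for the clopen subsets of a cover to survive base change
-/

set_option autoImplicit false
set_option backward.isDefEq.respectTransparency false

universe u

open CategoryTheory CategoryTheory.Limits AlgebraicGeometry

namespace GrothLib.FEt21

variable {X Y : Scheme.{u}} (f : X ⟶ Y)

theorem isClopen_image_hom {A : FEt.Cat Y} {D : Set A.left} (hD : IsClopen D) :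
    IsClopen (A.hom '' D) := by
  have := A.prop.1
  have := A.prop.2
  exact ⟨A.hom.isClosedMap _ hD.1, A.hom.isOpenMap _ hD.2⟩

/-- A clopen subset with empty pullback lies over the complement of the image. -/
theorem image_disjoint_range {A : FEt.Cat Y} {D : Set A.left}
    (h : (pullback.fst A.hom f) ⁻¹' D = ∅) : Disjoint (A.hom '' D) (Set.range f) := by
  rw [Set.disjoint_left]
  rintro _ ⟨d, hd, rfl⟩ ⟨x, hx⟩
  obtain ⟨p, hp, -⟩ := Scheme.Pullback.exists_preimage_pullback (f := A.hom) (g := f) d x hx.symm
  exact Set.eq_empty_iff_forall_notMem.1 h p (by change pullback.fst A.hom f p ∈ D; rwa [hp])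

theorem clopenInj_of_denseRange (h : DenseRange f) (A : FEt.Cat Y) : ClopenInj f A := by
  intro D hD he
  by_contra hne
  obtain ⟨d, hd⟩ := Set.nonempty_iff_ne_empty.2 hne
  obtain ⟨y, hy⟩ := h.exists_mem_open (isClopen_image_hom hD).2 ⟨_, d, hd, rfl⟩
  exact Set.disjoint_left.1 (image_disjoint_range f he) hy ⟨y, rfl⟩

theorem clopenInj_of_surjective [Surjective f] (A : FEt.Cat Y) : ClopenInj f A := by
  intro D _ he
  refine Set.eq_empty_of_forall_notMem fun d hd => ?_
  exact Set.disjoint_left.1 (image_disjoint_range f he) ⟨d, hd, rfl⟩ (f.surjective _)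

theorem clopenInj_of_meets_components (h : ∀ y : Y, (connectedComponent y ∩ Set.range f).Nonempty)
    (A : FEt.Cat Y) : ClopenInj f A := by
  intro D hD he
  refine Set.eq_empty_of_forall_notMem fun d hd => ?_
  obtain ⟨y, hy, hyf⟩ := h (A.hom d)
  exact Set.disjoint_left.1 (image_disjoint_range f he)
    ((isClopen_image_hom hD).connectedComponent_subset ⟨d, hd, rfl⟩ hy) hyf

/-- Over each point of a cover there is a geometric point along which the pullback is preconnected. -/
def ConnFibres (A : FEt.Cat Y) : Prop :=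
  ∀ z : A.left, ∃ (Ω : Type u) (_ : Field Ω) (t : Spec (CommRingCat.of Ω) ⟶ A.left),
    t default = z ∧ PreconnectedSpace ↥(pullback f (t ≫ A.hom))

/-- Two points of the pullback over the same point lie in the same clopen subsets. -/
theorem mem_clopen_of_connFibres {A : FEt.Cat Y} (h : ConnFibres f A)
    {C : Set (pullback A.hom f : Scheme.{u})} (hC : IsClopen C) {p q : (pullback A.hom f : Scheme.{u})}
    (hpq : pullback.fst A.hom f p = pullback.fst A.hom f q) (hp : p ∈ C) : q ∈ C := by
  obtain ⟨Ω, _, t, ht, hconn⟩ := h (pullback.fst A.hom f p)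
  let m : pullback f (t ≫ A.hom) ⟶ pullback A.hom f :=
    pullback.lift (pullback.snd _ _ ≫ t) (pullback.fst _ _)
      (by rw [Category.assoc, ← pullback.condition])
  have hsq : IsPullback m (pullback.snd f (t ≫ A.hom)) (pullback.fst A.hom f) t := by
    refine IsPullback.of_right ?_ (pullback.lift_fst _ _ _) (IsPullback.of_hasPullback A.hom f).flip
    rw [pullback.lift_snd]
    exact IsPullback.of_hasPullback f (t ≫ A.hom)
  obtain ⟨p', hp'⟩ : p ∈ Set.range m := by
    obtain ⟨p', hp', -⟩ := Scheme.exists_preimage_of_isPullback hsq p default ht.symm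
    exact ⟨p', hp'⟩
  obtain ⟨q', hq'⟩ : q ∈ Set.range m := by
    obtain ⟨q', hq', -⟩ := Scheme.exists_preimage_of_isPullback hsq q default (hpq.symm.trans ht.symm)
    exact ⟨q', hq'⟩
  rcases isClopen_iff.1 (hC.preimage m.continuous) with h0 | h0
  · exact absurd (show p' ∈ m ⁻¹' C by change m p' ∈ C; rwa [hp']) (by rw [h0]; simp)
  · rw [← hq']
    exact (h0 ▸ Set.mem_univ q' : q' ∈ m ⁻¹' C)

/-- With connected fibres, clopen subsets descend along closed surjective maps. -/
theorem clopenSurj_of_connFibres [Surjective f] (A : FEt.Cat Y) (h : ConnFibres f A)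
    (hcl : IsClosedMap (pullback.fst A.hom f)) : ClopenSurj f A := by
  intro C hC
  have hsat : (pullback.fst A.hom f) ⁻¹' (pullback.fst A.hom f '' C) = C :=
    Set.Subset.antisymm (fun q ⟨p, hp, hpq⟩ => mem_clopen_of_connFibres f h hC hpq hp)
      (Set.subset_preimage_image _ _)
  refine ⟨pullback.fst A.hom f '' C, ⟨hcl _ hC.1, ?_⟩, hsat⟩
  have hs : Function.Surjective (pullback.fst A.hom f) := (pullback.fst A.hom f).surjective
  have : (pullback.fst A.hom f '' C)ᶜ = pullback.fst A.hom f '' Cᶜ := by
    ext z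
    obtain ⟨p, rfl⟩ := hs z
    constructor
    · exact fun hz => ⟨p, fun hp => hz ⟨p, hp, rfl⟩, rfl⟩
    · rintro ⟨q, hq, hqp⟩ ⟨r, hr, hrp⟩
      exact hq (mem_clopen_of_connFibres f h hC (hrp.trans hqp.symm) hr)
  rw [← isClosed_compl_iff, this]
  exact hcl _ hC.compl.1

theorem clopenSurj_of_universallyInjective [IsIntegralHom f] [UniversallyInjective f] [Surjective f]
    (A : FEt.Cat Y) : ClopenSurj f A := by
  intro C hC
  have : UniversallyInjective (pullback.fst A.hom f) :=
    MorphismProperty.pullback_fst _ _ inferInstance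
  have hbij : Function.Bijective (pullback.fst A.hom f) :=
    ⟨(pullback.fst A.hom f).injective, (pullback.fst A.hom f).surjective⟩
  have hcl : IsClosedMap (pullback.fst A.hom f) := (pullback.fst A.hom f).isClosedMap
  refine ⟨pullback.fst A.hom f '' C, ⟨hcl _ hC.1, ?_⟩, Set.preimage_image_eq _ hbij.1⟩
  rw [← isClosed_compl_iff, ← Set.image_compl_eq hbij]
  exact hcl _ hC.compl.1

end GrothLib.FEt21
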