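import Groth.Agent.Lib.FEt21.Graph
import Groth.Agent.Lib.SchEffective.Affine
import Groth.Agent.Lib.DDFull.Basic
import Groth.Agent.Lib.AlgSp.AffineDescent
import Mathlib.AlgebraicGeometry.Sites.EtalePoint
import Mathlib.AlgebraicGeometry.Sites.Fpqc

/-!
# Essential surjectivity of base change can be checked étale locally

If base change along `f` is fully faithful after every étale base change, a finite étale cover of
the source comes from the target as soon as it does so on the members of an étale covering.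
-/

set_option autoImplicit false
set_option backward.isDefEq.respectTransparency false

universe u

open CategoryTheory CategoryTheory.Limits AlgebraicGeometry Desc

namespace GrothLib.FEt21

variable {X Y : Scheme.{u}} (f : X ⟶ Y)

/-- Base change along `f` is fully faithful over every étale `Y`-scheme. -/
def EtaleFF : Prop :=
  ∀ ⦃Z : Scheme.{u}⦄ (g : Z ⟶ Y), Etale g →
    (FEt.restrict (pullback.fst g f)).Full ∧ (FEt.restrict (pullback.fst g f)).Faithful

variable {f}

/-- Morphisms into a cover descend from `X`. -/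
theorem EtaleFF.existsUnique_lift (hH : EtaleFF f) {Z S : Scheme.{u}} (g : Z ⟶ Y) [Etale g]
    (B : FEt.Cat S) (a : Z ⟶ S) (t : pullback g f ⟶ B.left) (ht : t ≫ B.hom = pullback.fst g f ≫ a) :
    ∃! s : Z ⟶ B.left, s ≫ B.hom = a ∧ pullback.fst g f ≫ s = t := by
  obtain ⟨_, _⟩ := hH g inferInstance
  let F := FEt.restrict (pullback.fst g f)
  let W : FEt.Cat Z := (FEt.restrict a).obj B
  let e : FEt.Cat Z := MorphismProperty.Over.mk ⊤ (𝟙 Z) (prop_of (𝟙 Z))
  let ψl : pullback (𝟙 Z) (pullback.fst g f) ⟶ pullback (pullback.snd B.hom a) (pullback.fst g f) :=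
    pullback.lift (pullback.lift (pullback.snd _ _ ≫ t) (pullback.snd _ _ ≫ pullback.fst g f)
      (by rw [Category.assoc, ht, ← Category.assoc])) (pullback.snd _ _) (pullback.lift_snd _ _ _)
  let ψ : F.obj e ⟶ F.obj W := MorphismProperty.Over.homMk ψl (pullback.lift_snd _ _ _)
  obtain ⟨φ, hφ⟩ := F.map_surjective ψ
  let d : pullback g f ⟶ pullback (𝟙 Z) (pullback.fst g f) :=
    pullback.lift (pullback.fst g f) (𝟙 _) (by simp)
  have key : ∀ φ : e ⟶ W, (F.map φ).left ≫ pullback.fst _ _ = pullback.fst _ _ ≫ φ.left :=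
    fun φ => pullback.lift_fst _ _ _
  have hw : ∀ φ : e ⟶ W, φ.left ≫ pullback.snd B.hom a = 𝟙 Z := fun φ => Over.w φ.hom
  refine ⟨φ.left ≫ pullback.fst B.hom a, ⟨?_, ?_⟩, ?_⟩
  · show (φ.left ≫ pullback.fst B.hom a) ≫ B.hom = a
    rw [Category.assoc, pullback.condition]
    exact (Category.assoc _ _ _).symm.trans ((congrArg (· ≫ a) (hw φ)).trans (Category.id_comp a))
  · have h1 : ψl ≫ pullback.fst _ _ = pullback.fst _ _ ≫ φ.left :=
      (congrArg (fun m : F.obj e ⟶ F.obj W => m.left ≫ pullback.fst _ _) hφ).symm.trans (key φ)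
    have h2 := congrArg (fun m => d ≫ m ≫ pullback.fst B.hom a) h1
    simp only [ψl, pullback.lift_fst, Category.assoc, d, pullback.lift_fst_assoc,
      pullback.lift_snd_assoc, Category.id_comp] at h2
    exact h2.symm
  · rintro s ⟨hs, hs'⟩
    let φ' : e ⟶ W := MorphismProperty.Over.homMk (pullback.lift s (𝟙 Z) (hs.trans (Category.id_comp a).symm))
      (pullback.lift_snd _ _ _)
    have hFF : F.map φ' = ψ := by
      ext : 1
      apply pullback.hom_ext
      · rw [key φ']
        show pullback.fst _ _ ≫ pullback.lift s (𝟙 Z) _ = ψl ≫ pullback.fst _ _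
        apply pullback.hom_ext
        · simp only [ψl, Category.assoc, pullback.lift_fst]
          rw [← hs', ← Category.assoc, ← pullback.condition, Category.comp_id]
        · simp only [ψl, Category.assoc, pullback.lift_fst, pullback.lift_snd]
          exact pullback.condition
      · exact (pullback.lift_snd _ _ _).trans (pullback.lift_snd _ _ _).symm
    have hφφ : φ' = φ := F.map_injective (hFF.trans hφ.symm)
    rw [← hφφ]
    exact (pullback.lift_fst _ _ _).symm

section Local

variable {ι : Type u} {Yi : ι → Scheme.{u}} (u : ∀ i, Yi i ⟶ Y) [∀ i, Etale (u i)]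
  (V : FEt.Cat X) (A : ∀ i, FEt.Cat (Yi i))
  (m : ∀ i, pullback ((A i).hom ≫ u i) f ⟶ V.left)
  (hm : ∀ i, IsPullback (pullback.fst _ f ≫ (A i).hom) (m i) (u i) (V.hom ≫ f))
  (hmv : ∀ i, m i ≫ V.hom = pullback.snd _ _)

/-- The relation scheme of two local models. -/
noncomputable abbrev Rel₂ (i j : ι) : Scheme.{u} := pullback ((A i).hom ≫ u i) (u j)

noncomputable abbrev rel₂Hom (i j : ι) : Rel₂ u A i j ⟶ Y := pullback.snd _ _ ≫ u j

/-- The transition map over `X`. -/
noncomputable def trans₀ (i j : ι) : pullback (rel₂Hom u A i j) f ⟶ pullback ((A j).hom ≫ u j) f :=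
  (hm j).lift (pullback.fst _ _ ≫ pullback.snd _ _)
    (pullback.lift (pullback.fst _ _ ≫ pullback.fst _ _) (pullback.snd _ _) (by
      simp only [Category.assoc]; rw [pullback.condition]; exact pullback.condition) ≫ m i) (by
    simp only [Category.assoc]
    rw [reassoc_of% (hmv i), pullback.lift_snd_assoc]
    exact pullback.condition)

include hm hmv in
theorem trans₀_snd (i j : ι) : trans₀ u V A m hm hmv i j ≫ pullback.snd _ _ = pullback.snd _ _ := by
  rw [← hmv j, ← Category.assoc]
  erw [(hm j).lift_snd]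
  rw [Category.assoc, hmv i, pullback.lift_snd]

theorem trans₀_fst_hom (i j : ι) : trans₀ u V A m hm hmv i j ≫ pullback.fst _ _ ≫ (A j).hom =
    pullback.fst _ _ ≫ pullback.snd _ _ :=
  (hm j).lift_fst _ _ _

theorem trans₀_m (i j : ι) : trans₀ u V A m hm hmv i j ≫ m j =
    pullback.lift (pullback.fst (rel₂Hom u A i j) f ≫ pullback.fst _ _) (pullback.snd _ _) (by
      simp only [Category.assoc]; rw [pullback.condition]; exact pullback.condition) ≫ m i :=
  (hm j).lift_snd _ _ _

variable (hH : EtaleFF f)
include hm hmv hH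

/-- The transition maps. -/
theorem exists_trans (i j : ι) : ∃ s : Rel₂ u A i j ⟶ (A j).left, s ≫ (A j).hom = pullback.snd _ _ ∧
    pullback.fst (rel₂Hom u A i j) f ≫ s = trans₀ u V A m hm hmv i j ≫ pullback.fst _ _ := by
  haveI : Etale (A i).hom := (A i).prop.2
  haveI : Etale ((A i).hom ≫ u i) := inferInstance
  obtain ⟨s, hs, -⟩ := hH.existsUnique_lift (rel₂Hom u A i j) (A j) (pullback.snd _ _)
    (trans₀ u V A m hm hmv i j ≫ pullback.fst _ _)
    ((Category.assoc _ _ _).trans (trans₀_fst_hom u V A m hm hmv i j))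
  exact ⟨s, hs⟩

variable (s : ∀ i j, Rel₂ u A i j ⟶ (A j).left) (hs : ∀ i j, s i j ≫ (A j).hom = pullback.snd _ _)
  (hs' : ∀ i j, pullback.fst (rel₂Hom u A i j) f ≫ s i j = trans₀ u V A m hm hmv i j ≫ pullback.fst _ _)
include hs hs'

theorem diag_trans (i : ι) :
    pullback.lift (𝟙 _) (A i).hom (Category.id_comp _) ≫ s i i = 𝟙 (A i).left := by
  haveI : Etale (A i).hom := (A i).prop.2
  haveI : Etale ((A i).hom ≫ u i) := inferInstance
  refine (hH.existsUnique_lift ((A i).hom ≫ u i) (A i) (A i).hom (pullback.fst _ _) rfl).unique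
    ⟨?_, ?_⟩ ⟨Category.id_comp _, Category.comp_id _⟩
  · rw [Category.assoc, hs i i, pullback.lift_snd]
  · let d : (A i).left ⟶ Rel₂ u A i i := pullback.lift (𝟙 _) (A i).hom (Category.id_comp _)
    let d' : pullback ((A i).hom ≫ u i) f ⟶ pullback (rel₂Hom u A i i) f :=
      pullback.lift (pullback.fst _ _ ≫ d) (pullback.snd _ _) (by
        simp only [d, Category.assoc, pullback.lift_snd_assoc]; exact pullback.condition)
    have h1 : d' ≫ trans₀ u V A m hm hmv i i = 𝟙 _ := by
      apply (hm i).hom_ext
      · rw [Category.assoc, trans₀_fst_hom]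
        simp [d', d]
      · rw [Category.assoc, trans₀_m, ← Category.assoc, Category.id_comp]
        nth_rw 2 [← Category.id_comp (m i)]
        congr 1
        apply pullback.hom_ext <;> simp [d', d]
    calc pullback.fst _ _ ≫ d ≫ s i i = d' ≫ pullback.fst _ _ ≫ s i i := by
          simp [d']
      _ = pullback.fst _ _ := by rw [hs' i i, ← Category.assoc, h1, Category.id_comp]

theorem cocycle {T : Scheme.{u}} {i j k : ι} (v : T ⟶ (A i).left) (x₁ : T ⟶ Yi j) (x₂ : T ⟶ Yi k)
    (h₁ : v ≫ (A i).hom ≫ u i = x₁ ≫ u j) (h₁₂ : x₁ ≫ u j = x₂ ≫ u k) :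
    pullback.lift (pullback.lift v x₁ h₁ ≫ s i j) x₂ (by
        simp only [Category.assoc]; rw [reassoc_of% (hs i j), pullback.lift_snd_assoc]; exact h₁₂) ≫ s j k =
      pullback.lift v x₂ (h₁.trans h₁₂) ≫ s i k := by
  haveI : Etale (A i).hom := (A i).prop.2
  haveI : Etale ((A i).hom ≫ u i) := inferInstance
  let g := rel₂Hom u A i j
  haveI : Etale g := inferInstance
  let Z₃ := pullback g (u k)
  let g₃ : Z₃ ⟶ Y := pullback.snd _ _ ≫ u k
  have hc₁ : (pullback.fst g (u k) ≫ s i j) ≫ (A j).hom ≫ u j = pullback.snd g (u k) ≫ u k := by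
    rw [Category.assoc, reassoc_of% (hs i j)]
    exact pullback.condition
  have hc₂ : (pullback.fst g (u k) ≫ pullback.fst _ _) ≫ (A i).hom ≫ u i = pullback.snd g (u k) ≫ u k := by
    rw [Category.assoc, pullback.condition]
    exact pullback.condition
  let r₁ : Z₃ ⟶ Rel₂ u A j k := pullback.lift (pullback.fst _ _ ≫ s i j) (pullback.snd _ _) hc₁
  let r₂ : Z₃ ⟶ Rel₂ u A i k := pullback.lift (pullback.fst _ _ ≫ pullback.fst _ _) (pullback.snd _ _) hc₂
  have key : r₁ ≫ s j k = r₂ ≫ s i k := by
    let R₁ : pullback g₃ f ⟶ pullback (rel₂Hom u A j k) f :=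
      pullback.lift (pullback.fst _ _ ≫ r₁) (pullback.snd _ _) (by
        simp only [r₁, rel₂Hom, Category.assoc, pullback.lift_snd_assoc]; exact pullback.condition)
    let R₂ : pullback g₃ f ⟶ pullback (rel₂Hom u A i k) f :=
      pullback.lift (pullback.fst _ _ ≫ r₂) (pullback.snd _ _) (by
        simp only [r₂, rel₂Hom, Category.assoc, pullback.lift_snd_assoc]; exact pullback.condition)
    let R₀ : pullback g₃ f ⟶ pullback g f :=
      pullback.lift (pullback.fst _ _ ≫ pullback.fst _ _) (pullback.snd _ _) (by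
        rw [Category.assoc, pullback.condition]; exact pullback.condition)
    have hR : R₁ ≫ trans₀ u V A m hm hmv j k = R₂ ≫ trans₀ u V A m hm hmv i k := by
      apply (hm k).hom_ext
      · rw [Category.assoc, Category.assoc, trans₀_fst_hom, trans₀_fst_hom]
        simp [R₁, R₂, r₁, r₂]
      · rw [Category.assoc, Category.assoc, trans₀_m, trans₀_m, ← Category.assoc, ← Category.assoc R₂]
        have e1 : R₁ ≫ pullback.lift (pullback.fst _ _ ≫ pullback.fst _ _) (pullback.snd _ _)
            (by simp only [Category.assoc]; rw [pullback.condition]; exact pullback.condition) =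
            R₀ ≫ trans₀ u V A m hm hmv i j := by
          apply pullback.hom_ext
          · rw [Category.assoc, pullback.lift_fst, Category.assoc R₀, ← hs' i j]
            simp [R₁, R₀, r₁, g]
          · rw [Category.assoc, pullback.lift_snd, Category.assoc R₀, trans₀_snd]
            simp [R₁, R₀, g]
        rw [e1, Category.assoc, trans₀_m, ← Category.assoc]
        congr 1
        apply pullback.hom_ext <;> simp [R₂, R₀, r₂, g]
    refine (hH.existsUnique_lift g₃ (A k) (pullback.snd _ _)
      (R₁ ≫ trans₀ u V A m hm hmv j k ≫ pullback.fst _ _) (by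
        simp only [Category.assoc]; rw [trans₀_fst_hom]; simp [R₁, r₁])).unique ⟨?_, ?_⟩ ⟨?_, ?_⟩
    · rw [Category.assoc, hs j k, pullback.lift_snd]
    · rw [← hs' j k]; simp [R₁]
    · rw [Category.assoc, hs i k, pullback.lift_snd]
    · rw [← Category.assoc R₁, hR, Category.assoc, ← hs' i k]; simp [R₂]
  let l : T ⟶ Z₃ := pullback.lift (pullback.lift v x₁ h₁) x₂ (by
    simp only [g, rel₂Hom, pullback.lift_snd_assoc]; exact h₁₂)
  have hk := congrArg (fun t => l ≫ t) key
  simp only [← Category.assoc] at hk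
  refine Eq.trans ?_ (hk.trans ?_)
  · congr 1
    apply pullback.hom_ext <;> simp [l, r₁]
  · congr 1
    apply pullback.hom_ext <;> simp [l, r₂]

theorem cond_of {T : Scheme.{u}} {i j : ι} {x₀ : T ⟶ Yi i} {x₁ : T ⟶ Yi j} (h : x₀ ≫ u i = x₁ ≫ u j)
    (v : Lifts (Over.mk (A i).hom) x₀) : v.1 ≫ (A i).hom ≫ u i = x₁ ≫ u j := by
  have := v.2
  simp only [Over.mk_hom] at this
  rw [reassoc_of% this]
  exact h

/-- The descent datum of the local models. -/
noncomputable def localDD : SchDDFam u where
  obj i := Over.mk (A i).hom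
  φ T i j x₀ x₁ h :=
    { toFun := fun v => ⟨pullback.lift v.1 x₁ (cond_of u V A m hm hmv hH s hs hs' h v) ≫ s i j, by
        simp only [Over.mk_hom, Category.assoc, hs i j, pullback.lift_snd]⟩
      invFun := fun v => ⟨pullback.lift v.1 x₀ (cond_of u V A m hm hmv hH s hs hs' h.symm v) ≫ s j i, by
        simp only [Over.mk_hom, Category.assoc, hs j i, pullback.lift_snd]⟩
      left_inv := fun v => Subtype.ext (by
        refine (cocycle u V A m hm hmv hH s hs hs' v.1 x₁ x₀ (cond_of u V A m hm hmv hH s hs hs' h v) h.symm).trans ?_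
        have hv := v.2
        simp only [Over.mk_hom] at hv
        refine Eq.trans ?_ ((congrArg (fun t => v.1 ≫ t) (diag_trans u V A m hm hmv hH s hs hs' i)).trans (Category.comp_id v.1))
        refine Eq.trans ?_ (Category.assoc _ _ _)
        congr 1
        apply pullback.hom_ext <;> simp [hv])
      right_inv := fun v => Subtype.ext (by
        refine (cocycle u V A m hm hmv hH s hs hs' v.1 x₀ x₁ (cond_of u V A m hm hmv hH s hs hs' h.symm v) h).trans ?_
        have hv := v.2
        simp only [Over.mk_hom] at hv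
        refine Eq.trans ?_ ((congrArg (fun t => v.1 ≫ t) (diag_trans u V A m hm hmv hH s hs hs' j)).trans (Category.comp_id v.1))
        refine Eq.trans ?_ (Category.assoc _ _ _)
        congr 1
        apply pullback.hom_ext <;> simp [hv]) }
  φ_natural T T' k i j x₀ x₁ h y₀ y₁ hy₀ hy₁ h' v v' hv' := by
    simp only [Equiv.coe_fn_mk, ← Category.assoc]
    congr 1
    apply pullback.hom_ext <;> simp [hv', hy₁]
  φ_self T i x v := Subtype.ext (by
    have hv := v.2
    simp only [Over.mk_hom] at hv
    simp only [Equiv.coe_fn_mk]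
    refine Eq.trans ?_ ((congrArg (fun t => v.1 ≫ t) (diag_trans u V A m hm hmv hH s hs hs' i)).trans (Category.comp_id v.1))
    refine Eq.trans ?_ (Category.assoc _ _ _)
    congr 1
    apply pullback.hom_ext <;> simp [hv])
  φ_comp T i j k x₀ x₁ x₂ h₀₁ h₁₂ v := Subtype.ext
    (cocycle u V A m hm hmv hH s hs hs' v.1 x₁ x₂ (cond_of u V A m hm hmv hH s hs hs' h₀₁ v) h₁₂)

omit hs hs'

/-- Essential surjectivity is étale local on the target. -/
theorem exists_restrict_iso (hcov : ∀ y : Y, ∃ i, y ∈ Set.range (u i)) :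
    ∃ U : FEt.Cat Y, Nonempty ((FEt.restrict f).obj U ≅ V) := by
  choose s hs hs' using exists_trans u V A m hm hmv hH
  let D := localDD u V A m hm hmv hH s hs hs'
  have hu : Presieve.ofArrows Yi u ∈ Scheme.fpqcPrecoverage Y := by
    refine Scheme.fppfPrecoverage_le_fpqcPrecoverage Y ?_
    rw [Scheme.fppfPrecoverage, Scheme.ofArrows_mem_precoverage_iff]
    exact ⟨fun y => hcov y, fun i => ⟨inferInstance, inferInstance⟩⟩
  obtain ⟨U, ⟨e⟩⟩ := SchEffective.isEffective_of_isAffineHom u hu D (fun i => by
    have := (A i).prop.1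
    exact (inferInstance : IsAffineHom (A i).hom))
  have ew : ∀ i, ((e.inv).hom i).left ≫ pullback.fst (u i) U.hom = (A i).hom := fun i => Over.w (e.inv.hom i)
  have ei : ∀ i, IsIso ((e.hom).hom i).left := fun i => by
    haveI : IsIso ((e.hom).hom i) :=
      ⟨(e.inv).hom i, congrFun (congrArg SchDDFam.Hom.hom e.hom_inv_id) i,
        congrFun (congrArg SchDDFam.Hom.hom e.inv_hom_id) i⟩
    exact ((Over.forget _).mapIso (asIso ((e.hom).hom i))).isIso_hom
  -- the descended scheme is a finite étale cover
  have hprop : ∀ i, FEt.prop (pullback.fst (u i) U.hom) := fun i => by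
    haveI := ei i
    have h1 : ((e.hom).hom i).left ≫ (A i).hom = pullback.fst (u i) U.hom := Over.w (e.hom.hom i)
    rw [← h1]
    exact (FEt.prop.cancel_left_of_respectsIso _ _).2 (A i).prop
  have hUprop : FEt.prop U.hom := by
    let O : ι → Y.Opens := fun i => ⟨Set.range (u i), (u i).isOpenMap.isOpen_range⟩
    have hO : TopologicalSpace.IsOpenCover O := TopologicalSpace.IsOpenCover.mk (eq_top_iff.2 fun y _ => by
      obtain ⟨i, hi⟩ := hcov y
      exact TopologicalSpace.Opens.mem_iSup.2 ⟨i, hi⟩)
    have main : ∀ (P : MorphismProperty Scheme.{u}) [IsZariskiLocalAtTarget P], AlgSp.FppfDescends P →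
        (∀ i, P (pullback.fst (u i) U.hom)) → P U.hom := by
      intro P _ hP hi
      refine IsZariskiLocalAtTarget.of_iSup_eq_top O hO.iSup_eq_top fun i => ?_
      have hr : Set.range (u i) ⊆ Set.range (O i).ι := by rw [Scheme.Opens.range_ι]; exact subset_rfl
      let u' := IsOpenImmersion.lift (O i).ι (u i) hr
      have hu' : u' ≫ (O i).ι = u i := IsOpenImmersion.lift_fac _ _ hr
      haveI : Etale u' := by
        haveI : Etale (u' ≫ (O i).ι) := by rw [hu']; infer_instance
        exact Etale.of_comp u' (O i).ι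
      haveI : Surjective u' := ⟨fun z => by
        obtain ⟨w, hw⟩ : (O i).ι z ∈ Set.range (u i) := z.2
        refine ⟨w, (O i).ι.isOpenEmbedding.injective ?_⟩
        rw [← Scheme.Hom.comp_apply, hu']; exact hw⟩
      have sqr := isPullback_morphismRestrict U.hom (O i)
      let c' : pullback (u i) U.hom ⟶ (U.hom ⁻¹ᵁ O i : Scheme.{u}) :=
        sqr.lift (pullback.fst (u i) U.hom ≫ u') (pullback.snd (u i) U.hom) (by
          rw [Category.assoc, hu']; exact pullback.condition)
      have sq : IsPullback c' (pullback.fst (u i) U.hom) (U.hom ∣_ O i) u' := by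
        refine IsPullback.of_right (h₁₂ := (U.hom ⁻¹ᵁ O i).ι) (h₂₂ := (O i).ι) ?_ (sqr.lift_fst _ _ _) sqr.flip
        rw [sqr.lift_snd, hu']
        exact (IsPullback.of_hasPullback (u i) U.hom).flip
      exact hP (U.hom ∣_ O i) u' c' (pullback.fst (u i) U.hom) sq inferInstance inferInstance inferInstance (hi i)
    exact ⟨main _ AlgSp.fppfDescends_isFinite fun i => (hprop i).1,
      main _ AlgSp.fppfDescends_etale fun i => (hprop i).2⟩
  let UC : FEt.Cat Y := MorphismProperty.Over.mk ⊤ U.hom hUprop
  -- the comparison map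
  let h : ∀ i, pullback (u i) (V.hom ≫ f) ⟶ (A i).left := fun i => (hm i).isoPullback.inv ≫ pullback.fst _ _
  have hh : ∀ i, h i ≫ (A i).hom = pullback.fst _ _ := fun i => by
    simp only [h, Category.assoc]
    exact (hm i).isoPullback_inv_fst
  let b : (toDDFam u).obj (Over.mk (V.hom ≫ f)) ⟶ D :=
    { hom := fun i => Over.homMk (h i) (hh i)
      comm := fun T i j x₀ x₁ hx v w hw => by
        have hv : v.1 ≫ pullback.fst (u i) (V.hom ≫ f) = x₀ := v.2
        let e₁ := (hm i).isoPullback.inv
        have he₁ : e₁ ≫ pullback.fst _ f ≫ (A i).hom ≫ u i = pullback.fst (u i) (V.hom ≫ f) ≫ u i := by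
          rw [← Category.assoc (pullback.fst _ f), ← Category.assoc e₁, (hm i).isoPullback_inv_fst]
        let l : T ⟶ pullback (rel₂Hom u A i j) f :=
          pullback.lift (pullback.lift w.1 x₁ (cond_of u V A m hm hmv hH s hs hs' hx w))
            (v.1 ≫ e₁ ≫ pullback.snd _ _) (by
              simp only [pullback.lift_snd_assoc, Category.assoc]
              rw [← pullback.condition]
              exact hx.symm.trans ((congrArg (· ≫ u i) hv).symm.trans
                ((Category.assoc _ _ _).trans (congrArg (v.1 ≫ ·) he₁.symm))))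
        show pullback.lift w.1 x₁ _ ≫ s i j = _ ≫ h j
        rw [show pullback.lift w.1 x₁ (cond_of u V A m hm hmv hH s hs hs' hx w) =
          l ≫ pullback.fst _ _ from (pullback.lift_fst _ _ _).symm, Category.assoc, hs' i j]
        simp only [h, ← Category.assoc]
        congr 1
        apply (hm j).hom_ext
        · simp only [Category.assoc]
          rw [trans₀_fst_hom, (hm j).isoPullback_inv_fst]
          simp [l, toDDFam, canonicalDDFam]
        · simp only [Category.assoc]
          rw [trans₀_m, (hm j).isoPullback_inv_snd, ← Category.assoc l]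
          have e2 : l ≫ pullback.lift (pullback.fst (rel₂Hom u A i j) f ≫ pullback.fst _ _) (pullback.snd _ _)
              (by simp only [Category.assoc]; rw [pullback.condition]; exact pullback.condition) = v.1 ≫ e₁ := by
            apply pullback.hom_ext
            · simp only [Category.assoc, pullback.lift_fst]
              rw [pullback.lift_fst_assoc, pullback.lift_fst, hw]
              rfl
            · simp [l, e₁]
          rw [e2, Category.assoc, (hm i).isoPullback_inv_snd]
          simp [toDDFam, canonicalDDFam] }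
  obtain ⟨_, _⟩ := DDFull.toDDFam_full_faithful (DDFull.ofArrows_mem hu)
  obtain ⟨β, hβ⟩ := (toDDFam u).map_surjective (b ≫ e.inv)
  have hβl : ∀ i, pullback.map (u i) (V.hom ≫ f) (u i) U.hom (𝟙 _) β.left (𝟙 Y) (by simp)
      (by rw [Category.comp_id]; exact (Over.w β).symm) = h i ≫ ((e.inv).hom i).left :=
    fun i => congrArg (fun t => (t.hom i).left) hβ
  let cmp : V ⟶ (FEt.restrict f).obj UC :=
    MorphismProperty.Over.homMk (pullback.lift β.left V.hom (Over.w β)) (pullback.lift_snd _ _ _)
  suffices hiso : IsIso cmp by exact ⟨UC, ⟨(asIso cmp).symm⟩⟩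
  refine isIso_of_bijective cmp fun Ω _ _ ξ => ?_
  obtain ⟨i, y, hy⟩ := hcov ((ξ ≫ f) default)
  obtain ⟨η, hη, -⟩ := Scheme.exists_fac_of_etale_of_isSepClosed (u i) (ξ ≫ f) y hy
  have hinv : ∀ i, ((e.inv).hom i).left ≫ ((e.hom).hom i).left = 𝟙 _ := fun i =>
    congrArg (fun t => (t.hom i).left) e.inv_hom_id
  constructor
  · intro a a' haa
    have h1 : a.1 ≫ β.left = a'.1 ≫ β.left := by
      have := congrArg (fun p : FEt.fiberObj ξ ((FEt.restrict f).obj UC) => p.1 ≫ pullback.fst U.hom f) haa
      simp only [fiber_map_val, Category.assoc] at this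
      change a.1 ≫ pullback.lift β.left V.hom _ ≫ pullback.fst _ _ =
        a'.1 ≫ pullback.lift β.left V.hom _ ≫ pullback.fst _ _ at this
      rw [pullback.lift_fst] at this
      exact this
    let p : Spec (CommRingCat.of Ω) ⟶ pullback (u i) (V.hom ≫ f) :=
      pullback.lift η a.1 (by rw [hη, reassoc_of% a.2])
    let p' : Spec (CommRingCat.of Ω) ⟶ pullback (u i) (V.hom ≫ f) :=
      pullback.lift η a'.1 (by rw [hη, reassoc_of% a'.2])
    have h2 : p ≫ h i = p' ≫ h i := by
      have hmap : p ≫ h i ≫ ((e.inv).hom i).left = p' ≫ h i ≫ ((e.inv).hom i).left := by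
        rw [← hβl i]
        apply pullback.hom_ext <;> simp [p, p', h1]
      haveI : Mono ((e.inv).hom i).left := mono_of_mono_fac (hinv i)
      rw [← Category.assoc, ← Category.assoc] at hmap
      exact (cancel_mono _).1 hmap
    have hsnd : ∀ i, (hm i).isoPullback.inv ≫ pullback.snd _ _ = pullback.snd (u i) (V.hom ≫ f) ≫ V.hom :=
      fun i => by rw [← hmv i, ← Category.assoc, (hm i).isoPullback_inv_snd]
    have h3 : p = p' := by
      rw [← cancel_mono (hm i).isoPullback.inv]
      apply pullback.hom_ext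
      · simpa [h] using h2
      · simp only [Category.assoc, hsnd i]
        simp only [p, p', pullback.lift_snd_assoc]
        exact a.2.trans a'.2.symm
    exact Subtype.ext (by simpa [p, p'] using congrArg (fun t => t ≫ pullback.snd _ _) h3)
  · intro q
    let q₀ : Spec (CommRingCat.of Ω) ⟶ U.left := q.1 ≫ pullback.fst U.hom f
    have hq₀ : q₀ ≫ U.hom = ξ ≫ f := by
      have h2 : q.1 ≫ pullback.snd U.hom f = ξ := q.2
      show (q.1 ≫ pullback.fst U.hom f) ≫ U.hom = ξ ≫ f
      rw [Category.assoc, pullback.condition, reassoc_of% h2]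
    let r : Spec (CommRingCat.of Ω) ⟶ pullback (u i) U.hom := pullback.lift η q₀ (hη.trans hq₀.symm)
    let α := r ≫ ((e.hom).hom i).left
    have hα : α ≫ (A i).hom = η := by
      have h4 : ((e.hom).hom i).left ≫ (A i).hom = pullback.fst (u i) U.hom := Over.w (e.hom.hom i)
      simp only [α, r, Category.assoc, h4, pullback.lift_fst]
    let z : Spec (CommRingCat.of Ω) ⟶ pullback ((A i).hom ≫ u i) f :=
      pullback.lift α ξ (by rw [reassoc_of% hα, hη])
    let a : FEt.fiberObj ξ V := ⟨z ≫ m i, by rw [Category.assoc, hmv i, pullback.lift_snd]⟩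
    refine ⟨a, Subtype.ext ?_⟩
    rw [fiber_map_val]
    show (z ≫ m i) ≫ pullback.lift β.left V.hom _ = q.1
    apply pullback.hom_ext
    · simp only [Category.assoc, pullback.lift_fst]
      have h5 := congrArg (fun t => z ≫ (hm i).isoPullback.hom ≫ t ≫ pullback.snd (u i) U.hom) (hβl i)
      simp only [pullback.lift_snd, h, Category.assoc, Iso.hom_inv_id_assoc] at h5
      rw [(hm i).isoPullback_hom_snd_assoc] at h5
      rw [h5]
      have h6 : z ≫ pullback.fst _ _ ≫ ((e.inv).hom i).left = r := by
        rw [pullback.lift_fst_assoc]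
        simp only [α, Category.assoc]
        exact (congrArg (r ≫ ·) (congrArg (fun t => (t.hom i).left) e.hom_inv_id)).trans (Category.comp_id r)
      rw [reassoc_of% h6]
      simp [r, q₀]
      rfl
    · simp only [Category.assoc, pullback.lift_snd, hmv i]
      rw [pullback.lift_snd]
      exact q.2.symm

end Local

end GrothLib.FEt21
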