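import Groth.Agent.Lib.FEt21.PunctAlg
import Groth.Agent.Lib.FEt21.DepthTwo
import Groth.Agent.Lib.NormalSerre.Serre
import Groth.Agent.Lib.Depth.CM
import Mathlib.AlgebraicGeometry.QuasiAffine

/-!
# Sections of finite étale covers of a punctured spectrum
-/

set_option autoImplicit false
set_option backward.isDefEq.respectTransparency false
set_option linter.style.haveILetI false

universe u

open CategoryTheory CategoryTheory.Limits AlgebraicGeometry TopologicalSpace Opposite IsLocalRing

namespace GrothLib.FEt21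

theorem two_le_depth_of_normal (A : Type u) [CommRing A] [IsDomain A] [IsNoetherianRing A]
    [IsLocalRing A] [IsIntegrallyClosed A] (hdim : (2 : WithBot ℕ∞) ≤ ringKrullDim A) :
    (2 : ℕ∞) ≤ LocCoh.depth A A := by
  rw [← IsLocalRing.maximalIdeal_height_eq_ringKrullDim] at hdim
  have h1 : (1 : ℕ∞) < (maximalIdeal A).height :=
    lt_of_lt_of_le (by decide : (1 : ℕ∞) < 2) (WithBot.coe_le_coe.1 hdim)
  obtain ⟨a, b, ha, hb, hreg⟩ := NormalSerre.exists_pair_of_isIntegrallyClosed h1
  exact (Depth.le_idealDepth_iff_exists (maximalIdeal A)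
    (Depth.smul_top_ne_top (maximalIdeal.isMaximal _).ne_top) 2).2
      ⟨[a, b], rfl, fun r hr => by rcases List.mem_pair.1 hr with rfl | rfl <;> assumption, hreg⟩

variable {A : Type u} [CommRing A] [IsLocalRing A]

/-- The algebra of sections on an open of a spectrum. -/
noncomputable abbrev specAlgebra (R : CommRingCat.{u}) (U : (Spec R).Opens) : Algebra R Γ(Spec R, U) :=
  inferInstance

theorem isLocalization_specBasicOpen (R : CommRingCat.{u}) (r : R) :
    @IsLocalization.Away R _ r Γ(Spec R, PrimeSpectrum.basicOpen r) _ (specAlgebra R _) :=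
  inferInstance

/-- The ring map from `A` to the sections of a cover of its punctured spectrum. -/
noncomputable abbrev secHom (V : FEt.Cat (FEt.puncturedSpec A : Scheme.{u})) : A →+* Γ(V.left, ⊤) :=
  ((V.hom ≫ (FEt.puncturedSpec A).ι).appTop).hom.comp (Scheme.ΓSpecIso (CommRingCat.of A)).inv.hom

variable [IsDomain A] [IsNoetherianRing A] [IsIntegrallyClosed A]

theorem punct_sections (hdim : (2 : WithBot ℕ∞) ≤ ringKrullDim A) {d : ℕ} {y : Fin d → A}
    (hy : maximalIdeal A ≤ (Ideal.span (Set.range y)).radical) (hym : ∀ i, y i ∈ maximalIdeal A)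
    (V : FEt.Cat (FEt.puncturedSpec A : Scheme.{u})) :
    letI := (secHom V).toAlgebra
    GrothLib.Purity.Punct A y Γ(V.left, ⊤) := by
  letI := (secHom V).toAlgebra
  let U := FEt.puncturedSpec A
  let g : V.left ⟶ (U : Scheme.{u}) := V.hom
  haveI : IsFinite g := V.prop.1
  haveI : Etale g := V.prop.2
  haveI : CompactSpace (U : Scheme.{u}) := isCompact_iff_compactSpace.1 (NoetherianSpace.isCompact _)
  haveI : CompactSpace V.left := QuasiCompact.compactSpace_of_compactSpace g
  let f : V.left ⟶ Spec (CommRingCat.of A) := g ≫ U.ι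
  haveI : Etale f := inferInstance
  haveI : IsSeparated f := inferInstance
  haveI : V.left.IsSeparated := ⟨by rw [← terminal.comp_from f]; infer_instance⟩
  let D : Fin d → (Spec (CommRingCat.of A)).Opens := fun i => PrimeSpectrum.basicOpen (y i)
  let B : Fin d → V.left.Opens := fun i => V.left.basicOpen (secHom V (y i))
  have hDle : ∀ i, D i ≤ U := fun i x hx h => by
    obtain rfl : x = IsLocalRing.closedPoint A := h
    exact hx (hym i)
  have hB : ∀ i, f ⁻¹ᵁ D i = B i := fun i => by
    show f ⁻¹ᵁ _ = V.left.basicOpen (f.appTop _)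
    rw [← Scheme.preimage_basicOpen_top]
    congr 1
    show D i = _
    rw [basicOpen_eq_of_affine', Iso.inv_hom_id_apply]
  have hcov : (⊤ : V.left.Opens) ≤ iSup B := fun v _ => by
    obtain ⟨i, hi⟩ : ∃ i, f v ∈ D i := by
      by_contra! h
      refine (g v).2 (show f v = IsLocalRing.closedPoint A from PrimeSpectrum.ext ?_)
      refine ((maximalIdeal.isMaximal A).eq_of_le (f v).2.ne_top ?_).symm
      exact hy.trans ((Ideal.IsPrime.radical_le_iff (f v).2).2
        (Ideal.span_le.2 (Set.range_subset_iff.2 fun i => not_not.1 (h i))))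
    exact Opens.mem_iSup.2 ⟨i, (hB i).le hi⟩
  letI : ∀ i, Algebra Γ(V.left, ⊤) Γ(V.left, B i) := fun i =>
    (V.left.presheaf.map (homOfLE le_top).op).hom.toAlgebra
  haveI hloc : ∀ i, IsLocalization.Away (algebraMap A Γ(V.left, ⊤) (y i)) Γ(V.left, B i) := fun i =>
    isLocalization_basicOpen_of_qcqs isCompact_univ isQuasiSeparated_univ _
  have hu : ∀ i (k : ℕ) {W : V.left.Opens} (hW : W ≤ B i),
      IsUnit ((V.left.presheaf.map (homOfLE (le_top : W ≤ ⊤)).op).hom (algebraMap A Γ(V.left, ⊤) (y i) ^ k)) := by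
    intro i k W hW
    have h1 : IsUnit (algebraMap Γ(V.left, ⊤) Γ(V.left, B i) (algebraMap A Γ(V.left, ⊤) (y i) ^ k)) := by
      rw [map_pow]
      exact (IsLocalization.Away.algebraMap_isUnit _).pow k
    have h2 := h1.map (V.left.presheaf.map (homOfLE hW).op).hom
    rwa [RingHom.algebraMap_toAlgebra, ← CommRingCat.comp_apply, ← Functor.map_comp] at h2
  have hinj : ∀ (k : ℕ) (u : Γ(V.left, ⊤)), (∀ i, y i ^ k • u = 0) → u = 0 := fun k u hu' => by
    refine V.left.sheaf.eq_of_locally_eq' B ⊤ (fun i => homOfLE le_top) hcov _ _ fun i => ?_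
    rw [map_zero]
    refine (hu i k (le_refl (B i))).mul_right_eq_zero.1 ?_
    show (V.left.presheaf.map _).hom _ * (V.left.presheaf.map _).hom u = 0
    rw [← map_mul]
    have := hu' i
    rw [Algebra.smul_def, map_pow] at this
    rw [this, map_zero]
  have hsat : ∀ (k : ℕ) (t : Fin d → Γ(V.left, ⊤)), (∀ i j, y j ^ k • t i = y i ^ k • t j) →
      ∃ u, ∀ i, y i ^ k • u = t i := by
    intro k t ht
    simp only [Algebra.smul_def, map_pow] at ht ⊢
    choose w hw using fun i => IsLocalization.Away.surj (algebraMap A Γ(V.left, ⊤) (y i))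
      (algebraMap Γ(V.left, ⊤) Γ(V.left, B i) (t i))
    let sf : ∀ i, Γ(V.left, B i) := fun i => ↑(hu i k (le_refl (B i))).unit⁻¹ *
      (V.left.presheaf.map (homOfLE (le_top : B i ≤ ⊤)).op).hom (t i)
    have hsf : ∀ i, (V.left.presheaf.map (homOfLE (le_top : B i ≤ ⊤)).op).hom
        (algebraMap A Γ(V.left, ⊤) (y i) ^ k) * sf i =
        (V.left.presheaf.map (homOfLE (le_top : B i ≤ ⊤)).op).hom (t i) := fun i => by
      rw [← mul_assoc, (hu i k (le_refl (B i))).mul_val_inv, one_mul]
    have hres : ∀ i {W : V.left.Opens} (hW : W ≤ B i),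
        (V.left.presheaf.map (homOfLE (le_top : W ≤ ⊤)).op).hom (algebraMap A Γ(V.left, ⊤) (y i) ^ k) *
          (V.left.presheaf.map (homOfLE hW).op).hom (sf i) =
        (V.left.presheaf.map (homOfLE (le_top : W ≤ ⊤)).op).hom (t i) := fun i W hW => by
      have h := congrArg (V.left.presheaf.map (homOfLE hW).op).hom (hsf i)
      rwa [map_mul, ← CommRingCat.comp_apply, ← CommRingCat.comp_apply, ← Functor.map_comp] at h
    have hcompat : TopCat.Presheaf.IsCompatible V.left.sheaf.1 B sf := fun i j => by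
      show (V.left.presheaf.map (homOfLE inf_le_left).op).hom (sf i) =
        (V.left.presheaf.map (homOfLE inf_le_right).op).hom (sf j)
      refine (hu i k (inf_le_left : B i ⊓ B j ≤ B i)).mul_left_cancel ?_
      rw [hres i inf_le_left]
      refine (hu j k (inf_le_right : B i ⊓ B j ≤ B j)).mul_left_cancel ?_
      rw [mul_left_comm, hres j inf_le_right, ← map_mul, ← map_mul]
      exact congrArg _ (ht i j)
    obtain ⟨u, hu', -⟩ := V.left.sheaf.existsUnique_gluing' B ⊤ (fun i => homOfLE le_top) hcov sf hcompat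
    refine ⟨u, fun i => V.left.sheaf.eq_of_locally_eq' B ⊤ (fun j => homOfLE le_top) hcov _ _ fun j => ?_⟩
    show (V.left.presheaf.map (homOfLE (le_top : B j ≤ ⊤)).op).hom _ =
      (V.left.presheaf.map (homOfLE (le_top : B j ≤ ⊤)).op).hom (t i)
    rw [map_mul, show (V.left.presheaf.map (homOfLE (le_top : B j ≤ ⊤)).op).hom u = sf j from hu' j]
    refine (hu j k (le_refl (B j))).mul_left_cancel ?_
    rw [mul_left_comm, hsf j, ← map_mul, ← map_mul]
    exact congrArg _ (ht i j).symm
  refine punct_of_local hdim hy hinj hsat fun i => ?_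
  have hDa : IsAffineOpen (D i) := IsAffineOpen.Spec_basicOpen (R := CommRingCat.of A) (y i)
  have hDU : IsAffineOpen (U.ι ⁻¹ᵁ D i) :=
    hDa.preimage_of_isOpenImmersion U.ι (by rw [Scheme.Opens.opensRange_ι]; exact hDle i)
  have hBa : IsAffineOpen (B i) := hB i ▸ hDU.preimage g
  have hfin : (f.app (D i)).hom.Finite := by
    haveI : IsIso (U.ι.app (D i)) := U.ι.isIso_app _ (by rw [Scheme.Opens.opensRange_ι]; exact hDle i)
    rw [Scheme.Hom.comp_app, CommRingCat.hom_comp]
    exact RingHom.Finite.comp (g.finite_app _ hDU)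
      (RingHom.Finite.of_surjective _ (ConcreteCategory.bijective_of_isIso (U.ι.app (D i))).2)
  refine ⟨Γ(Spec (CommRingCat.of A), D i), Γ(V.left, B i), inferInstance, inferInstance,
    specAlgebra (CommRingCat.of A) (D i),
    inferInstance, (f.appLE (D i) (B i) (hB i).ge).hom,
    isLocalization_specBasicOpen (CommRingCat.of A) (y i), hloc i, ?_, ?_, ?_⟩
  · ext a
    letI : Algebra A Γ(Spec (CommRingCat.of A), D i) := specAlgebra (CommRingCat.of A) (D i)
    have e : (Spec (CommRingCat.of A)).presheaf.map (homOfLE (le_top : D i ≤ ⊤)).op ≫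
        f.appLE (D i) (B i) (hB i).ge = f.appTop ≫ V.left.presheaf.map (homOfLE (le_top : B i ≤ ⊤)).op := by
      rw [Scheme.Hom.map_appLE]
      rfl
    exact congr($(e).hom ((Scheme.ΓSpecIso (CommRingCat.of A)).inv.hom a))
  · rw [Scheme.Hom.appLE, CommRingCat.hom_comp]
    exact RingHom.Finite.comp (RingHom.Finite.of_surjective _
      (by
        haveI : IsIso (homOfLE (hB i).ge) := ⟨homOfLE (hB i).le, Subsingleton.elim _ _, Subsingleton.elim _ _⟩
        exact (ConcreteCategory.bijective_of_isIso (V.left.presheaf.map (homOfLE (hB i).ge).op)).2)) hfin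
  · exact HasRingHomProperty.appLE @Etale f inferInstance ⟨_, hDa⟩ ⟨_, hBa⟩ (hB i).ge

theorem finite_sections (hdim : (2 : WithBot ℕ∞) ≤ ringKrullDim A)
    (V : FEt.Cat (FEt.puncturedSpec A : Scheme.{u})) : (secHom V).Finite := by
  obtain ⟨d, y, hy⟩ : ∃ (d : ℕ) (y : Fin d → A), Ideal.span (Set.range y) = maximalIdeal A :=
    Submodule.fg_iff_exists_fin_generating_family.mp (IsNoetherian.noetherian (maximalIdeal A))
  letI := (secHom V).toAlgebra
  exact (punct_sections hdim (y := y) (hy.ge.trans Ideal.le_radical)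
    (fun i => hy.le (Ideal.subset_span ⟨i, rfl⟩)) V).finite

/-- A cover of the punctured spectrum extends when its ring of sections is finite étale. -/
theorem extends_of_etale (hdepth : (2 : ℕ∞) ≤ LocCoh.depth A A)
    (V : FEt.Cat (FEt.puncturedSpec A : Scheme.{u})) (hf : (secHom V).Finite) (he : (secHom V).Etale) :
    ∃ Y : FEt.Cat (Spec (CommRingCat.of A)),
      Nonempty ((FEt.restrict (FEt.puncturedSpec A).ι).obj Y ≅ V) := by
  let U := FEt.puncturedSpec A
  let g : V.left ⟶ (U : Scheme.{u}) := V.hom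
  haveI : IsFinite g := V.prop.1
  haveI : CompactSpace (U : Scheme.{u}) := isCompact_iff_compactSpace.1 (NoetherianSpace.isCompact _)
  haveI : (U : Scheme.{u}).IsQuasiAffine := Scheme.IsQuasiAffine.of_isImmersion U.ι
  haveI := GrothLib.Depth.isIso_ι_appTop (depthTwoOutside_puncturedSpec A hdepth)
  let q : Spec Γ(V.left, ⊤) ⟶ Spec (CommRingCat.of A) := Spec.map (CommRingCat.ofHom (secHom V))
  haveI : IsFinite q := (IsFinite.SpecMap_iff _).2 hf
  haveI : Etale q := by rw [HasRingHomProperty.Spec_iff (P := @Etale)]; exact he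
  let Y : FEt.Cat (Spec (CommRingCat.of A)) := MorphismProperty.Over.mk ⊤ q (prop_of q)
  let e : Spec Γ((U : Scheme.{u}), ⊤) ≅ Spec (CommRingCat.of A) :=
    Scheme.Spec.mapIso ((Scheme.ΓSpecIso (CommRingCat.of A)).symm ≪≫ asIso U.ι.appTop).op
  have sq : IsPullback V.left.toSpecΓ g q U.ι := by
    refine ((Scheme.isPullback_toSpecΓ_toSpecΓ g).flip).of_iso (Iso.refl _) (Iso.refl _) (Iso.refl _) e
      (by simp) (by simp) ?_ ?_
    · show Spec.map g.appTop ≫ Spec.map (_ ≫ U.ι.appTop) = 𝟙 _ ≫ Spec.map (CommRingCat.ofHom (secHom V))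
      rw [Category.id_comp, ← Spec.map_comp]
      rfl
    · show (U : Scheme.{u}).toSpecΓ ≫ Spec.map (_ ≫ U.ι.appTop) = 𝟙 _ ≫ U.ι
      rw [Category.id_comp, Spec.map_comp, ← Category.assoc, ← Scheme.toSpecΓ_naturality, Category.assoc]
      exact (congrArg (U.ι ≫ ·) (toSpecΓ_SpecMap_ΓSpecIso_inv (CommRingCat.of A))).trans (Category.comp_id _)
  exact ⟨Y, ⟨MorphismProperty.Over.isoMk sq.isoPullback.symm sq.isoPullback_inv_snd⟩⟩

theorem etale_of_extends (hdepth : (2 : ℕ∞) ≤ LocCoh.depth A A)
    (V : FEt.Cat (FEt.puncturedSpec A : Scheme.{u})) (Y : FEt.Cat (Spec (CommRingCat.of A)))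
    (e : (FEt.restrict (FEt.puncturedSpec A).ι).obj Y ≅ V) : (secHom V).Etale := by
  let U := FEt.puncturedSpec A
  let q : Y.left ⟶ Spec (CommRingCat.of A) := Y.hom
  haveI : IsFinite q := Y.prop.1
  haveI : Etale q := Y.prop.2
  haveI : IsIso e.inv.left := (inferInstance : IsIso ((MorphismProperty.Over.forget _ ⊤ _ ⋙ Over.forget _).map e.inv))
  have h1 : V.hom ≫ U.ι = e.inv.left ≫ pullback.fst q U.ι ≫ q := by
    rw [pullback.condition, ← Category.assoc]
    exact (congrArg (· ≫ U.ι) (Over.w e.inv.hom)).symm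
  have hbij : Function.Bijective (pullback.fst q U.ι).appTop :=
    app_bijective_of_isPullback (IsPullback.of_hasPullback q U.ι)
      (app_ι_bijective_of_depthTwo (depthTwoOutside_puncturedSpec A hdepth)) (isAffineOpen_top _)
  have h2 : q.appTop.hom.Etale := etale_app_algebra q (isAffineOpen_top _)
  haveI : IsIso (pullback.fst q U.ι).appTop := (ConcreteCategory.isIso_iff_bijective _).2 hbij
  let i := (asIso (pullback.fst q U.ι).appTop ≪≫ asIso e.inv.left.appTop).commRingCatIsoToRingEquiv
  have h3 : secHom V = (i.toRingHom.comp q.appTop.hom).comp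
      (Scheme.ΓSpecIso (CommRingCat.of A)).inv.hom := by
    show RingHom.comp (Scheme.Hom.appTop (V.hom ≫ U.ι)).hom _ = _
    rw [h1]
    rfl
  rw [h3]
  exact RingHom.Etale.respectsIso.2 _ (Scheme.ΓSpecIso (CommRingCat.of A)).symm.commRingCatIsoToRingEquiv
    (RingHom.Etale.respectsIso.1 _ i h2)

end GrothLib.FEt21
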