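import Groth.Agent.Lib.FEt21.Spread
import Groth.Agent.Lib.FEt21.EtaleLocal
import Groth.Agent.Lib.FEt21.Clopen
import Groth.Agent.Lib.EtBasicB.LocalRings
import Groth.Agent.Lib.CMFree.Regular
import Groth.Agent.S0247

/-!
# Extension of covers across a regular complement
-/

set_option autoImplicit false
set_option backward.isDefEq.respectTransparency false
set_option linter.style.haveILetI false

universe u

open CategoryTheory CategoryTheory.Limits AlgebraicGeometry TopologicalSpace IsLocalRing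

namespace GrothLib.FEt21

theorem exists_specializes_range {P Y : Scheme.{u}} (j : P ⟶ Y) [QuasiCompact j] (hd : DenseRange j) (y : Y) :
    ∃ p : P, j p ⤳ y := by
  obtain ⟨p, -, hp⟩ := GrothLib.GrpdQuot.exists_specializes_of_mem_closure j Set.univ isClosed_univ y
    (by rw [Set.image_univ]; exact hd y)
  exact ⟨p, hp⟩

/-- Clopens of a dense open extend when the local rings outside are domains. -/
theorem exists_clopen_extend {P Y : Scheme.{u}} (j : P ⟶ Y) [IsOpenImmersion j] [QuasiCompact j]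
    (hd : DenseRange j) (hdom : ∀ y ∉ Set.range j, IsDomain (Y.presheaf.stalk y)) (C : Set P)
    (hC : IsClopen C) : ∃ D : Set Y, IsClopen D ∧ j ⁻¹' D = C := by
  have hpre : ∀ {E : Set P}, IsClosed E → j ⁻¹' closure (j '' E) = E := fun {E} hE => by
    rw [← j.isOpenEmbedding.isInducing.closure_eq_preimage_closure_image, hE.closure_eq]
  have hdis : ∀ y, y ∈ closure (j '' C) → y ∈ closure (j '' Cᶜ) → False := by
    intro y hy hy'
    by_cases hr : y ∈ Set.range j
    · obtain ⟨p, rfl⟩ := hr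
      have h1 : p ∈ C := (hpre hC.isClosed).subset hy
      exact (hpre hC.compl.isClosed).subset hy' h1
    · obtain ⟨c, hc, hcy⟩ := GrothLib.GrpdQuot.exists_specializes_of_mem_closure j C hC.isClosed y hy
      obtain ⟨c', hc', hc'y⟩ :=
        GrothLib.GrpdQuot.exists_specializes_of_mem_closure j Cᶜ hC.compl.isClosed y hy'
      haveI : IsDomain (Y.presheaf.stalk y) := hdom y hr
      let η : Spec (Y.presheaf.stalk y) := ⟨⊥, Ideal.isPrime_bot⟩
      have hgen : ∀ z : Y, z ⤳ y → Y.fromSpecStalk y η ⤳ z := fun z hz => by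
        obtain ⟨w, rfl⟩ : z ∈ Set.range (Y.fromSpecStalk y) := by rw [Scheme.range_fromSpecStalk]; exact hz
        exact Specializes.map ((PrimeSpectrum.le_iff_specializes η w).1 bot_le) (Y.fromSpecStalk y).continuous
      obtain ⟨e, he⟩ : Y.fromSpecStalk y η ∈ Set.range j :=
        (hgen _ hcy).mem_open j.isOpenEmbedding.isOpen_range ⟨c, rfl⟩
      have hspec : ∀ z : P, j z ⤳ y → e ⤳ z := fun z hz => by
        rw [← j.isOpenEmbedding.isInducing.specializes_iff, he]
        exact hgen _ hz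
      exact (hspec c' hc'y).mem_open hC.compl.isOpen hc' ((hspec c hcy).mem_open hC.isOpen hc)
  have hcov : closure (j '' C) ∪ closure (j '' Cᶜ) = Set.univ := by
    rw [← closure_union, ← Set.image_union, Set.union_compl_self, Set.image_univ, hd.closure_range]
  refine ⟨closure (j '' C), ⟨isClosed_closure, ?_⟩, hpre hC.isClosed⟩
  rw [show closure (j '' C) = (closure (j '' Cᶜ))ᶜ from Set.ext fun y =>
    ⟨fun h h' => hdis y h h', fun h => ((Set.ext_iff.1 hcov y).2 (Set.mem_univ y)).resolve_right h⟩]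
  exact isClosed_closure.isOpen_compl

/-- Restriction to a dense open with regular complement is fully faithful, étale locally. -/
theorem etaleFF_of_regular {X : Scheme.{u}} [IsLocallyNoetherian X] (U : X.Opens) (hU : Dense (U : Set X))
    (hreg : ∀ x : X, x ∉ U → IsRegularLocalRing (X.presheaf.stalk x)) : EtaleFF U.ι := by
  intro Z g _
  have hd : ∀ {Y : Scheme.{u}} (k : Y ⟶ X) [Etale k], Dense (k ⁻¹' (U : Set X)) :=
    fun k _ => hU.preimage k.isOpenMap
  have hdg : DenseRange (pullback.fst g U.ι) := by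
    rw [DenseRange, IsOpenImmersion.range_pullbackFst, Scheme.Opens.opensRange_ι]
    exact hd g
  refine fullyFaithful_of_clopen _ (clopenInj_of_denseRange _ hdg) fun A C hC => ?_
  let aH : A.left ⟶ Z := A.hom
  haveI : Etale aH := A.prop.2
  haveI : IsLocallyNoetherian A.left := LocallyOfFiniteType.isLocallyNoetherian (aH ≫ g)
  have hr : Set.range (pullback.fst aH (pullback.fst g U.ι)) = (aH ≫ g) ⁻¹' (U : Set X) := by
    rw [Scheme.Pullback.range_fst, IsOpenImmersion.range_pullbackFst, Scheme.Opens.opensRange_ι]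
    rfl
  refine exists_clopen_extend (pullback.fst aH (pullback.fst g U.ι)) ?_ (fun y hy => ?_) C hC
  · rw [DenseRange, hr]
    exact hd (aH ≫ g)
  · rw [hr] at hy
    haveI := (GrothLib.EtBasicB.isRegularLocalRing_stalk_iff (aH ≫ g) y).2 (hreg _ hy)
    exact GrothLib.CMFree.isDomain_of_isRegularLocalRing _

theorem mem_of_dim_le_one {X : Scheme.{u}} [IsLocallyNoetherian X] (U : X.Opens) (hU : Dense (U : Set X))
    (x : X) (hdim : ringKrullDim (X.presheaf.stalk x) ≤ 1) (z : X) (hzx : z ⤳ x) (hne : z ≠ x) : z ∈ U := by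
  obtain ⟨u, hu⟩ := exists_specializes_range U.ι (by rw [DenseRange, Scheme.Opens.range_ι]; exact hU) z
  obtain ⟨w, hw⟩ : z ∈ Set.range (X.fromSpecStalk x) := by rw [Scheme.range_fromSpecStalk]; exact hzx
  obtain ⟨v, hv⟩ : U.ι u ∈ Set.range (X.fromSpecStalk x) := by
    rw [Scheme.range_fromSpecStalk]; exact hu.trans hzx
  have hle : v.asIdeal ≤ w.asIdeal := (PrimeSpectrum.le_iff_specializes v w).2 (by
    rw [← (X.fromSpecStalk x).isEmbedding.isInducing.specializes_iff, hv, hw]; exact hu)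
  by_contra hzU
  have hlt : v.asIdeal < w.asIdeal := lt_of_le_of_ne hle fun e => hzU (by
    rw [← hw, ← PrimeSpectrum.ext e, hv]; exact u.2)
  haveI := v.isPrime
  haveI := w.isPrime
  have hlt' : w.asIdeal < maximalIdeal (X.presheaf.stalk x) := by
    refine lt_of_le_of_ne (le_maximalIdeal w.isPrime.ne_top) fun e => hne ?_
    rw [← hw]
    exact (fromSpecStalk_eq_self_iff x w).2 (PrimeSpectrum.ext e)
  have h1 := Ideal.height_strict_mono_of_isPrime_of_isPrime hlt
  have h2 := Ideal.height_strict_mono_of_isPrime_of_isPrime hlt'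
  rw [← IsLocalRing.maximalIdeal_height_eq_ringKrullDim] at hdim
  have h3 : (maximalIdeal (X.presheaf.stalk x)).height ≤ 1 := WithBot.coe_le_coe.1 hdim
  exact absurd (lt_of_lt_of_le (lt_of_le_of_lt (Order.one_le_iff_ne_zero.2 h1.ne_bot) h2) h3) (lt_irrefl _)

theorem dim_eq_one {X : Scheme.{u}} [IsLocallyNoetherian X] (U : X.Opens) (hU : Dense (U : Set X))
    (x : X) (hxU : x ∉ U) (hdim : ringKrullDim (X.presheaf.stalk x) ≤ 1) :
    ringKrullDim (X.presheaf.stalk x) = 1 := by
  refine le_antisymm hdim ?_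
  obtain ⟨u, hu⟩ := exists_specializes_range U.ι (by rw [DenseRange, Scheme.Opens.range_ι]; exact hU) x
  obtain ⟨v, hv⟩ : U.ι u ∈ Set.range (X.fromSpecStalk x) := by rw [Scheme.range_fromSpecStalk]; exact hu
  haveI := v.isPrime
  have hlt : v.asIdeal < maximalIdeal (X.presheaf.stalk x) := by
    refine lt_of_le_of_ne (le_maximalIdeal v.isPrime.ne_top) fun e => hxU ?_
    rw [← (fromSpecStalk_eq_self_iff x v).2 (PrimeSpectrum.ext e), hv]
    exact u.2
  rw [← IsLocalRing.maximalIdeal_height_eq_ringKrullDim]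
  exact WithBot.coe_le_coe.2 (Order.one_le_iff_ne_zero.2
    (Ideal.height_strict_mono_of_isPrime_of_isPrime hlt).ne_bot)

/-- Restriction of restrictions. -/
noncomputable def restrictCompIso {A B C : Scheme.{u}} (f : A ⟶ B) (g : B ⟶ C) (h : A ⟶ C)
    (e : f ≫ g = h) (Z : FEt.Cat C) :
    (FEt.restrict h).obj Z ≅ (FEt.restrict f).obj ((FEt.restrict g).obj Z) :=
  ((MorphismProperty.Over.pullbackCongr (Q := ⊤) e.symm).app Z) ≪≫
    (MorphismProperty.Over.pullbackComp (P := FEt.prop) (Q := ⊤) f g).app Z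

/-- Extension over an affine neighbourhood. -/
theorem exists_extend_sup {X : Scheme.{u}} [IsLocallyNoetherian X] (U : X.Opens) (hU : Dense (U : Set X))
    (V : FEt.Cat (U : Scheme.{u})) (hreg : ∀ x : X, x ∉ U → IsRegularLocalRing (X.presheaf.stalk x))
    (hunr : ∀ ξ : X, ξ ∉ U → ringKrullDim (X.presheaf.stalk ξ) = 1 →
      ∃ Yξ : FEt.Cat (Spec (X.presheaf.stalk ξ)),
        Nonempty ((FEt.restrict (pullback.snd U.ι (X.fromSpecStalk ξ))).obj Yξ ≅
          (FEt.restrict (pullback.fst U.ι (X.fromSpecStalk ξ))).obj V))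
    (N : X.Opens) (hN : IsAffineOpen N) :
    ∃ A : FEt.Cat ((U ⊔ N : X.Opens) : Scheme.{u}),
      Nonempty ((FEt.restrict (X.homOfLE (le_sup_left : U ≤ U ⊔ N))).obj A ≅ V) := by
  haveI : IsAffine (N : Scheme.{u}) := hN
  haveI : IsNoetherian (N : Scheme.{u}) := {}
  suffices key : ∀ (O : (N : Scheme.{u}).Opens) (W : X.Opens), W ≤ U ⊔ N → N.ι ⁻¹ᵁ W = O →
      ∀ (hUW : U ≤ W) (V' : FEt.Cat (W : Scheme.{u})),
      Nonempty ((FEt.restrict (X.homOfLE hUW)).obj V' ≅ V) →
        ∃ A : FEt.Cat ((U ⊔ N : X.Opens) : Scheme.{u}),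
          Nonempty ((FEt.restrict (X.homOfLE (le_sup_left : U ≤ U ⊔ N))).obj A ≅ V) by
    refine key _ U le_sup_left rfl le_rfl V ⟨?_⟩
    haveI : IsIso (pullback.fst V.hom (X.homOfLE (le_refl U))) := by
      rw [Scheme.homOfLE_rfl]; infer_instance
    refine MorphismProperty.Over.isoMk (asIso (pullback.fst V.hom (X.homOfLE (le_refl U)))) ?_
    show pullback.fst V.hom (X.homOfLE (le_refl U)) ≫ V.hom = pullback.snd V.hom (X.homOfLE (le_refl U))
    rw [pullback.condition]
    exact (congrArg (pullback.snd V.hom (X.homOfLE (le_refl U)) ≫ ·) (Scheme.homOfLE_rfl X U)).trans (Category.comp_id _)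
  intro O
  induction O using WellFoundedGT.induction with
  | ind O ih =>
    intro W hWT hWO hUW V' hV'
    obtain ⟨i⟩ := hV'
    by_cases hW : U ⊔ N ≤ W
    · obtain rfl : W = U ⊔ N := le_antisymm hWT hW
      exact ⟨V', ⟨i⟩⟩
    · obtain ⟨x₀, hx₀T, hx₀⟩ := SetLike.not_le_iff_exists.1 hW
      obtain ⟨x, hx, hxx₀, hmax⟩ := GrothLib.Depth.exists_maximal_generalization
        (C := ((W : Set X))ᶜ) W.2.isClosed_compl hx₀
      have hxU : x ∉ U := fun h => hx (hUW h)
      have hxT : x ∈ U ⊔ N := hxx₀.mem_open (U ⊔ N).2 hx₀T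
      have hgen : ∀ z : X, z ⤳ x → z ≠ x → z ∈ W := fun z hz hne => by
        by_contra hzW; exact hne (hmax z hzW hz)
      obtain ⟨W', hle, hxW', V'', ⟨i'⟩⟩ := exists_extend_step' W V' x hx hgen fun k hk => by
        by_cases hd : ringKrullDim (X.presheaf.stalk x) ≤ 1
        · obtain ⟨Yξ, ⟨e⟩⟩ := hunr x hxU (dim_eq_one U hU x hxU hd)
          let U₀ := FEt.puncturedSpec (X.presheaf.stalk x)
          have hUmem : ∀ z : (U₀ : Scheme.{u}), (U₀.ι ≫ X.fromSpecStalk x) z ∈ U := fun z => by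
            have hz : (U₀.ι ≫ X.fromSpecStalk x) z ⤳ x := by
              have : (U₀.ι ≫ X.fromSpecStalk x) z ∈ Set.range (X.fromSpecStalk x) := ⟨U₀.ι z, rfl⟩
              rwa [Scheme.range_fromSpecStalk] at this
            refine mem_of_dim_le_one U hU x hd _ hz fun h => ?_
            exact z.2 ((fromSpecStalk_eq_self_iff x (U₀.ι z)).1 h)
          let k' : (U₀ : Scheme.{u}) ⟶ (U : Scheme.{u}) :=
            IsOpenImmersion.lift U.ι (U₀.ι ≫ X.fromSpecStalk x) (by
              rw [Scheme.Opens.range_ι]; rintro _ ⟨z, rfl⟩; exact hUmem z)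
          have hk' : k' ≫ U.ι = U₀.ι ≫ X.fromSpecStalk x := IsOpenImmersion.lift_fac _ _ _
          let c := pullback.lift k' U₀.ι hk'
          refine ⟨Yξ, ⟨restrictCompIso c (pullback.snd U.ι (X.fromSpecStalk x)) U₀.ι (pullback.lift_snd _ _ _) Yξ ≪≫
            (FEt.restrict c).mapIso e ≪≫
            (restrictCompIso c (pullback.fst U.ι (X.fromSpecStalk x)) k' (pullback.lift_fst _ _ _) V).symm ≪≫
            (FEt.restrict k').mapIso i.symm ≪≫
            (restrictCompIso k' (X.homOfLE hUW) k ?_ V').symm⟩⟩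
          rw [← cancel_mono W.ι, Category.assoc, Scheme.homOfLE_ι, hk', hk]
        · haveI := hreg x hxU
          haveI : FEt.PurityHolds (X.presheaf.stalk x) := Groth.Agent.S0247.result _ (by
            rw [← IsLocalRing.maximalIdeal_height_eq_ringKrullDim] at hd ⊢
            have h1 : ¬ (maximalIdeal (X.presheaf.stalk x)).height ≤ 1 := fun h => hd (WithBot.coe_le_coe.2 h)
            exact WithBot.coe_le_coe.2 ((Order.add_one_le_of_lt (not_le.1 h1)).trans' (by norm_num)))
          exact ‹FEt.PurityHolds _›.mem_essImage ((FEt.restrict k).obj V')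
      have hUW' : U ≤ W' ⊓ (U ⊔ N) := le_inf (hUW.trans hle) le_sup_left
      have hle' : W ≤ W' ⊓ (U ⊔ N) := le_inf hle hWT
      have hxN : x ∈ N := (Opens.mem_sup.1 hxT).resolve_left hxU
      refine ih (N.ι ⁻¹ᵁ (W' ⊓ (U ⊔ N))) (lt_of_le_of_ne (hWO ▸ N.ι.preimage_mono hle') fun e => hx ?_)
        _ inf_le_right rfl hUW' ((FEt.restrict (X.homOfLE inf_le_left)).obj V'') ⟨?_⟩
      · have : (⟨x, hxN⟩ : (N : Scheme.{u})) ∈ N.ι ⁻¹ᵁ (W' ⊓ (U ⊔ N)) := ⟨hxW', hxT⟩
        rw [← e, ← hWO] at this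
        exact this
      · exact (restrictCompIso (X.homOfLE hUW') (X.homOfLE inf_le_left) (X.homOfLE (hUW.trans hle))
          (X.homOfLE_homOfLE _ _) V'').symm ≪≫
          restrictCompIso (X.homOfLE hUW) (X.homOfLE hle) _ (X.homOfLE_homOfLE _ _) V'' ≪≫
          (FEt.restrict (X.homOfLE hUW)).mapIso i' ≪≫ i

/-- Covers extend across a regular complement when they extend in codimension one. -/
theorem exists_extend_regular {X : Scheme.{u}} [IsLocallyNoetherian X] (U : X.Opens) (hU : Dense (U : Set X))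
    (V : FEt.Cat (U : Scheme.{u})) (hreg : ∀ x : X, x ∉ U → IsRegularLocalRing (X.presheaf.stalk x))
    (hunr : ∀ ξ : X, ξ ∉ U → ringKrullDim (X.presheaf.stalk ξ) = 1 →
      ∃ Yξ : FEt.Cat (Spec (X.presheaf.stalk ξ)),
        Nonempty ((FEt.restrict (pullback.snd U.ι (X.fromSpecStalk ξ))).obj Yξ ≅
          (FEt.restrict (pullback.fst U.ι (X.fromSpecStalk ξ))).obj V)) :
    ∃ Y' : FEt.Cat X, Nonempty ((FEt.restrict U.ι).obj Y' ≅ V) := by
  choose A hA using fun N : X.affineOpens => exists_extend_sup U hU V hreg hunr N.1 N.2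
  let i := fun N => (hA N).some
  let u : ∀ N : X.affineOpens, ((U ⊔ N.1 : X.Opens) : Scheme.{u}) ⟶ X := fun N => (U ⊔ N.1).ι
  let aH : ∀ N, (A N).left ⟶ ((U ⊔ N.1 : X.Opens) : Scheme.{u}) := fun N => (A N).hom
  have hfac : ∀ N, pullback.fst (aH N ≫ u N) U.ι ≫ aH N =
      pullback.snd (aH N ≫ u N) U.ι ≫ X.homOfLE le_sup_left := fun N => by
    rw [← cancel_mono (u N), Category.assoc, pullback.condition, Category.assoc, Scheme.homOfLE_ι]
  let l : ∀ N, pullback (aH N ≫ u N) U.ι ⟶ pullback (aH N) (X.homOfLE le_sup_left) := fun N =>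
    pullback.lift _ _ (hfac N)
  haveI : ∀ N, IsIso (l N) := fun N => ⟨pullback.lift (pullback.fst _ _) (pullback.snd _ _) (by
      rw [pullback.condition_assoc, Scheme.homOfLE_ι]), by
      apply pullback.hom_ext <;> simp [l], by
      apply pullback.hom_ext <;> simp [l]⟩
  let m : ∀ N, pullback (aH N ≫ u N) U.ι ⟶ V.left := fun N => l N ≫ (i N).hom.left
  haveI : ∀ N, IsIso (m N) := fun N => by
    haveI : IsIso (i N).hom.left :=
      ((MorphismProperty.Over.forget FEt.prop ⊤ _ ⋙ Over.forget _).mapIso (i N)).isIso_hom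
    infer_instance
  have hmv : ∀ N, m N ≫ V.hom = pullback.snd _ _ := fun N => by
    have w : (i N).hom.left ≫ V.hom = pullback.snd (aH N) (X.homOfLE le_sup_left) := Over.w (i N).hom.hom
    simp only [m, Category.assoc]
    erw [w]
    exact pullback.lift_snd _ _ _
  haveI : ∀ N, Etale (u N) := fun N => inferInstance
  refine exists_restrict_iso u V A m (fun N => ?_) hmv (etaleFF_of_regular U hU hreg) fun y => ?_
  · refine IsPullback.of_vert_isIso_mono ⟨?_⟩
    rw [reassoc_of% (hmv N), Category.assoc]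
    exact pullback.condition
  · obtain ⟨_, ⟨N, hN, rfl⟩, hyN, -⟩ :=
      X.isBasis_affineOpens.exists_subset_of_mem_open (Set.mem_univ y) isOpen_univ
    exact ⟨⟨N, hN⟩, by rw [Scheme.Opens.range_ι]; exact Opens.mem_sup.2 (Or.inr hyN)⟩

end GrothLib.FEt21
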