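import Groth.Agent.Lib.FEt21.RelAffine
import Groth.Agent.Lib.RelSpec.Basic
import Mathlib.Topology.Sheaves.SheafCondition.UniqueGluing

/-!
# The coequaliser of two maps of schemes affine over a base, among schemes affine over the base

It is the relative spectrum of the equaliser of the two maps of sheaves of algebras.
-/

set_option autoImplicit false
set_option backward.isDefEq.respectTransparency false

universe u

open CategoryTheory CategoryTheory.Limits AlgebraicGeometry Opposite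

namespace GrothLib.FEt21

variable {X Y Y' : Scheme.{u}} (f : Y ⟶ X) (f' : Y' ⟶ X) (u v : Y' ⟶ Y) (hu : u ≫ f = f')
  (hv : v ≫ f = f')

/-- Sections of `Y` over `U` with the same pullback along `u` and `v`. -/
noncomputable def eqSec (U : X.Opens) : Subring Γ(Y, f ⁻¹ᵁ U) :=
  RingHom.eqLocus (u.appLE (f ⁻¹ᵁ U) (f' ⁻¹ᵁ U) (preimage_le_preimage hu U)).hom
    (v.appLE (f ⁻¹ᵁ U) (f' ⁻¹ᵁ U) (preimage_le_preimage hv U)).hom

theorem mem_eqSec {U : X.Opens} {s : Γ(Y, f ⁻¹ᵁ U)} : s ∈ eqSec f f' u v hu hv U ↔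
    u.appLE (f ⁻¹ᵁ U) (f' ⁻¹ᵁ U) (preimage_le_preimage hu U) s =
      v.appLE (f ⁻¹ᵁ U) (f' ⁻¹ᵁ U) (preimage_le_preimage hv U) s := Iff.rfl

theorem appLE_res {w : Y' ⟶ Y} (hw : w ≫ f = f') {U V : X.Opens} (i : V ≤ U) (s : Γ(Y, f ⁻¹ᵁ U)) :
    w.appLE (f ⁻¹ᵁ V) (f' ⁻¹ᵁ V) (preimage_le_preimage hw V)
        (Y.presheaf.map (homOfLE (f.preimage_mono i)).op s) =
      Y'.presheaf.map (homOfLE (f'.preimage_mono i)).op
        (w.appLE (f ⁻¹ᵁ U) (f' ⁻¹ᵁ U) (preimage_le_preimage hw U) s) := by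
  have e : Y.presheaf.map (homOfLE (f.preimage_mono i)).op ≫
      w.appLE (f ⁻¹ᵁ V) (f' ⁻¹ᵁ V) (preimage_le_preimage hw V) =
      w.appLE (f ⁻¹ᵁ U) (f' ⁻¹ᵁ U) (preimage_le_preimage hw U) ≫
        Y'.presheaf.map (homOfLE (f'.preimage_mono i)).op := by
    rw [Scheme.Hom.map_appLE, Scheme.Hom.appLE_map]
  exact congr($(e).hom s)

/-- The presheaf of equalised sections. -/
noncomputable def eqPresheaf : X.Opensᵒᵖ ⥤ CommRingCat.{u} where
  obj U := CommRingCat.of (eqSec f f' u v hu hv U.unop)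
  map {U V} i := CommRingCat.ofHom
    ((Y.presheaf.map (homOfLE (f.preimage_mono i.unop.le)).op).hom.restrict _ _ fun s hs => by
      rw [mem_eqSec] at hs ⊢
      rw [appLE_res f f' hu i.unop.le, appLE_res f f' hv i.unop.le, hs])
  map_id U := by
    ext s
    exact congr($(Y.presheaf.map_id (op (f ⁻¹ᵁ U.unop))).hom s.1)
  map_comp i j := by
    ext s
    change Y.presheaf.map _ s.1 = Y.presheaf.map _ (Y.presheaf.map _ s.1)
    rw [← ConcreteCategory.comp_apply, ← Functor.map_comp]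
    rfl

theorem eqPresheaf_isSheaf : TopCat.Presheaf.IsSheaf (X := X.toTopCat) (eqPresheaf f f' u v hu hv) := by
  rw [TopCat.Presheaf.isSheaf_iff_isSheafUniqueGluing]
  intro ι U sf hsf
  have hle : ∀ i, U i ≤ iSup U := le_iSup U
  have hcov : f ⁻¹ᵁ iSup U ≤ ⨆ i, f ⁻¹ᵁ U i := (f.preimage_iSup U).le
  have hcov' : f' ⁻¹ᵁ iSup U ≤ ⨆ i, f' ⁻¹ᵁ U i := (f'.preimage_iSup U).le
  obtain ⟨s, hs, huniq⟩ := Y.sheaf.existsUnique_gluing' (fun i => f ⁻¹ᵁ U i) (f ⁻¹ᵁ iSup U)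
    (fun i => homOfLE (f.preimage_mono (hle i))) hcov (fun i => (sf i).1) fun i j =>
      congr_arg Subtype.val (hsf i j)
  have hmem : s ∈ eqSec f f' u v hu hv (iSup U) := by
    rw [mem_eqSec]
    refine Y'.sheaf.eq_of_locally_eq' (fun i => f' ⁻¹ᵁ U i) (f' ⁻¹ᵁ iSup U)
      (fun i => homOfLE (f'.preimage_mono (hle i))) hcov' _ _ fun i => ?_
    change Y'.presheaf.map _ _ = Y'.presheaf.map _ _
    rw [← appLE_res f f' hu (hle i), ← appLE_res f f' hv (hle i)]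
    exact (congr_arg _ (hs i)).trans (((sf i).2 : _ = _).trans (congr_arg _ (hs i)).symm)
  refine ⟨⟨s, hmem⟩, fun i => Subtype.ext (hs i), fun t ht => Subtype.ext (huniq t.1 fun i => ?_)⟩
  exact congr_arg Subtype.val (ht i)

/-- The inclusion of the structure sheaf. -/
noncomputable def toEq : X.presheaf ⟶ eqPresheaf f f' u v hu hv where
  app U := CommRingCat.ofHom ((f.app U.unop).hom.codRestrict (eqSec f f' u v hu hv U.unop) fun r => by
    rw [mem_eqSec]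
    change (f.app U.unop ≫ u.appLE _ _ _) r = (f.app U.unop ≫ v.appLE _ _ _) r
    simp only [Scheme.Hom.app_eq_appLE, Scheme.Hom.appLE_comp_appLE, hu, hv])
  naturality {U V} i := by
    ext r
    exact Subtype.ext congr($(f.naturality i).hom r)

theorem coequifibered_toEq [IsAffineHom f] [IsAffineHom f'] :
    NatTrans.Coequifibered (Functor.whiskerLeft (Scheme.AffineZariskiSite.toOpensFunctor X).op
      (toEq f f' u v hu hv)) := by
  refine Scheme.AffineZariskiSite.coequifibered_iff_forall_isLocalizationAway.mpr fun U r => ?_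
  let D := X.basicOpen r
  have hD : D ≤ U.1 := X.basicOpen_le r
  let A := Γ(Y, f ⁻¹ᵁ U.1)
  let A' := Γ(Y', f' ⁻¹ᵁ U.1)
  letI : Algebra (eqSec f f' u v hu hv U.1) (eqSec f f' u v hu hv D) :=
    ((eqPresheaf f f' u v hu hv).map (homOfLE hD).op).hom.toAlgebra
  letI : Algebra A Γ(Y, f ⁻¹ᵁ D) :=
    (Y.presheaf.map (homOfLE (f.preimage_mono hD)).op).hom.toAlgebra
  letI : Algebra A' Γ(Y', f' ⁻¹ᵁ D) :=
    (Y'.presheaf.map (homOfLE (f'.preimage_mono hD)).op).hom.toAlgebra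
  haveI : IsLocalization.Away (f.app U.1 r) Γ(Y, f ⁻¹ᵁ D) :=
    (U.2.preimage f).isLocalization_of_eq_basicOpen _ _ (f.preimage_basicOpen r)
  haveI : IsLocalization.Away (f'.app U.1 r) Γ(Y', f' ⁻¹ᵁ D) :=
    (U.2.preimage f').isLocalization_of_eq_basicOpen _ _ (f'.preimage_basicOpen r)
  have happ : ∀ {w : Y' ⟶ Y} (hw : w ≫ f = f'),
      w.appLE (f ⁻¹ᵁ U.1) (f' ⁻¹ᵁ U.1) (preimage_le_preimage hw U.1) (f.app U.1 r) =
        f'.app U.1 r := by
    intro w hw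
    have e : f.app U.1 ≫ w.appLE (f ⁻¹ᵁ U.1) (f' ⁻¹ᵁ U.1) (preimage_le_preimage hw U.1) =
        f'.app U.1 := by
      simp only [Scheme.Hom.app_eq_appLE, Scheme.Hom.appLE_comp_appLE, hw]
    exact congr($(e).hom r)
  let r' : eqSec f f' u v hu hv U.1 := (toEq f f' u v hu hv).app (op U.1) r
  have hr' : (r' : A) = f.app U.1 r := rfl
  change IsLocalization.Away r' (eqSec f f' u v hu hv D)
  refine IsLocalization.Away.mk r' ?_ (fun z => ?_) (fun a b hab => ?_)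
  · obtain ⟨y, hy⟩ := (IsLocalization.Away.algebraMap_isUnit (S := Γ(Y, f ⁻¹ᵁ D))
      (f.app U.1 r)).exists_right_inv
    have hmem : y ∈ eqSec f f' u v hu hv D := by
      rw [mem_eqSec]
      have key : ∀ {w : Y' ⟶ Y} (hw : w ≫ f = f'),
          algebraMap A' Γ(Y', f' ⁻¹ᵁ D) (f'.app U.1 r) *
            w.appLE (f ⁻¹ᵁ D) (f' ⁻¹ᵁ D) (preimage_le_preimage hw D) y = 1 := by
        intro w hw
        have := congr_arg (w.appLE (f ⁻¹ᵁ D) (f' ⁻¹ᵁ D) (preimage_le_preimage hw D)) hy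
        rw [map_mul, map_one] at this
        refine (congr_arg (· * _) ?_).trans this
        exact ((appLE_res f f' hw hD _).trans (congr_arg _ (happ hw))).symm
      exact (IsLocalization.Away.algebraMap_isUnit (S := Γ(Y', f' ⁻¹ᵁ D))
        (f'.app U.1 r)).mul_left_cancel ((key hu).trans (key hv).symm)
    exact IsUnit.of_mul_eq_one ⟨y, hmem⟩ (Subtype.ext hy)
  · obtain ⟨n, a, ha⟩ := IsLocalization.Away.surj (f.app U.1 r) z.1
    have hz : algebraMap A' Γ(Y', f' ⁻¹ᵁ D)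
        (u.appLE (f ⁻¹ᵁ U.1) (f' ⁻¹ᵁ U.1) (preimage_le_preimage hu U.1) a) =
        algebraMap A' Γ(Y', f' ⁻¹ᵁ D)
        (v.appLE (f ⁻¹ᵁ U.1) (f' ⁻¹ᵁ U.1) (preimage_le_preimage hv U.1) a) := by
      have key : ∀ {w : Y' ⟶ Y} (hw : w ≫ f = f'),
          algebraMap A' Γ(Y', f' ⁻¹ᵁ D)
            (w.appLE (f ⁻¹ᵁ U.1) (f' ⁻¹ᵁ U.1) (preimage_le_preimage hw U.1) a) =
          w.appLE (f ⁻¹ᵁ D) (f' ⁻¹ᵁ D) (preimage_le_preimage hw D) z.1 *
            algebraMap A' Γ(Y', f' ⁻¹ᵁ D) (f'.app U.1 r) ^ n := by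
        intro w hw
        have := congr_arg (w.appLE (f ⁻¹ᵁ D) (f' ⁻¹ᵁ D) (preimage_le_preimage hw D)) ha
        rw [map_mul, map_pow] at this
        refine ((appLE_res f f' hw hD a).symm.trans this.symm).trans
          (congr_arg (fun t : Γ(Y', f' ⁻¹ᵁ D) =>
            w.appLE (f ⁻¹ᵁ D) (f' ⁻¹ᵁ D) (preimage_le_preimage hw D) z.1 * t ^ n) ?_)
        exact (appLE_res f f' hw hD _).trans (congr_arg _ (happ hw))
      rw [key hu, key hv, show u.appLE (f ⁻¹ᵁ D) (f' ⁻¹ᵁ D) (preimage_le_preimage hu D) z.1 =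
        v.appLE (f ⁻¹ᵁ D) (f' ⁻¹ᵁ D) (preimage_le_preimage hv D) z.1 from z.2]
    obtain ⟨k, hk⟩ := IsLocalization.Away.exists_of_eq (f'.app U.1 r) hz
    refine ⟨k + n, ⟨(r' : A) ^ k * a, ?_⟩, Subtype.ext ?_⟩
    · rw [mem_eqSec, map_mul, map_mul, map_pow, map_pow, hr', happ hu, happ hv, hk]
    · change z.1 * (algebraMap A Γ(Y, f ⁻¹ᵁ D) (f.app U.1 r)) ^ (k + n) =
        algebraMap A Γ(Y, f ⁻¹ᵁ D) ((r' : A) ^ k * a)
      rw [map_mul, map_pow, hr', ← ha, pow_add]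
      ring
  · obtain ⟨n, hn⟩ := IsLocalization.Away.exists_of_eq (S := Γ(Y, f ⁻¹ᵁ D)) (f.app U.1 r)
      (congr_arg Subtype.val hab : _)
    exact ⟨n, Subtype.ext hn⟩

/-- Two maps of schemes affine over `X` have a coequaliser among such schemes. -/
theorem exists_coequaliser [IsAffineHom f] [IsAffineHom f'] :
    ∃ (Z : Scheme.{u}) (g : Z ⟶ X) (_ : IsAffineHom g) (q : Y ⟶ Z) (hq : q ≫ g = f),
      u ≫ q = v ≫ q ∧
      ∀ U : X.Opens, IsAffineOpen U →
        Function.Injective (q.appLE (g ⁻¹ᵁ U) (f ⁻¹ᵁ U) (preimage_le_preimage hq U)) ∧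
        ∀ s, s ∈ eqSec f f' u v hu hv U ↔
          s ∈ Set.range (q.appLE (g ⁻¹ᵁ U) (f ⁻¹ᵁ U) (preimage_le_preimage hq U)) := by
  obtain ⟨Z, g, hg, e, he⟩ := RelSpec.exists_affineHom_of_coequifibered
    ⟨eqPresheaf f f' u v hu hv, eqPresheaf_isSheaf f f' u v hu hv⟩
    ⟨toEq f f' u v hu hv⟩ (coequifibered_toEq f f' u v hu hv)
  let B : TopCat.Sheaf CommRingCat.{u} X.toTopCat :=
    ⟨eqPresheaf f f' u v hu hv, eqPresheaf_isSheaf f f' u v hu hv⟩
  let G := (TopCat.Sheaf.pushforward CommRingCat.{u} g.base).obj Z.sheaf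
  let iv : ∀ U : X.Opens, Γ(Z, g ⁻¹ᵁ U) ⟶ CommRingCat.of (eqSec f f' u v hu hv U) :=
    fun U => e.inv.hom.app (op U)
  have happ : ∀ U : X.Opens, g.app U ≫ iv U = (toEq f f' u v hu hv).app (op U) := by
    intro U
    have h1 : (toEq f f' u v hu hv).app (op U) ≫ e.hom.hom.app (op U) = g.app U :=
      congr_arg (fun t => NatTrans.app t (op U)) he
    have h2 : e.hom.hom.app (op U) ≫ iv U = 𝟙 _ :=
      congr_arg (fun t : B ⟶ B => t.hom.app (op U)) e.hom_inv_id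
    rw [← h1, Category.assoc, h2, Category.comp_id]
  have hbij : ∀ U : X.Opens, Function.Bijective (iv U) := fun U => by
    have h1 : e.hom.hom.app (op U) ≫ iv U = 𝟙 _ :=
      congr_arg (fun t : B ⟶ B => t.hom.app (op U)) e.hom_inv_id
    have h2 : iv U ≫ e.hom.hom.app (op U) = 𝟙 _ :=
      congr_arg (fun t : G ⟶ G => t.hom.app (op U)) e.inv_hom_id
    exact ⟨Function.LeftInverse.injective (fun s => congr($(h2).hom s)),
      Function.RightInverse.surjective (fun s => congr($(h1).hom s))⟩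
  obtain ⟨q, hq, hqU⟩ := exists_hom (f := f) (g := g)
    (fun U => iv U.1 ≫ CommRingCat.ofHom (eqSec f f' u v hu hv U.1).subtype)
    (fun U => by rw [← Category.assoc, happ]; rfl)
    (fun U V i => by
      ext s
      exact congr_arg Subtype.val congr($(e.inv.hom.naturality (homOfLE i).op).hom s))
  refine ⟨Z, g, hg, q, hq, ?_, fun U hU => ?_⟩
  · refine hom_ext_affine (f := f') (u ≫ q) (v ≫ q) (by rw [Category.assoc, hq, hu])
      (by rw [Category.assoc, hq, hv]) fun U hU => ?_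
    rw [← Scheme.Hom.appLE_comp_appLE u q _ (f ⁻¹ᵁ U) _ (preimage_le_preimage hq U)
        (preimage_le_preimage hu U),
      ← Scheme.Hom.appLE_comp_appLE v q _ (f ⁻¹ᵁ U) _ (preimage_le_preimage hq U)
        (preimage_le_preimage hv U), hqU ⟨U, hU⟩]
    ext s
    exact (iv U s).2
  · rw [hqU ⟨U, hU⟩]
    refine ⟨Subtype.val_injective.comp (hbij U).1, fun s => ⟨fun hs => ?_, ?_⟩⟩
    · obtain ⟨t, ht⟩ := (hbij U).2 ⟨s, hs⟩
      exact ⟨t, congr_arg Subtype.val ht⟩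
    · rintro ⟨t, rfl⟩
      exact (iv U t).2

end GrothLib.FEt21
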