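import Groth.Agent.Lib.FEt21.Split
import Groth.Agent.Lib.LocalFP.Basic
import Mathlib.RingTheory.Etale.Descent
import Mathlib.RingTheory.Finiteness.Descent
import Mathlib.RingTheory.Kaehler.TensorProduct
import Mathlib.RingTheory.Flat.FaithfullyFlat.Basic
import Mathlib.RingTheory.Smooth.Fiber
import Mathlib.RingTheory.Etale.Pi
import Mathlib.RingTheory.Finiteness.ModuleFinitePresentation
import Mathlib.FieldTheory.IsAlgClosed.Basic

/-!
# The equaliser of two maps of finite étale algebras

If `φ ψ : A → A'` are maps of finite étale `R`-algebras of constant rank, their equaliser is finite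
étale and its geometric points are the coequaliser of the geometric points.
-/

set_option autoImplicit false

open TensorProduct Function

namespace GrothLib.FEt21

universe u

/-- Two finite étale algebras of constant rank split over a common finite faithfully flat algebra. -/
theorem exists_split {R A A' : Type u} [CommRing R] [CommRing A] [Algebra R A] [CommRing A']
    [Algebra R A'] [Algebra.Etale R A] [Module.Finite R A] [Algebra.Etale R A'] [Module.Finite R A']
    {n m : ℕ} (hn : Module.rankAtStalk (R := R) A = n) (hm : Module.rankAtStalk (R := R) A' = m) :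
    ∃ (T : Type u) (_ : CommRing T) (_ : Algebra R T) (_ : Module.FaithfullyFlat R T)
      (_ : Module.Finite R T) (a a' : ℕ),
      Nonempty (T ⊗[R] A ≃ₐ[T] (Fin a → T)) ∧ Nonempty (T ⊗[R] A' ≃ₐ[T] (Fin a' → T)) := by
  obtain ⟨T, _, _, _, _, _, hT⟩ := Algebra.IsFiniteSplit.exists_tensorProduct_of_etale hn
  have hm' : Module.rankAtStalk (R := T) (T ⊗[R] A') = m := by
    ext p
    simp [Module.rankAtStalk_baseChange, hm]
  obtain ⟨T', _, _, _, _, _, hT'⟩ := Algebra.IsFiniteSplit.exists_tensorProduct_of_etale hm'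
  letI : Algebra R T' := ((algebraMap T T').comp (algebraMap R T)).toAlgebra
  haveI : IsScalarTower R T T' := IsScalarTower.of_algebraMap_eq' rfl
  haveI : Module.FaithfullyFlat R T' := Module.FaithfullyFlat.trans R T T'
  haveI : Module.Finite R T' := Module.Finite.trans T T'
  obtain ⟨a, ⟨e⟩⟩ := Algebra.IsFiniteSplit.nonempty_algEquiv_fun T (T ⊗[R] A)
  obtain ⟨a', ⟨e'⟩⟩ := Algebra.IsFiniteSplit.nonempty_algEquiv_fun T' (T' ⊗[T] (T ⊗[R] A'))
  exact ⟨T', inferInstance, inferInstance, inferInstance, inferInstance, a, a', ⟨splitBC e T'⟩,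
    ⟨(Algebra.TensorProduct.cancelBaseChange R T T' T' A').symm.trans e'⟩⟩

variable {R A A' : Type u} [CommRing R] [CommRing A] [Algebra R A] [CommRing A'] [Algebra R A']
  [Algebra.Etale R A] [Module.Finite R A] [Algebra.Etale R A'] [Module.Finite R A']
  (φ ψ : A →ₐ[R] A') {n m : ℕ}

/-- The equaliser is finite étale. -/
theorem etale_equalizer (hn : Module.rankAtStalk (R := R) A = n)
    (hm : Module.rankAtStalk (R := R) A' = m) :
    Algebra.Etale R (AlgHom.equalizer φ ψ) ∧ Module.Finite R (AlgHom.equalizer φ ψ) := by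
  classical
  let E := AlgHom.equalizer φ ψ
  obtain ⟨T, _, _, _, _, a, a', ⟨eA⟩, ⟨eA'⟩⟩ := exists_split hn hm
  have hQ : ∀ (Q : Ideal T) [Q.IsPrime], ∃ f : T, f ∉ Q ∧ ∀ (L : Type u) [CommRing L] [Algebra R L]
      [Algebra T L] [IsScalarTower R T L] [Module.Flat R L], IsUnit (algebraMap T L f) →
      ∃ (c : Type) (_ : Finite c), Nonempty (L ⊗[R] E ≃ₐ[L] (c → L)) := by
    intro Q _
    obtain ⟨f, σ, τ, hf, h⟩ := exists_nhd φ ψ eA eA' Q
    refine ⟨f, hf, fun L _ _ _ _ _ hu => ?_⟩
    obtain ⟨Θ, -⟩ := exists_algEquiv_equalizer φ ψ (splitBC eA L) (splitBC eA' L) σ τ (h L hu).1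
      (h L hu).2
    exact ⟨_, inferInstance, ⟨Θ⟩⟩
  choose f hf hsplit using hQ
  let s : Set T := Set.range fun Q : PrimeSpectrum T => f Q.asIdeal
  have hs : Ideal.span s = ⊤ := by
    by_contra h
    obtain ⟨Q, hQ, hle⟩ := Ideal.exists_le_maximal _ h
    exact hf Q (hle (Ideal.subset_span ⟨⟨Q, hQ.isPrime⟩, rfl⟩))
  haveI : Module.FinitePresentation T (T ⊗[R] E) := by
    refine LocalFP.finitePresentation_of_localizationSpan _ s hs fun g => ?_
    obtain ⟨_, Q, rfl⟩ := g
    let L := Localization.Away (f Q.asIdeal)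
    haveI : Module.Flat T L := IsLocalization.flat L (Submonoid.powers (f Q.asIdeal))
    haveI : Module.Flat R L := Module.Flat.trans R T L
    obtain ⟨c, _, ⟨e⟩⟩ := hsplit Q.asIdeal L (IsLocalization.Away.algebraMap_isUnit _)
    haveI : Module.FinitePresentation L (L ⊗[R] E) :=
      Module.FinitePresentation.of_equiv e.symm.toLinearEquiv
    exact Module.FinitePresentation.of_equiv
      (((LocalizedModule.equivTensorProduct (Submonoid.powers (f Q.asIdeal)) (T ⊗[R] E))).trans
        (TensorProduct.AlgebraTensorModule.cancelBaseChange R T L L E)).symm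
  haveI : Module.Finite R E :=
    Module.Finite.of_finite_tensorProduct_of_faithfullyFlat T
  haveI : Algebra.FinitePresentation T (T ⊗[R] E) :=
    Algebra.FinitePresentation.of_finitePresentation T (T ⊗[R] E)
  haveI : Algebra.FinitePresentation R E :=
    Algebra.FinitePresentation.of_finitePresentation_tensorProduct_of_faithfullyFlat T
  have split : ∀ (Q : Ideal T) [Q.IsPrime],
      ∃ (c : Type) (_ : Finite c), Nonempty (Localization.AtPrime Q ⊗[R] E ≃ₐ[Localization.AtPrime Q]
        (c → Localization.AtPrime Q)) := by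
    intro Q _
    haveI : Module.Flat R (Localization.AtPrime Q) := Module.Flat.trans R T _
    exact hsplit Q _ (IsLocalization.map_units (M := Q.primeCompl) _ ⟨f Q, hf Q⟩)
  haveI : Module.Flat T (T ⊗[R] E) := by
    refine Module.flat_of_localized_maximal (T ⊗[R] E) fun Q _ => ?_
    obtain ⟨c, _, ⟨eE⟩⟩ := split Q
    let L := Localization.AtPrime Q
    haveI : Module.Flat T (L ⊗[R] E) := by
      haveI : Module.Flat L (L ⊗[R] E) := Module.Flat.of_linearEquiv eE.toLinearEquiv
      exact Module.Flat.trans T L _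
    exact Module.Flat.of_linearEquiv
      (((LocalizedModule.equivTensorProduct Q.primeCompl (T ⊗[R] E)).restrictScalars T).trans
        ((TensorProduct.AlgebraTensorModule.cancelBaseChange R T T L E)))
  haveI : Module.Flat R E := Module.Flat.of_flat_tensorProduct R E T
  haveI : Algebra.FormallyUnramified R E := by
    constructor
    have hT : Subsingleton (T ⊗[R] Ω[E⁄R]) := by
      rw [← Module.support_eq_empty_iff (R := T), Set.eq_empty_iff_forall_notMem]
      intro Q hQ
      rw [Module.mem_support_iff] at hQ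
      obtain ⟨c, _, ⟨eE⟩⟩ := split Q.asIdeal
      let L := Localization.AtPrime Q.asIdeal
      haveI : Algebra.FormallyEtale L (L ⊗[R] E) := Algebra.FormallyEtale.of_equiv eE.symm
      letI : Algebra E (L ⊗[R] E) := Algebra.TensorProduct.rightAlgebra
      haveI : Subsingleton (L ⊗[R] Ω[E⁄R]) :=
        (KaehlerDifferential.tensorKaehlerEquivBase R L E (L ⊗[R] E)).subsingleton
      haveI : Subsingleton (L ⊗[T] (T ⊗[R] Ω[E⁄R])) :=
        (TensorProduct.AlgebraTensorModule.cancelBaseChange R T T L Ω[E⁄R]).subsingleton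
      exact not_subsingleton _
        ((LocalizedModule.equivTensorProduct Q.asIdeal.primeCompl
          (T ⊗[R] Ω[E⁄R])).toEquiv.subsingleton)
    exact Module.FaithfullyFlat.lTensor_reflects_triviality R T _
  exact ⟨Algebra.Etale.of_formallyUnramified_of_flat, inferInstance⟩

/-- A point of the base with values in an algebraically closed field extends to any finite
faithfully flat algebra. -/
theorem exists_algHom_of_faithfullyFlat {R T Ω : Type u} [CommRing R] [CommRing T] [Algebra R T]
    [Module.Finite R T] [Module.FaithfullyFlat R T] [Field Ω] [IsAlgClosed Ω] [Algebra R Ω] :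
    Nonempty (T →ₐ[R] Ω) := by
  haveI : Nontrivial (Ω ⊗[R] T) := Module.FaithfullyFlat.rTensor_nontrivial R T Ω
  obtain ⟨m, hm⟩ := Ideal.exists_maximal (Ω ⊗[R] T)
  haveI := hm
  haveI : Module.Finite Ω ((Ω ⊗[R] T) ⧸ m) :=
    Module.Finite.of_surjective (Ideal.Quotient.mkₐ Ω m).toLinearMap Ideal.Quotient.mk_surjective
  letI := Ideal.Quotient.field m
  have hbij := IsAlgClosed.algebraMap_bijective_of_isIntegral (k := Ω) (K := (Ω ⊗[R] T) ⧸ m)
  let e := AlgEquiv.ofBijective (Algebra.ofId Ω ((Ω ⊗[R] T) ⧸ m)) hbij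
  exact ⟨(e.symm.toAlgHom.restrictScalars R).comp
    (((Ideal.Quotient.mkₐ Ω m).restrictScalars R).comp Algebra.TensorProduct.includeRight)⟩

/-- Geometric points of the equaliser: every point extends, and two points with the same restriction
are connected through points of `A'`. -/
theorem points_equalizer (hn : Module.rankAtStalk (R := R) A = n)
    (hm : Module.rankAtStalk (R := R) A' = m) (Ω : Type u) [Field Ω] [IsAlgClosed Ω] [Algebra R Ω] :
    (∀ χ : AlgHom.equalizer φ ψ →ₐ[R] Ω, ∃ x : A →ₐ[R] Ω,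
      x.comp (AlgHom.equalizer φ ψ).val = χ) ∧
    ∀ x y : A →ₐ[R] Ω, x.comp (AlgHom.equalizer φ ψ).val = y.comp (AlgHom.equalizer φ ψ).val →
      Relation.EqvGen (fun a b => ∃ w : A' →ₐ[R] Ω, w.comp φ = a ∧ w.comp ψ = b) x y := by
  classical
  let E := AlgHom.equalizer φ ψ
  obtain ⟨T, _, _, _, _, a, a', ⟨eA⟩, ⟨eA'⟩⟩ := exists_split hn hm
  obtain ⟨p⟩ := exists_algHom_of_faithfullyFlat (R := R) (T := T) (Ω := Ω)
  let Q : Ideal T := RingHom.ker p.toRingHom
  haveI : Q.IsPrime := RingHom.ker_isPrime _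
  obtain ⟨f, σ, τ, hf, h⟩ := exists_nhd φ ψ eA eA' Q
  let L := Localization.AtPrime Q
  haveI : Module.Flat R L := Module.Flat.trans R T L
  have hu : IsUnit (algebraMap T L f) :=
    IsLocalization.map_units (M := Q.primeCompl) _ ⟨f, hf⟩
  let pL : L →+* Ω := IsLocalization.lift (M := Q.primeCompl) (g := p.toRingHom) fun y =>
    Ne.isUnit fun h0 => y.2 h0
  letI : Algebra L Ω := pL.toAlgebra
  haveI : IsScalarTower R L Ω := IsScalarTower.of_algebraMap_eq fun r => by
    change _ = pL _
    rw [IsScalarTower.algebraMap_apply R T L, IsLocalization.lift_eq]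
    exact (p.commutes r).symm
  obtain ⟨hσ, hτ⟩ := h L hu
  obtain ⟨Θ, hΘ⟩ := exists_algEquiv_equalizer φ ψ (splitBC eA L) (splitBC eA' L) σ τ hσ hτ
  let evA : Fin a → (A →ₐ[R] Ω) := fun i =>
    ((Algebra.ofId L Ω).restrictScalars R).comp (((Pi.evalAlgHom L (fun _ => L) i).comp
      (splitBC eA L).toAlgHom).restrictScalars R |>.comp Algebra.TensorProduct.includeRight)
  let evE : Quot (fun a b => ∃ e, σ e = a ∧ τ e = b) → (E →ₐ[R] Ω) := fun q =>
    ((Algebra.ofId L Ω).restrictScalars R).comp (((Pi.evalAlgHom L (fun _ => L) q).comp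
      Θ.toAlgHom).restrictScalars R |>.comp Algebra.TensorProduct.includeRight)
  have hevE : ∀ i, evE (Quot.mk _ i) = (evA i).comp E.val := by
    intro i
    ext x
    change algebraMap L Ω (Θ (1 ⊗ₜ x) (Quot.mk _ i)) = _
    rw [hΘ]
    rfl
  have surjA : ∀ x : A →ₐ[R] Ω, ∃ i, x = evA i := by
    intro x
    obtain ⟨i, hi⟩ := exists_eval ((Algebra.TensorProduct.lift (Algebra.ofId L Ω) x
      (fun _ _ => Commute.all _ _)).comp (splitBC eA L).symm.toAlgHom)
    refine ⟨i, AlgHom.ext fun z => ?_⟩
    have := hi (splitBC eA L (1 ⊗ₜ z))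
    simpa [evA] using this
  have injE : ∀ q q', evE q = evE q' → q = q' := by
    intro q q' hqq
    by_contra hne
    let g : Quot (fun a b => ∃ e, σ e = a ∧ τ e = b) → L := Pi.single q 1
    let Λ : ∀ q, L ⊗[R] E →ₐ[L] Ω := fun q => Algebra.TensorProduct.lift (Algebra.ofId L Ω) (evE q)
      (fun _ _ => Commute.all _ _)
    have key : ∀ q t, Λ q t = algebraMap L Ω (Θ t q) := by
      intro q t
      induction t using TensorProduct.induction_on with
      | zero => simp
      | add x y hx hy => simp only [map_add, Pi.add_apply, hx, hy]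
      | tmul l x =>
        rw [show l ⊗ₜ[R] x = l • ((1 : L) ⊗ₜ x) by rw [smul_tmul', smul_eq_mul, mul_one]]
        rw [map_smul, map_smul, Algebra.smul_def, Pi.smul_apply, smul_eq_mul, map_mul]
        congr 1
        simp [Λ, evE]
    have h1 := key q (Θ.symm g)
    have h2 := key q' (Θ.symm g)
    simp only [Λ] at h1 h2
    rw [Θ.apply_symm_apply] at h1 h2
    simp only [g, Pi.single_eq_same, Pi.single_eq_of_ne (Ne.symm hne), map_one, map_zero] at h1 h2
    rw [hqq, h2] at h1
    exact zero_ne_one h1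
  refine ⟨fun χ => ?_, fun x y hxy => ?_⟩
  · obtain ⟨q, hq⟩ := exists_eval ((Algebra.TensorProduct.lift (Algebra.ofId L Ω) χ
      (fun _ _ => Commute.all _ _)).comp Θ.symm.toAlgHom)
    induction q using Quot.ind with
    | mk i =>
      refine ⟨evA i, ?_⟩
      rw [← hevE]
      ext z
      have := hq (Θ (1 ⊗ₜ z))
      simpa [evE] using this.symm
  · obtain ⟨i, rfl⟩ := surjA x
    obtain ⟨j, rfl⟩ := surjA y
    rw [← hevE, ← hevE] at hxy
    have hij := Quot.eqvGen_exact (injE _ _ hxy)
    clear hxy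
    induction hij with
    | rel x y hr =>
      obtain ⟨e, rfl, rfl⟩ := hr
      refine Relation.EqvGen.rel _ _ ⟨((Algebra.ofId L Ω).restrictScalars R).comp
        (((Pi.evalAlgHom L (fun _ => L) e).comp (splitBC eA' L).toAlgHom).restrictScalars R |>.comp
          Algebra.TensorProduct.includeRight), ?_, ?_⟩ <;> ext z
      · change algebraMap L Ω (splitBC eA' L (1 ⊗ₜ φ z) e) =
          algebraMap L Ω (splitBC eA L (1 ⊗ₜ z) (σ e))
        rw [← hσ]; simp
      · change algebraMap L Ω (splitBC eA' L (1 ⊗ₜ ψ z) e) =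
          algebraMap L Ω (splitBC eA L (1 ⊗ₜ z) (τ e))
        rw [← hτ]; simp
    | refl x => exact Relation.EqvGen.refl _
    | symm x y _ ih => exact Relation.EqvGen.symm _ _ ih
    | trans x y z _ _ ih ih' => exact Relation.EqvGen.trans _ _ _ ih ih'

end GrothLib.FEt21
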