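import Groth.Agent.Lib.FEt21.Basic
import Groth.Agent.Lib.FEt21.Equaliser
import Groth.Agent.Lib.FEt21.Equalizer

/-!
# Finite étale covers over an affine open of the base
-/

set_option autoImplicit false
set_option backward.isDefEq.respectTransparency false

universe u

open CategoryTheory CategoryTheory.Limits AlgebraicGeometry Opposite

namespace GrothLib.FEt21

variable {X Y : Scheme.{u}} (f : Y ⟶ X) {U : X.Opens}

theorem isPullback_app (hU : IsAffineOpen U) [IsAffineHom f] :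
    IsPullback (hU.preimage f).fromSpec (Spec.map (f.app U)) f hU.fromSpec := by
  have : IsAffine _ := hU
  have : IsAffine _ := hU.preimage f
  refine .of_iso (isPullback_morphismRestrict f U).flip (hU.preimage f).isoSpec (Iso.refl _)
    hU.isoSpec (Iso.refl _) ?_ ?_ ?_ ?_
  · simp [IsAffineOpen.isoSpec_hom]
  · simp [IsAffineOpen.isoSpec_hom, Scheme.Opens.toSpecΓ_naturality]
  · simp
  · simp [IsAffineOpen.isoSpec_hom]

theorem finite_app_algebra [IsFinite f] (hU : IsAffineOpen U) :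
    letI := (f.app U).hom.toAlgebra
    Module.Finite Γ(X, U) Γ(Y, f ⁻¹ᵁ U) :=
  f.finite_app U hU

theorem etale_app_algebra [IsAffineHom f] [Etale f] (hU : IsAffineOpen U) :
    letI := (f.app U).hom.toAlgebra
    Algebra.Etale Γ(X, U) Γ(Y, f ⁻¹ᵁ U) := by
  have : (f.app U).hom.Etale := by
    rw [Scheme.Hom.app_eq_appLE]
    exact HasRingHomProperty.appLE @Etale f inferInstance ⟨U, hU⟩ ⟨_, hU.preimage f⟩ le_rfl
  exact this

theorem rankAtStalk_app [IsFinite f] [Etale f] (hU : IsAffineOpen U)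
    (p : PrimeSpectrum Γ(X, U)) :
    letI := (f.app U).hom.toAlgebra
    Module.rankAtStalk Γ(Y, f ⁻¹ᵁ U) p = f.finrank (hU.fromSpec p) := by
  letI := (f.app U).hom.toAlgebra
  have := finite_app_algebra f hU
  have := etale_app_algebra f hU
  rw [← Scheme.Hom.finrank_of_isPullback _ _ _ _ (isPullback_app f hU) p]
  exact (Scheme.Hom.finrank_SpecMap_algebraMap Γ(X, U) Γ(Y, f ⁻¹ᵁ U) p).symm

/-- Every point has an affine neighbourhood on which two covers have constant degree. -/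
theorem exists_affine_const {Y' : Scheme.{u}} (f' : Y' ⟶ X) [IsFinite f] [Etale f] [IsFinite f']
    [Etale f'] (x : X) :
    ∃ (U : X.Opens) (hU : IsAffineOpen U) (n m : ℕ), x ∈ U ∧
      (letI := (f.app U).hom.toAlgebra; Module.rankAtStalk (R := Γ(X, U)) Γ(Y, f ⁻¹ᵁ U) = n) ∧
      (letI := (f'.app U).hom.toAlgebra; Module.rankAtStalk (R := Γ(X, U)) Γ(Y', f' ⁻¹ᵁ U) = m) := by
  obtain ⟨_, ⟨U, hU, rfl⟩, hxU, hle⟩ := X.isBasis_affineOpens.exists_subset_of_mem_open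
    (show x ∈ {z | f.finrank z = f.finrank x} ∩ {z | f'.finrank z = f'.finrank x} from ⟨rfl, rfl⟩)
    (((Scheme.Hom.isLocallyConstant_finrank f) {f.finrank x}).inter
      ((Scheme.Hom.isLocallyConstant_finrank f') {f'.finrank x}))
  refine ⟨U, hU, f.finrank x, f'.finrank x, hxU, ?_, ?_⟩ <;> funext p
  · rw [rankAtStalk_app f hU]
    exact (hle (hU.range_fromSpec.subset ⟨p, rfl⟩)).1
  · rw [rankAtStalk_app f' hU]
    exact (hle (hU.range_fromSpec.subset ⟨p, rfl⟩)).2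

variable {Ω : Type u} [Field Ω] (ξ : Spec (CommRingCat.of Ω) ⟶ X)

theorem top_le_preimage (hξ : ξ default ∈ U) : ⊤ ≤ ξ ⁻¹ᵁ U := fun x _ => by
  change ξ x ∈ U
  rwa [Subsingleton.elim x default]

/-- The point as a ring map on an affine open containing its image. -/
noncomputable def evalHom (hξ : ξ default ∈ U) : Γ(X, U) ⟶ CommRingCat.of Ω :=
  ξ.appLE U ⊤ (top_le_preimage ξ hξ) ≫ (Scheme.ΓSpecIso (CommRingCat.of Ω)).hom

theorem eq_SpecMap_fromSpec (hU : IsAffineOpen U) (hξ : ξ default ∈ U) :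
    ξ = Spec.map (evalHom ξ hξ) ≫ hU.fromSpec := by
  have h := IsAffineOpen.SpecMap_appLE_fromSpec ξ hU (isAffineOpen_top _) (top_le_preimage ξ hξ)
  rw [IsAffineOpen.fromSpec_top] at h
  have e : (Spec (CommRingCat.of Ω)).isoSpec.inv = Spec.map (Scheme.ΓSpecIso (CommRingCat.of Ω)).inv :=
    Scheme.isoSpec_Spec_inv _
  rw [evalHom, Spec.map_comp, Category.assoc, h, e, ← Category.assoc, ← Spec.map_comp,
    Iso.inv_hom_id, Spec.map_id, Category.id_comp]

variable [IsAffineHom f]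

theorem SpecMap_fromSpec_comp (hU : IsAffineOpen U) (hξ : ξ default ∈ U)
    (ψ : Γ(Y, f ⁻¹ᵁ U) ⟶ CommRingCat.of Ω) (hψ : f.app U ≫ ψ = evalHom ξ hξ) :
    (Spec.map ψ ≫ (hU.preimage f).fromSpec) ≫ f = ξ := by
  rw [Category.assoc, (isPullback_app f hU).w, ← Category.assoc, ← Spec.map_comp, hψ,
    ← eq_SpecMap_fromSpec]

theorem exists_point_eq (hU : IsAffineOpen U) (hξ : ξ default ∈ U)
    (s : Spec (CommRingCat.of Ω) ⟶ Y) (hs : s ≫ f = ξ) :
    ∃ ψ : Γ(Y, f ⁻¹ᵁ U) ⟶ CommRingCat.of Ω, f.app U ≫ ψ = evalHom ξ hξ ∧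
      s = Spec.map ψ ≫ (hU.preimage f).fromSpec := by
  have hs' : s default ∈ f ⁻¹ᵁ U := by
    change f (s default) ∈ U
    rw [← hs] at hξ
    exact hξ
  refine ⟨evalHom s hs', ?_, eq_SpecMap_fromSpec s (hU.preimage f) hs'⟩
  have h1 : ξ.appLE U ⊤ (top_le_preimage ξ hξ) =
      f.app U ≫ s.appLE (f ⁻¹ᵁ U) ⊤ (top_le_preimage s hs') := by
    subst hs
    rw [Scheme.Hom.app_eq_appLE, Scheme.Hom.appLE_comp_appLE]
  simp only [evalHom]
  rw [← Category.assoc, ← h1]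

theorem point_injective (hU : IsAffineOpen U) {ψ ψ' : Γ(Y, f ⁻¹ᵁ U) ⟶ CommRingCat.of Ω}
    (h : Spec.map ψ ≫ (hU.preimage f).fromSpec = Spec.map ψ' ≫ (hU.preimage f).fromSpec) :
    ψ = ψ' :=
  Spec.map_injective ((cancel_mono _).1 h)

theorem point_comp {Z : Scheme.{u}} (g : Z ⟶ X) [IsAffineHom g] (q : Y ⟶ Z) (hq : q ≫ g = f)
    (hU : IsAffineOpen U) (ψ : Γ(Y, f ⁻¹ᵁ U) ⟶ CommRingCat.of Ω) :
    (Spec.map ψ ≫ (hU.preimage f).fromSpec) ≫ q =
      Spec.map (q.appLE (g ⁻¹ᵁ U) (f ⁻¹ᵁ U) (preimage_le_preimage hq U) ≫ ψ) ≫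
        (hU.preimage g).fromSpec := by
  rw [Category.assoc, ← IsAffineOpen.SpecMap_appLE_fromSpec q (hU.preimage g) (hU.preimage f)
    (preimage_le_preimage hq U), Spec.map_comp, Category.assoc]

end GrothLib.FEt21
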