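import Groth.Agent.Lib.FEt21.Basic
import Mathlib.AlgebraicGeometry.Limits

/-!
# Gluing finite étale covers given on two opens
-/

set_option autoImplicit false
set_option backward.isDefEq.respectTransparency false
set_option linter.style.haveILetI false

universe u

open CategoryTheory CategoryTheory.Limits AlgebraicGeometry TopologicalSpace

namespace GrothLib.FEt21

theorem exists_glue_two {X SW SN : Scheme.{u}} (iW : SW ⟶ X) (iN : SN ⟶ X) [IsOpenImmersion iW]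
    [IsOpenImmersion iN] (hWN : ∀ x, x ∈ iW.opensRange ∨ x ∈ iN.opensRange)
    (A : FEt.Cat SW) (B : FEt.Cat SN) {Z : Scheme.{u}} (j₁ : Z ⟶ A.left)
    (j₂ : Z ⟶ B.left) [IsOpenImmersion j₁] [IsOpenImmersion j₂]
    (hz : j₁ ≫ A.hom ≫ iW = j₂ ≫ B.hom ≫ iN)
    (h₁ : ∀ a, ((A.hom ≫ iW) a ∈ iN.opensRange ↔ a ∈ Set.range j₁))
    (h₂ : ∀ b, ((B.hom ≫ iN) b ∈ iW.opensRange ↔ b ∈ Set.range j₂)) :
    ∃ C : FEt.Cat X, Nonempty ((FEt.restrict iW).obj C ≅ A) := by
  let P := pushout j₁ j₂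
  let o₁ : A.left ⟶ P := pushout.inl j₁ j₂
  let o₂ : B.left ⟶ P := pushout.inr j₁ j₂
  haveI io₁ : IsOpenImmersion o₁ :=
    inferInstanceAs (IsOpenImmersion (colimit.ι (span j₁ j₂) WalkingSpan.left))
  haveI io₂ : IsOpenImmersion o₂ :=
    inferInstanceAs (IsOpenImmersion (colimit.ι (span j₁ j₂) WalkingSpan.right))
  let q : P ⟶ X := pushout.desc (A.hom ≫ iW) (B.hom ≫ iN) hz
  have hq₁ : o₁ ≫ q = A.hom ≫ iW := pushout.inl_desc _ _ _
  have hq₂ : o₂ ≫ q = B.hom ≫ iN := pushout.inr_desc _ _ _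
  have hjoint : ∀ x : P, (∃ y, o₁ y = x) ∨ (∃ y, o₂ y = x) := by
    intro x
    obtain ⟨i, xi, rfl⟩ := Scheme.IsLocallyDirected.ι_jointly_surjective (span j₁ j₂) x
    obtain (_ | (_ | _)) := i
    · refine Or.inl ⟨j₁ xi, ?_⟩
      show colimit.ι (span j₁ j₂) WalkingSpan.left ((span j₁ j₂).map WalkingSpan.Hom.fst xi) = _
      rw [← Scheme.Hom.comp_apply, colimit.w]
    · exact Or.inl ⟨xi, rfl⟩
    · exact Or.inr ⟨xi, rfl⟩
  have hcond : j₁ ≫ o₁ = j₂ ≫ o₂ := pushout.condition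
  have hr₁ : q ⁻¹ᵁ iW.opensRange = o₁.opensRange := by
    ext x
    constructor
    · intro hx
      rcases hjoint x with ⟨a, rfl⟩ | ⟨b, rfl⟩
      · exact ⟨a, rfl⟩
      · obtain ⟨z, rfl⟩ := (h₂ b).1 (by rw [← hq₂]; exact hx)
        exact ⟨j₁ z, by rw [← Scheme.Hom.comp_apply, hcond]; rfl⟩
    · rintro ⟨a, rfl⟩
      show (o₁ ≫ q) a ∈ iW.opensRange
      rw [hq₁]
      exact ⟨A.hom a, rfl⟩
  have hr₂ : q ⁻¹ᵁ iN.opensRange = o₂.opensRange := by
    ext x
    constructor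
    · intro hx
      rcases hjoint x with ⟨a, rfl⟩ | ⟨b, rfl⟩
      · obtain ⟨z, rfl⟩ := (h₁ a).1 (by rw [← hq₁]; exact hx)
        exact ⟨j₂ z, by rw [← Scheme.Hom.comp_apply, ← hcond]; rfl⟩
      · exact ⟨b, rfl⟩
    · rintro ⟨b, rfl⟩
      show (o₂ ≫ q) b ∈ iN.opensRange
      rw [hq₂]
      exact ⟨B.hom b, rfl⟩
  have sq₁ : IsPullback A.hom o₁ iW q :=
    IsOpenImmersion.isPullback _ _ _ _ hq₁ hr₁
  have sq₂ : IsPullback B.hom o₂ iN q :=
    IsOpenImmersion.isPullback _ _ _ _ hq₂ hr₂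
  have hloc : ∀ (P' : MorphismProperty Scheme.{u}) [IsZariskiLocalAtTarget P'],
      P' A.hom → P' B.hom → P' q := by
    intro P' _ hA hB
    refine IsZariskiLocalAtTarget.of_iSup_eq_top (P := P')
      (fun b : Bool => if b then iW.opensRange else iN.opensRange) (top_unique fun x _ => ?_) fun b => ?_
    · rcases hWN x with h | h
      · exact Opens.mem_iSup.2 ⟨true, h⟩
      · exact Opens.mem_iSup.2 ⟨false, h⟩
    · cases b
      · show P' (q ∣_ iN.opensRange)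
        exact (P'.arrow_mk_iso_iff (morphismRestrictOpensRange q iN)).2 (by
          show P' (pullback.snd q iN)
          rw [← sq₂.flip.isoPullback_inv_snd]
          exact (P'.cancel_left_of_respectsIso _ _).2 hB)
      · show P' (q ∣_ iW.opensRange)
        exact (P'.arrow_mk_iso_iff (morphismRestrictOpensRange q iW)).2 (by
          show P' (pullback.snd q iW)
          rw [← sq₁.flip.isoPullback_inv_snd]
          exact (P'.cancel_left_of_respectsIso _ _).2 hA)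
  haveI : IsFinite q := hloc @IsFinite A.prop.1 B.prop.1
  haveI : Etale q := hloc @Etale A.prop.2 B.prop.2
  exact ⟨MorphismProperty.Over.mk ⊤ q (prop_of q),
    ⟨MorphismProperty.Over.isoMk sq₁.flip.isoPullback.symm sq₁.flip.isoPullback_inv_snd⟩⟩

end GrothLib.FEt21
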