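import Mathlib.RingTheory.Etale.Locus
import Mathlib.RingTheory.Localization.Finiteness
import Mathlib.RingTheory.Localization.BaseChange
import Mathlib.RingTheory.Etale.QuasiFinite
import Mathlib.RingTheory.FinitePresentation

/-!
# Spreading out algebras and homomorphisms from a localization
-/

set_option autoImplicit false
set_option linter.style.haveILetI false

universe u

namespace GrothLib.FEt21

variable {R : Type u} [CommRing R]

theorem formallyEtale_localization_atPrime {C B : Type u} [CommRing C] [CommRing B] [Algebra R C]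
    [Algebra C B] [Algebra R B] [IsScalarTower R C B] (M : Submonoid C) [IsLocalization M B]
    [Algebra.FormallyEtale R B] (P : Ideal C) [P.IsPrime] (hle : M ≤ P.primeCompl) :
    Algebra.FormallyEtale R (Localization.AtPrime P) := by
  letI : Algebra B (Localization.AtPrime P) :=
    IsLocalization.localizationAlgebraOfSubmonoidLe _ _ _ _ hle
  haveI : IsScalarTower C B (Localization.AtPrime P) :=
    IsLocalization.localization_isScalarTower_of_submonoid_le _ _ _ _ hle
  haveI : IsScalarTower R B (Localization.AtPrime P) := IsScalarTower.of_algebraMap_eq fun r => by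
    rw [IsScalarTower.algebraMap_apply R C B, ← IsScalarTower.algebraMap_apply C B,
      ← IsScalarTower.algebraMap_apply R C]
  haveI := IsLocalization.isLocalization_of_submonoid_le B (Localization.AtPrime P) _ _ hle
  haveI : Algebra.FormallyEtale B (Localization.AtPrime P) :=
    Algebra.FormallyEtale.of_isLocalization (P.primeCompl.map (algebraMap C B))
  exact Algebra.FormallyEtale.comp R B (Localization.AtPrime P)

/-- A finite étale algebra over a local ring of a noetherian ring is defined near the prime. -/
theorem exists_model_of_finite_etale [IsNoetherianRing R] (p : Ideal R) [p.IsPrime] (A : Type u)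
    [CommRing A] [Algebra R A] [IsLocalization.AtPrime A p] (B : Type u) [CommRing B] [Algebra A B]
    [Algebra R B] [IsScalarTower R A B] [Module.Finite A B] [Algebra.Etale A B] :
    ∃ (g : R) (_ : g ∉ p) (C : Type u) (_ : CommRing C) (_ : Algebra R C) (ρ : C →ₐ[R] B),
      Module.Finite R C ∧ Algebra.Etale R (Localization.Away (algebraMap R C g)) ∧
      @IsLocalization C _ (Algebra.algebraMapSubmonoid C p.primeCompl) B _ ρ.toRingHom.toAlgebra := by
  classical
  -- integral generators
  obtain ⟨n, b, hb⟩ := Module.Finite.exists_fin (R := A) (M := B)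
  haveI : Algebra.IsIntegral A B := inferInstance
  have hint : ∀ i, ∃ t : B, ∃ m : p.primeCompl, IsIntegral R t ∧ t = algebraMap R B m * b i := fun i => by
    obtain ⟨⟨m, hm⟩, hmi⟩ := IsIntegral.exists_multiple_integral_of_isLocalization p.primeCompl (b i)
      (Algebra.IsIntegral.isIntegral (R := A) (b i))
    exact ⟨_, ⟨m, hm⟩, hmi, by rw [Submonoid.smul_def, Algebra.smul_def]⟩
  choose t m ht htb using hint
  let C := Algebra.adjoin R (Set.range t)
  haveI hfin : Module.Finite R C :=
    ⟨(Submodule.fg_top _).2 (fg_adjoin_of_finite (Set.finite_range t) fun x hx => by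
      obtain ⟨i, rfl⟩ := hx; exact ht i)⟩
  let ρ : C →ₐ[R] B := C.val
  have hu : ∀ r : p.primeCompl, IsUnit (algebraMap R B r) := fun r => by
    rw [IsScalarTower.algebraMap_apply R A B]
    exact (IsLocalization.map_units A r).map _
  haveI hloc : IsLocalization (Algebra.algebraMapSubmonoid C p.primeCompl) B := by
    constructor; constructor
    · rintro ⟨_, r, hr, rfl⟩
      exact hu ⟨r, hr⟩
    · intro x
      -- every element of `B` is a fraction
      have hx : x ∈ Submodule.span A (Set.range b) := hb.ge trivial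
      obtain ⟨c, rfl⟩ := (Submodule.mem_span_range_iff_exists_fun A).1 hx
      obtain ⟨⟨s, hs⟩, hc⟩ := IsLocalization.exist_integer_multiples_of_finite p.primeCompl c
      choose r hr using hc
      let M : p.primeCompl := ∏ i, m i
      refine ⟨⟨∑ i, algebraMap R C (r i * ∏ j ∈ Finset.univ.erase i, (m j : R)) *
        ⟨t i, Algebra.subset_adjoin ⟨i, rfl⟩⟩, algebraMap R C (s * M), s * M,
        p.primeCompl.mul_mem hs M.2, rfl⟩, ?_⟩
      show (∑ i, c i • b i) * algebraMap R B (s * M) = ρ _
      rw [map_sum, Finset.sum_mul]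
      refine Finset.sum_congr rfl fun i _ => ?_
      have hM : (M : R) = m i * ∏ j ∈ Finset.univ.erase i, (m j : R) := by
        rw [Finset.mul_prod_erase Finset.univ (fun j => (m j : R)) (Finset.mem_univ i)]
        simp [M]
      have hri : algebraMap R B (r i) = algebraMap R B s * algebraMap A B (c i) := by
        rw [IsScalarTower.algebraMap_apply R A B, hr i, Algebra.smul_def, map_mul,
          ← IsScalarTower.algebraMap_apply]
      show c i • b i * algebraMap R B (s * M) =
        algebraMap R B (r i * ∏ j ∈ Finset.univ.erase i, (m j : R)) * t i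
      rw [htb, hM, Algebra.smul_def, map_mul, map_mul, map_mul, hri]
      ring
    · intro x y h
      exact ⟨1, by rw [Subtype.ext h]⟩
  haveI : IsNoetherianRing C := IsNoetherianRing.of_finite R C
  haveI : Algebra.FinitePresentation R C := Algebra.FinitePresentation.of_finiteType.mp inferInstance
  haveI : IsScalarTower R C B := IsScalarTower.of_algebraMap_eq fun r => (ρ.commutes r).symm
  haveI : Algebra.FormallyEtale R A := Algebra.FormallyEtale.of_isLocalization p.primeCompl
  haveI : Algebra.FormallyEtale R B := Algebra.FormallyEtale.comp R A B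
  -- the étale locus contains the primes over `p`
  let bad : Set (PrimeSpectrum C) := (Algebra.etaleLocus R C)ᶜ
  have hclosed : IsClosed (PrimeSpectrum.comap (algebraMap R C) '' bad) :=
    (PrimeSpectrum.isClosedMap_comap_of_isIntegral (algebraMap R C)
      (algebraMap_isIntegral_iff.2 inferInstance)) _ Algebra.isOpen_etaleLocus.isClosed_compl
  have hp : (⟨p, ‹_›⟩ : PrimeSpectrum R) ∉ PrimeSpectrum.comap (algebraMap R C) '' bad := by
    rintro ⟨P, hP, hPp⟩
    refine hP ?_
    show Algebra.FormallyEtale R (Localization.AtPrime P.asIdeal)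
    have hPp' : P.asIdeal.comap (algebraMap R C) = p := congrArg PrimeSpectrum.asIdeal hPp
    have hle : Algebra.algebraMapSubmonoid C p.primeCompl ≤ P.asIdeal.primeCompl := by
      rintro _ ⟨r, hr, rfl⟩ h
      exact hr (hPp'.le h)
    exact formallyEtale_localization_atPrime (B := B) (Algebra.algebraMapSubmonoid C p.primeCompl) P.asIdeal hle
  obtain ⟨_, ⟨g, rfl⟩, hgp, hg⟩ := PrimeSpectrum.isTopologicalBasis_basic_opens.exists_subset_of_mem_open
    hp hclosed.isOpen_compl
  refine ⟨g, hgp, C, inferInstance, inferInstance, ρ, hfin, ?_, hloc⟩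
  rw [← Algebra.basicOpen_subset_etaleLocus_iff_etale]
  intro P hP
  by_contra h
  exact hg (show PrimeSpectrum.comap (algebraMap R C) P ∈ PrimeSpectrum.basicOpen g from hP) ⟨P, h, rfl⟩

/-- A homomorphism into a localization at a prime from a finitely presented algebra extends nearby. -/
theorem exists_hom_away (p : Ideal R) [p.IsPrime] {C M Mp : Type u} [CommRing C] [Algebra R C]
    [Algebra.FinitePresentation R C] [CommRing M] [Algebra R M] [CommRing Mp] [Algebra M Mp]
    [IsLocalization (Algebra.algebraMapSubmonoid M p.primeCompl) Mp] (φ : C →+* Mp)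
    (hφ : ∀ r, φ (algebraMap R C r) = algebraMap M Mp (algebraMap R M r)) :
    ∃ s ∉ p, ∀ (L : Type u) [CommRing L] [Algebra M L] [IsLocalization.Away (algebraMap R M s) L],
      ∃ ψ : C →+* L, (∀ r, ψ (algebraMap R C r) = algebraMap M L (algebraMap R M r)) ∧
        ∀ (K : Type u) [CommRing K] (f : L →+* K) (g : Mp →+* K),
          f.comp (algebraMap M L) = g.comp (algebraMap M Mp) → f.comp ψ = g.comp φ := by
  classical
  obtain ⟨n, π, hπ, hker⟩ := (inferInstance : Algebra.FinitePresentation R C).out
  obtain ⟨⟨_, s₀, hs₀, rfl⟩, hm⟩ := IsLocalization.exist_integer_multiples_of_finite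
    (Algebra.algebraMapSubmonoid M p.primeCompl) fun i => φ (π (MvPolynomial.X i))
  choose m hm using hm
  -- relations
  obtain ⟨G, hG⟩ := hker
  have key : ∀ (K : Type u) [CommRing K] (f : M →+* K) (w : K), w * f (algebraMap R M s₀) = 1 →
      ∀ (g : Mp →+* K), g.comp (algebraMap M Mp) = f → ∀ q : MvPolynomial (Fin n) R,
        (MvPolynomial.eval₂Hom (f.comp (algebraMap R M)) fun i => f (m i) * w) q = g (φ (π q)) := by
    intro K _ f w hw g hgf q
    have : (MvPolynomial.eval₂Hom (f.comp (algebraMap R M)) fun i => f (m i) * w) =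
        g.comp (φ.comp π.toRingHom) := by
      refine MvPolynomial.ringHom_ext (fun r => ?_) fun i => ?_
      · simp only [MvPolynomial.eval₂Hom_C]
        show f (algebraMap R M r) = g (φ (π (MvPolynomial.C r)))
        rw [show π (MvPolynomial.C r) = algebraMap R C r from π.commutes r, hφ, ← hgf]
        rfl
      · simp only [MvPolynomial.eval₂Hom_X']
        have h2 : f (m i) = f (algebraMap R M s₀) * g (φ (π (MvPolynomial.X i))) := by
          rw [← hgf, RingHom.comp_apply, RingHom.comp_apply, ← map_mul, hm i]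
          congr 1
          rw [Algebra.smul_def]
        show f (m i) * w = g (φ (π (MvPolynomial.X i)))
        rw [h2, mul_comm _ w, ← mul_assoc, hw, one_mul]
    exact RingHom.congr_fun this q
  -- clear denominators of the relations
  let L₀ := Localization.Away (algebraMap R M s₀)
  obtain ⟨w₀, hw₀⟩ : ∃ w : L₀, w * algebraMap M L₀ (algebraMap R M s₀) = 1 :=
    ⟨_, (IsLocalization.Away.algebraMap_isUnit (algebraMap R M s₀)).val_inv_mul⟩
  have hu₀ : IsUnit (algebraMap M Mp (algebraMap R M s₀)) :=
    IsLocalization.map_units Mp (⟨_, s₀, hs₀, rfl⟩ : Algebra.algebraMapSubmonoid M p.primeCompl)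
  let g₀ : L₀ →+* Mp := IsLocalization.Away.lift (algebraMap R M s₀) hu₀
  let E₀ := MvPolynomial.eval₂Hom ((algebraMap M L₀).comp (algebraMap R M)) fun i => algebraMap M L₀ (m i) * w₀
  have hkill : ∀ q ∈ G, ∃ r ∈ p.primeCompl, algebraMap M L₀ (algebraMap R M r) * E₀ q = 0 := by
    intro q hq
    have h1 : g₀ (E₀ q) = 0 := by
      have h2 := key Mp (algebraMap M Mp) (g₀ w₀) (by
        rw [← IsLocalization.Away.lift_eq (S := L₀) (algebraMap R M s₀) hu₀ (algebraMap R M s₀), ← map_mul, hw₀, map_one])
        (RingHom.id Mp) rfl q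
      have h3 : g₀.comp E₀ = MvPolynomial.eval₂Hom ((algebraMap M Mp).comp (algebraMap R M))
          fun i => algebraMap M Mp (m i) * g₀ w₀ := by
        refine MvPolynomial.ringHom_ext (fun r => ?_) fun i => ?_
        · simp [E₀, g₀, IsLocalization.Away.lift_eq]
        · simp [E₀, g₀, IsLocalization.Away.lift_eq]
      rw [← RingHom.comp_apply, h3, h2, RingHom.id_apply]
      have : π q = 0 := (hG ▸ Ideal.subset_span hq : q ∈ RingHom.ker π.toRingHom)
      rw [this, map_zero]
    obtain ⟨⟨a, ⟨_, k, rfl⟩⟩, ha⟩ := IsLocalization.surj (Submonoid.powers (algebraMap R M s₀)) (E₀ q)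
    have h4 : algebraMap M Mp a = 0 := by
      rw [← IsLocalization.Away.lift_eq (S := L₀) (algebraMap R M s₀) hu₀ a]
      show g₀ _ = 0
      rw [← ha, map_mul, h1, zero_mul]
    obtain ⟨⟨_, r, hr, rfl⟩, hr0⟩ :=
      (IsLocalization.map_eq_zero_iff (Algebra.algebraMapSubmonoid M p.primeCompl) Mp a).1 h4
    refine ⟨r, hr, (IsLocalization.map_units L₀ (⟨_, k, rfl⟩ : Submonoid.powers (algebraMap R M s₀))).mul_left_eq_zero.1 ?_⟩
    rw [mul_assoc, ha, ← map_mul, hr0, map_zero]
  choose r hr hrq using hkill
  let r' : R := ∏ q : G, r q.1 q.2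
  have hr' : r' ∈ p.primeCompl := Submonoid.prod_mem _ fun q _ => hr q.1 q.2
  refine ⟨s₀ * r', p.primeCompl.mul_mem hs₀ hr', fun L _ _ _ => ?_⟩
  have huL : IsUnit (algebraMap M L (algebraMap R M s₀) * algebraMap M L (algebraMap R M r')) := by
    rw [← map_mul, ← map_mul]
    exact IsLocalization.Away.algebraMap_isUnit _
  obtain ⟨hus, hur⟩ := IsUnit.mul_iff.1 huL
  let c : L₀ →+* L := IsLocalization.Away.lift (algebraMap R M s₀) hus
  have hc : ∀ x, c (algebraMap M L₀ x) = algebraMap M L x := IsLocalization.Away.lift_eq _ hus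
  have hEker : ∀ q ∈ RingHom.ker π.toRingHom, c (E₀ q) = 0 := by
    intro q hq
    rw [← hG] at hq
    induction hq using Submodule.span_induction with
    | mem x hx =>
      have h1 := congrArg c (hrq x hx)
      rw [map_mul, map_zero, hc] at h1
      refine (IsUnit.mul_right_eq_zero ?_).1 h1
      refine isUnit_of_dvd_unit (map_dvd _ (map_dvd _ ?_)) hur
      exact Finset.dvd_prod_of_mem (fun q : G => r q.1 q.2) (Finset.mem_univ (⟨x, hx⟩ : G))
    | zero => simp
    | add x y _ _ hx hy => rw [map_add, map_add, hx, hy, add_zero]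
    | smul a x _ hx => rw [smul_eq_mul, map_mul, map_mul, hx, mul_zero]
  let ψ : C →+* L := RingHom.liftOfSurjective π.toRingHom hπ ⟨c.comp E₀, hEker⟩
  have hψ : ∀ q, ψ (π q) = c (E₀ q) := fun q =>
    RingHom.liftOfRightInverse_comp_apply _ _ _ _ q
  refine ⟨ψ, fun x => ?_, fun K _ f g hfg => ?_⟩
  · rw [← π.commutes, hψ, MvPolynomial.algebraMap_eq]
    simp [E₀, hc]
  · refine RingHom.ext fun x => ?_
    obtain ⟨q, rfl⟩ := hπ x
    show f (ψ (π q)) = g (φ (π q))
    rw [hψ, ← key K (f.comp (algebraMap M L)) (f (c w₀)) (by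
      rw [RingHom.comp_apply, ← hc, ← map_mul, ← map_mul, hw₀, map_one, map_one]) g hfg.symm q]
    have h3 : (f.comp c).comp E₀ = MvPolynomial.eval₂Hom ((f.comp (algebraMap M L)).comp (algebraMap R M))
        fun i => f.comp (algebraMap M L) (m i) * f (c w₀) := by
      refine MvPolynomial.ringHom_ext (fun r => ?_) fun i => ?_
      · simp [E₀, hc]
      · simp [E₀, hc]
    exact RingHom.congr_fun h3 q

end GrothLib.FEt21
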