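import Groth.Agent.Lib.FEt21.Galois
import Groth.Agent.Lib.FEt21.Affine
import Groth.Agent.Lib.FEt21.SpreadAlg
import Groth.Agent.Lib.FEt21.GlueTwo
import Groth.Agent.Lib.GrpdQuot.InvariantOpen
import Groth.Agent.Lib.Depth.Hartogs
import Mathlib.AlgebraicGeometry.Morphisms.Flat
import Mathlib.AlgebraicGeometry.Noetherian
import Mathlib.AlgebraicGeometry.Morphisms.FinitePresentation

/-!
# Extending finite étale covers from the local schemes at the points of a noetherian scheme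
-/

set_option autoImplicit false
set_option backward.isDefEq.respectTransparency false
set_option linter.style.haveILetI false

universe u

open CategoryTheory CategoryTheory.Limits AlgebraicGeometry TopologicalSpace Opposite

namespace GrothLib.FEt21

theorem isPullback_comp_mono {C : Type*} [Category C] {P A B S S' : C} {a : P ⟶ A} {b : P ⟶ B}
    {f : A ⟶ S} {g : B ⟶ S} (sq : IsPullback a b f g) (i : S ⟶ S') [Mono i] :
    IsPullback a b (f ≫ i) (g ≫ i) :=
  IsPullback.of_isLimit' ⟨by rw [reassoc_of% sq.w]⟩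
    (PullbackCone.IsLimit.mk _
      (fun s => sq.lift s.fst s.snd ((cancel_mono i).1 (by simpa [Category.assoc] using s.condition)))
      (fun s => sq.lift_fst _ _ _) (fun s => sq.lift_snd _ _ _)
      (fun s m hm₁ hm₂ => sq.hom_ext (by simpa using hm₁) (by simpa using hm₂)))

theorem topIso_inv_appTop {P Z : Scheme.{u}} (O : P.Opens) (l : Z ⟶ (O : Scheme.{u})) :
    O.topIso.inv ≫ l.appTop = (l ≫ O.ι).appLE O ⊤ (fun z _ => (l z).2) := by
  have h : O.ι.appLE O ⊤ (fun z _ => z.2) = O.topIso.inv := by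
    rw [Scheme.Opens.ι_appLE]
    simp only [Scheme.Opens.topIso, Functor.mapIso_inv]
    exact congrArg P.presheaf.map (Subsingleton.elim _ _)
  rw [← h, show l.appTop = l.appLE ⊤ ⊤ le_top from l.app_eq_appLE, Scheme.Hom.appLE_comp_appLE]

theorem appTop_toSpecΓ_SpecMap_isoSpec {P T : Scheme.{u}} [IsAffine T] (f : Γ(T, ⊤) ⟶ Γ(P, ⊤)) :
    (P.toSpecΓ ≫ Spec.map f ≫ T.isoSpec.inv).appTop = f := by
  have h1 : T.isoSpec.inv.appTop = (Scheme.ΓSpecIso Γ(T, ⊤)).inv := by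
    have : T.isoSpec.hom.appTop = (Scheme.ΓSpecIso Γ(T, ⊤)).hom := Scheme.toSpecΓ_appTop T
    rw [← cancel_mono T.isoSpec.hom.appTop]
    rw [this, Iso.inv_hom_id]
    rw [← this, ← Scheme.Hom.comp_appTop, Iso.hom_inv_id, Scheme.Hom.id_appTop]
  rw [Scheme.Hom.comp_appTop, Scheme.Hom.comp_appTop, h1, Scheme.toSpecΓ_appTop, Category.assoc,
    Scheme.ΓSpecIso_naturality, Iso.inv_hom_id_assoc]

theorem appLE_eq_of_eq {P T : Scheme.{u}} {f g : P ⟶ T} (h : f = g) (U : T.Opens) (V : P.Opens)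
    (e : V ≤ f ⁻¹ᵁ U) (e' : V ≤ g ⁻¹ᵁ U) : f.appLE U V e = g.appLE U V e' := by
  subst h; rfl

theorem flat_fromSpecStalk {X : Scheme.{u}} (x : X) : Flat (X.fromSpecStalk x) := by
  obtain ⟨_, ⟨U, hU, rfl⟩, hxU, -⟩ :=
    X.isBasis_affineOpens.exists_subset_of_mem_open (Set.mem_univ x) isOpen_univ
  rw [← hU.fromSpecStalk_eq_fromSpecStalk hxU]
  letI : Algebra Γ(X, U) (X.presheaf.stalk x) := (X.presheaf.germ U x hxU).hom.toAlgebra
  haveI : IsLocalization.AtPrime (X.presheaf.stalk x) (hU.primeIdealOf ⟨x, hxU⟩).asIdeal :=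
    hU.isLocalization_stalk ⟨x, hxU⟩
  haveI : Flat (Spec.map (X.presheaf.germ U x hxU)) := by
    rw [HasRingHomProperty.Spec_iff (P := @Flat)]
    show RingHom.Flat (algebraMap Γ(X, U) (X.presheaf.stalk x))
    rw [RingHom.flat_algebraMap_iff]
    exact IsLocalization.flat _ (hU.primeIdealOf ⟨x, hxU⟩).asIdeal.primeCompl
  exact MorphismProperty.comp_mem @Flat (Spec.map (X.presheaf.germ U x hxU)) hU.fromSpec inferInstance inferInstance

theorem fromSpecStalk_mem_of_mem {X : Scheme.{u}} {x : X} {N : X.Opens} (hxN : x ∈ N)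
    (z : Spec (X.presheaf.stalk x)) : X.fromSpecStalk x z ∈ N := by
  have h : X.fromSpecStalk x z ⤳ x := by
    have := congrArg (X.fromSpecStalk x z ∈ ·) (Scheme.range_fromSpecStalk (X := X) (x := x))
    exact this.mp ⟨z, rfl⟩
  exact h.mem_open N.2 hxN

theorem isAffineHom_of_isAffine_target {P S : Scheme.{u}} (f : P ⟶ S) [IsFinite f] [IsAffine S] : IsAffine P :=
  isAffine_of_isAffineHom f

/-- A finite étale cover of the local scheme at a point is defined on a neighbourhood. -/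
theorem exists_cover_nhd {X : Scheme.{u}} [IsLocallyNoetherian X] (x : X)
    (Y : FEt.Cat (Spec (X.presheaf.stalk x))) :
    ∃ (N : X.Opens) (_ : IsAffineOpen N) (_ : x ∈ N) (C : FEt.Cat (N : Scheme.{u})) (ρ : Y.left ⟶ C.left),
      IsPullback ρ Y.hom (C.hom ≫ N.ι) (X.fromSpecStalk x) := by
  obtain ⟨_, ⟨N₀, hN₀, rfl⟩, hxN₀, -⟩ :=
    X.isBasis_affineOpens.exists_subset_of_mem_open (Set.mem_univ x) isOpen_univ
  haveI : IsNoetherianRing Γ(X, N₀) := IsLocallyNoetherian.component_noetherian ⟨N₀, hN₀⟩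
  let p := (hN₀.primeIdealOf ⟨x, hxN₀⟩).asIdeal
  let A := X.presheaf.stalk x
  letI : Algebra Γ(X, N₀) A := (X.presheaf.germ N₀ x hxN₀).hom.toAlgebra
  haveI : IsLocalization.AtPrime A p := hN₀.isLocalization_stalk ⟨x, hxN₀⟩
  let qY : Y.left ⟶ Spec A := Y.hom
  haveI : IsFinite qY := Y.prop.1
  haveI : Etale qY := Y.prop.2
  haveI : IsAffine Y.left := isAffine_of_isAffineHom qY
  obtain ⟨φ, hφ⟩ := Spec.map_surjective (Y.left.isoSpec.inv ≫ qY)
  letI : Algebra A Γ(Y.left, ⊤) := φ.hom.toAlgebra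
  haveI : IsFinite (Spec.map φ) := hφ ▸ inferInstance
  haveI : Etale (Spec.map φ) := hφ ▸ inferInstance
  haveI : Module.Finite A Γ(Y.left, ⊤) := (IsFinite.SpecMap_iff φ).1 inferInstance
  haveI : Algebra.Etale A Γ(Y.left, ⊤) := by
    have h := (HasRingHomProperty.Spec_iff (P := @Etale) (φ := φ)).1 inferInstance
    exact h
  letI : Algebra Γ(X, N₀) Γ(Y.left, ⊤) := (φ.hom.comp (algebraMap Γ(X, N₀) A)).toAlgebra
  haveI : IsScalarTower Γ(X, N₀) A Γ(Y.left, ⊤) := IsScalarTower.of_algebraMap_eq fun _ => rfl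
  obtain ⟨g, hg, C₀, _, _, ρ, _, _, hloc⟩ := exists_model_of_finite_etale p A Γ(Y.left, ⊤)
  letI : Algebra C₀ Γ(Y.left, ⊤) := ρ.toRingHom.toAlgebra
  haveI : IsScalarTower Γ(X, N₀) C₀ Γ(Y.left, ⊤) := IsScalarTower.of_algebraMap_eq fun r => (ρ.commutes r).symm
  haveI := hloc
  let N := X.basicOpen g
  have hN : IsAffineOpen N := hN₀.basicOpen g
  have hxN : x ∈ N := (X.mem_basicOpen g x hxN₀).2 (IsLocalization.map_units A (⟨g, hg⟩ : p.primeCompl))
  let R' := Γ(X, N)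
  haveI : IsLocalization.Away g R' := hN₀.isLocalization_basicOpen g
  let C' := Localization.Away (algebraMap Γ(X, N₀) C₀ g)
  haveI : IsLocalization ((Submonoid.powers g).map (algebraMap Γ(X, N₀) C₀)) C' := by
    rw [Submonoid.map_powers]; infer_instance
  haveI : IsLocalization (Algebra.algebraMapSubmonoid C₀ (Submonoid.powers g)) C' := ‹_›
  letI : Algebra R' C' := localizationAlgebra (Submonoid.powers g) C₀
  haveI : IsScalarTower Γ(X, N₀) R' C' := IsScalarTower.of_algebraMap_eq fun r => by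
    rw [IsScalarTower.algebraMap_apply Γ(X, N₀) C₀ C']
    exact (IsLocalization.map_eq _ r).symm
  haveI : Module.Finite R' C' := Module.Finite.of_isLocalization Γ(X, N₀) C₀ (Submonoid.powers g)
  haveI : Algebra.Etale Γ(X, N₀) R' := Algebra.Etale.of_isLocalizationAway g
  haveI : Algebra.Etale R' C' := Algebra.Etale.of_restrictScalars Γ(X, N₀) R' C'
  let qC : Spec (CommRingCat.of C') ⟶ Spec R' := Spec.map (CommRingCat.ofHom (algebraMap R' C'))
  haveI : IsFinite qC := (IsFinite.SpecMap_iff _).2 (RingHom.finite_algebraMap.2 inferInstance)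
  haveI : Etale qC := by
    rw [HasRingHomProperty.Spec_iff (P := @Etale), CommRingCat.hom_ofHom, RingHom.etale_algebraMap]
    infer_instance
  have hu : IsUnit (algebraMap C₀ Γ(Y.left, ⊤) (algebraMap Γ(X, N₀) C₀ g)) :=
    IsLocalization.map_units _ (⟨_, g, hg, rfl⟩ : Algebra.algebraMapSubmonoid C₀ p.primeCompl)
  let ρ' : C' →+* Γ(Y.left, ⊤) := IsLocalization.Away.lift (algebraMap Γ(X, N₀) C₀ g) hu
  have hρ' : ρ'.comp (algebraMap C₀ C') = algebraMap C₀ Γ(Y.left, ⊤) := IsLocalization.Away.lift_comp _ hu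
  let γ : R' ⟶ A := X.presheaf.germ N x hxN
  have hγ : X.presheaf.map (homOfLE (X.basicOpen_le g)).op ≫ γ = X.presheaf.germ N₀ x hxN₀ :=
    X.presheaf.germ_res _ x hxN
  haveI : Algebra.IsPushout Γ(X, N₀) C₀ A Γ(Y.left, ⊤) := Algebra.isPushout_of_isLocalization p.primeCompl _ _ _
  haveI : Algebra.IsPushout Γ(X, N₀) C₀ R' C' := Algebra.isPushout_of_isLocalization (Submonoid.powers g) _ _ _
  have sB := isPullback_SpecMap_of_isPushout _ _ _ _
    (CommRingCat.isPushout_of_isPushout Γ(X, N₀) C₀ A Γ(Y.left, ⊤))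
  have sC := isPullback_SpecMap_of_isPushout _ _ _ _
    (CommRingCat.isPushout_of_isPushout Γ(X, N₀) C₀ R' C')
  have eA : CommRingCat.ofHom (algebraMap Γ(X, N₀) R') ≫ γ = CommRingCat.ofHom (algebraMap Γ(X, N₀) A) := hγ
  have sq : IsPullback (Spec.map (CommRingCat.ofHom ρ')) (Spec.map φ) qC (Spec.map γ) := by
    refine IsPullback.of_right ?_ ?_ sC
    · rw [← Spec.map_comp, ← Spec.map_comp]
      have e1 : CommRingCat.ofHom (algebraMap C₀ C') ≫ CommRingCat.ofHom ρ' =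
          CommRingCat.ofHom (algebraMap C₀ Γ(Y.left, ⊤)) := by
        rw [← CommRingCat.ofHom_comp, hρ']
      rw [e1, eA]
      exact sB
    · rw [← Spec.map_comp, ← Spec.map_comp]
      congr 1
      refine CommRingCat.hom_ext (IsLocalization.ringHom_ext (Submonoid.powers g) (RingHom.ext fun r => ?_))
      show ρ' (algebraMap R' C' (algebraMap Γ(X, N₀) R' r)) = φ.hom (γ.hom (algebraMap Γ(X, N₀) R' r))
      rw [← IsScalarTower.algebraMap_apply Γ(X, N₀) R' C', IsScalarTower.algebraMap_apply Γ(X, N₀) C₀ C',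
        ← RingHom.comp_apply ρ', hρ', ← IsScalarTower.algebraMap_apply Γ(X, N₀) C₀]
      exact congrArg φ.hom (congr($(eA).hom r)).symm
  haveI : IsAffine (N : Scheme.{u}) := hN
  refine ⟨N, hN, hxN, MorphismProperty.Over.mk ⊤ (qC ≫ hN.isoSpec.inv) (prop_of _),
    Y.left.isoSpec.hom ≫ Spec.map (CommRingCat.ofHom ρ'), ?_⟩
  refine (isPullback_comp_mono sq hN.fromSpec).of_iso Y.left.isoSpec.symm (Iso.refl _) (Iso.refl _) (Iso.refl _)
    (by simp) ?_ ?_ ?_
  · simp only [Iso.refl_hom, Category.comp_id, Iso.symm_hom]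
    exact hφ
  · show (qC ≫ hN.fromSpec) ≫ 𝟙 X = 𝟙 _ ≫ (qC ≫ hN.isoSpec.inv) ≫ N.ι
    rw [Category.comp_id, Category.id_comp, Category.assoc, IsAffineOpen.isoSpec_inv_ι]
  · simp only [Iso.refl_hom, Category.comp_id, Category.id_comp]
    rw [← IsAffineOpen.fromSpecStalk_eq_fromSpecStalk hN hxN]
    rfl

/-- A morphism from the local scheme at a point into an affine scheme of finite presentation extends. -/
theorem exists_hom_nhd {P X : Scheme.{u}} (v : P ⟶ X) [QuasiCompact v] [QuasiSeparated v] (x : X)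
    {N : X.Opens} (hN : IsAffineOpen N) (hxN : x ∈ N) {T : Scheme.{u}} [IsAffine T]
    (t : T ⟶ (N : Scheme.{u})) [LocallyOfFinitePresentation t]
    (φ : pullback v (X.fromSpecStalk x) ⟶ T)
    (hφ : φ ≫ t ≫ N.ι = pullback.fst v (X.fromSpecStalk x) ≫ v) :
    ∃ (N' : X.Opens) (_ : x ∈ N') (_ : N' ≤ N) (_ : IsAffineOpen N') (h : (v ⁻¹ᵁ N' : Scheme.{u}) ⟶ T),
      h ≫ t ≫ N.ι = (v ⁻¹ᵁ N').ι ≫ v ∧
      ∀ ⦃Z : Scheme.{u}⦄ (a : Z ⟶ pullback v (X.fromSpecStalk x)) (b : Z ⟶ (v ⁻¹ᵁ N' : Scheme.{u})),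
        b ≫ (v ⁻¹ᵁ N').ι = a ≫ pullback.fst v (X.fromSpecStalk x) → b ≫ h = a ≫ φ := by
  haveI : IsAffine (N : Scheme.{u}) := hN
  let A := X.presheaf.stalk x
  let Q := pullback v (X.fromSpecStalk x)
  let π : Q ⟶ P := pullback.fst v (X.fromSpecStalk x)
  let p := (hN.primeIdealOf ⟨x, hxN⟩).asIdeal
  have hπ : (⊤ : Q.Opens) ≤ π ⁻¹ᵁ (v ⁻¹ᵁ N) := fun z _ => by
    show (π ≫ v) z ∈ N
    rw [show π ≫ v = pullback.snd _ _ ≫ X.fromSpecStalk x from pullback.condition]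
    exact fromSpecStalk_mem_of_mem hxN _
  have htop : (⊤ : (Spec A).Opens) ≤ X.fromSpecStalk x ⁻¹ᵁ N := fun z _ => fromSpecStalk_mem_of_mem hxN z
  let a₀ : Γ(X, N) ⟶ Γ(Spec A, ⊤) := (X.fromSpecStalk x).appLE N ⊤ htop
  have ha₀ : a₀ = X.presheaf.germ N x hxN ≫ (Scheme.ΓSpecIso A).inv := by
    show (X.fromSpecStalk x).appLE N ⊤ htop = _
    rw [Scheme.Hom.appLE, Scheme.fromSpecStalk_app hxN, Category.assoc, Category.assoc, ← Functor.map_comp]
    simp only [Subsingleton.elim _ (𝟙 (op (⊤ : (Spec A).Opens))), CategoryTheory.Functor.map_id,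
      Category.comp_id]
    rfl
  haveI : Flat (X.fromSpecStalk x) := flat_fromSpecStalk x
  have hpo : IsPushout (v.appLE N (v ⁻¹ᵁ N) le_rfl) a₀ (π.appLE (v ⁻¹ᵁ N) ⊤ hπ)
      ((pullback.snd v (X.fromSpecStalk x)).appLE ⊤ ⊤ (by simp)) :=
    (isIso_pushoutSection_iff (IsPullback.of_hasPullback v (X.fromSpecStalk x)) htop le_rfl
      (UY := ⊤) (top_le_iff.1 (le_inf hπ (by simp))).symm).1
      (isIso_pushoutSection_of_isQuasiSeparated_of_flat_right _ _ _ _ hN (isAffineOpen_top _)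
        (v.isCompact_preimage hN.isCompact) (v.isQuasiSeparated_preimage hN.isQuasiSeparated))
  let R := Γ(X, N)
  let M := Γ(P, v ⁻¹ᵁ N)
  letI : Algebra R M := (v.appLE N (v ⁻¹ᵁ N) le_rfl).hom.toAlgebra
  letI : Algebra M Γ(Q, ⊤) := (π.appLE (v ⁻¹ᵁ N) ⊤ hπ).hom.toAlgebra
  letI : Algebra R Γ(Spec A, ⊤) := a₀.hom.toAlgebra
  letI : Algebra Γ(Spec A, ⊤) Γ(Q, ⊤) := ((pullback.snd v (X.fromSpecStalk x)).appLE ⊤ ⊤ (by simp)).hom.toAlgebra
  letI : Algebra R Γ(Q, ⊤) := ((algebraMap M Γ(Q, ⊤)).comp (algebraMap R M)).toAlgebra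
  haveI : IsScalarTower R M Γ(Q, ⊤) := IsScalarTower.of_algebraMap_eq fun _ => rfl
  haveI : IsScalarTower R Γ(Spec A, ⊤) Γ(Q, ⊤) := IsScalarTower.of_algebraMap_eq fun r => congr($(hpo.w).hom r)
  haveI : IsLocalization p.primeCompl Γ(Spec A, ⊤) := by
    letI : Algebra R A := (X.presheaf.germ N x hxN).hom.toAlgebra
    haveI : IsLocalization.AtPrime A p := hN.isLocalization_stalk ⟨x, hxN⟩
    refine IsLocalization.isLocalization_of_algEquiv (S := A) p.primeCompl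
      (AlgEquiv.ofRingEquiv (f := (Scheme.ΓSpecIso A).symm.commRingCatIsoToRingEquiv) fun r => ?_)
    exact (congr($(ha₀).hom r)).symm
  haveI : IsLocalization (Algebra.algebraMapSubmonoid M p.primeCompl) Γ(Q, ⊤) :=
    (Algebra.isLocalization_iff_isPushout (A := Γ(Spec A, ⊤)) p.primeCompl).2
      (CommRingCat.isPushout_iff_isPushout.1 hpo)
  let C := Γ(T, ⊤)
  let θ : R ⟶ C := t.appLE (⊤) ⊤ le_top |> (N.topIso.inv ≫ ·)
  letI : Algebra R C := θ.hom.toAlgebra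
  haveI : Algebra.FinitePresentation R C := by
    have h := t.finitePresentation_appLE (isAffineOpen_top _) (isAffineOpen_top _) (le_top : (⊤ : T.Opens) ≤ t ⁻¹ᵁ ⊤)
    exact RingHom.finitePresentation_respectsIso.2 _ N.topIso.symm.commRingCatIsoToRingEquiv h
  have hθ : θ = (t ≫ N.ι).appLE N ⊤ (fun z _ => (t z).2) := by
    refine Eq.trans ?_ (topIso_inv_appTop N t)
    show N.topIso.inv ≫ t.appLE ⊤ ⊤ le_top = _
    rw [show t.appTop = t.appLE ⊤ ⊤ le_top from t.app_eq_appLE]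
  have hφR : ∀ r : R, φ.appTop.hom (algebraMap R C r) = algebraMap M Γ(Q, ⊤) (algebraMap R M r) := by
    intro r
    have e : θ ≫ φ.appTop = v.appLE N (v ⁻¹ᵁ N) le_rfl ≫ π.appLE (v ⁻¹ᵁ N) ⊤ hπ := by
      rw [hθ, Scheme.Hom.appLE_comp_appLE, show φ.appTop = φ.appLE ⊤ ⊤ le_top from φ.app_eq_appLE,
        Scheme.Hom.appLE_comp_appLE]
      simp_rw [hφ]
      rfl
    exact congr($(e).hom r)
  obtain ⟨s, hs, hH⟩ := exists_hom_away p (Mp := Γ(Q, ⊤)) φ.appTop.hom hφR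
  let N' := X.basicOpen s
  have hxN' : x ∈ N' := by
    letI : Algebra R A := (X.presheaf.germ N x hxN).hom.toAlgebra
    haveI : IsLocalization.AtPrime A p := hN.isLocalization_stalk ⟨x, hxN⟩
    exact (X.mem_basicOpen s x hxN).2 (IsLocalization.map_units A (⟨s, hs⟩ : p.primeCompl))
  let O : P.Opens := v ⁻¹ᵁ N'
  have hOle : O ≤ v ⁻¹ᵁ N := v.preimage_mono (X.basicOpen_le s)
  letI : Algebra M Γ(P, O) := (P.presheaf.map (homOfLE hOle).op).hom.toAlgebra
  haveI : IsLocalization.Away (algebraMap R M s) Γ(P, O) := by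
    have hO : O = P.basicOpen (algebraMap R M s) := by
      show v ⁻¹ᵁ X.basicOpen s = _
      rw [Scheme.preimage_basicOpen]
      show P.basicOpen (v.app N s) = P.basicOpen ((v.appLE N (v ⁻¹ᵁ N) le_rfl).hom s)
      rw [← Scheme.Hom.app_eq_appLE]
    have key : ∀ (O' : P.Opens) (hO' : O' ≤ v ⁻¹ᵁ N), O' = P.basicOpen (algebraMap R M s) →
        @IsLocalization.Away M _ (algebraMap R M s) Γ(P, O') _ (P.presheaf.map (homOfLE hO').op).hom.toAlgebra := by
      rintro _ _ rfl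
      exact isLocalization_basicOpen_of_qcqs (v.isCompact_preimage hN.isCompact)
        (v.isQuasiSeparated_preimage hN.isQuasiSeparated) _
    exact key O hOle hO
  obtain ⟨ψ, hψR, hψ⟩ := hH Γ(P, O)
  let h : (O : Scheme.{u}) ⟶ T := (O : Scheme.{u}).toSpecΓ ≫
    Spec.map (CommRingCat.ofHom ψ ≫ O.topIso.inv) ≫ T.isoSpec.inv
  have hh : h.appTop = CommRingCat.ofHom ψ ≫ O.topIso.inv :=
    appTop_toSpecΓ_SpecMap_isoSpec (CommRingCat.ofHom ψ ≫ O.topIso.inv)
  refine ⟨N', hxN', X.basicOpen_le s, hN.basicOpen s, h, ?_, fun Z a b hab => ?_⟩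
  · have hmem : ∀ z : (O : Scheme.{u}), (O.ι ≫ v) z ∈ N := fun z => X.basicOpen_le s z.2
    let l : (O : Scheme.{u}) ⟶ (N : Scheme.{u}) := IsOpenImmersion.lift N.ι (O.ι ≫ v) (by
      rw [Scheme.Opens.range_ι]; rintro _ ⟨z, rfl⟩; exact hmem z)
    have hl : l ≫ N.ι = O.ι ≫ v := IsOpenImmersion.lift_fac _ _ _
    suffices e : h ≫ t = l by rw [← Category.assoc, e, hl]
    refine ext_of_isAffine ?_
    rw [Scheme.Hom.comp_appTop, hh]
    have e1 : N.topIso.inv ≫ t.appTop = θ := by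
      rw [show t.appTop = t.appLE ⊤ ⊤ le_top from t.app_eq_appLE]
    rw [← cancel_epi N.topIso.inv, ← Category.assoc, e1]
    have e2 : N.topIso.inv ≫ l.appTop = v.appLE N O hOle ≫ O.topIso.inv := by
      rw [topIso_inv_appTop]
      simp_rw [hl]
      have e3 : O.topIso.inv = O.ι.appLE O ⊤ (fun z _ => z.2) := by
        have := topIso_inv_appTop O (𝟙 _)
        simpa using this
      rw [e3, Scheme.Hom.appLE_comp_appLE]
    rw [e2, ← Scheme.Hom.appLE_map (f := v) (V := v ⁻¹ᵁ N) le_rfl (homOfLE hOle).op]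
    refine CommRingCat.hom_ext (RingHom.ext fun r => ?_)
    exact congrArg O.topIso.inv.hom (hψR r)
  · refine ext_of_isAffine ?_
    rw [Scheme.Hom.comp_appTop b h, Scheme.Hom.comp_appTop a φ, hh]
    refine CommRingCat.hom_ext ?_
    exact hψ Γ(Z, ⊤) (b.appTop.hom.comp O.topIso.inv.hom) a.appTop.hom (by
      have e1 : P.presheaf.map (homOfLE hOle).op ≫ O.topIso.inv ≫ b.appTop =
          π.appLE (v ⁻¹ᵁ N) ⊤ hπ ≫ a.appTop := by
        have l1 : P.presheaf.map (homOfLE hOle).op ≫ O.topIso.inv ≫ b.appTop =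
            (b ≫ O.ι).appLE (v ⁻¹ᵁ N) ⊤ (fun z _ => hOle (b z).2) := by
          rw [topIso_inv_appTop, Scheme.Hom.map_appLE]
        rw [l1, show a.appTop = a.appLE ⊤ ⊤ le_top from a.app_eq_appLE, Scheme.Hom.appLE_comp_appLE]
        exact appLE_eq_of_eq hab _ _ _ _
      exact congrArg CommRingCat.Hom.hom e1)

theorem fromSpecStalk_eq_self_iff {X : Scheme.{u}} (x : X) (z : Spec (X.presheaf.stalk x)) :
    X.fromSpecStalk x z = x ↔ z = IsLocalRing.closedPoint (X.presheaf.stalk x) := by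
  refine ⟨fun h => (X.fromSpecStalk x).isEmbedding.injective (h.trans Scheme.fromSpecStalk_closedPoint.symm),
    fun h => ?_⟩
  rw [h, Scheme.fromSpecStalk_closedPoint]

theorem mem_range_homOfLE {X : Scheme.{u}} {W W' : X.Opens} (hle : W ≤ W') (z : (W' : Scheme.{u})) :
    z ∈ (X.homOfLE hle).opensRange ↔ W'.ι z ∈ W := by
  constructor
  · rintro ⟨a, rfl⟩
    rw [← Scheme.Hom.comp_apply, Scheme.homOfLE_ι]
    exact a.2
  · intro h
    refine ⟨⟨W'.ι z, h⟩, W'.ι.isOpenEmbedding.injective ?_⟩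
    rw [← Scheme.Hom.comp_apply, Scheme.homOfLE_ι]
    rfl

/-- **Extension step**: a cover extends across a maximal point of the complement where it extends over
the local scheme. -/
theorem exists_extend_step' {X : Scheme.{u}} [IsLocallyNoetherian X] (W : X.Opens)
    (V : FEt.Cat (W : Scheme.{u})) (x : X) (hxW : x ∉ W) (hgen : ∀ z : X, z ⤳ x → z ≠ x → z ∈ W)
    (hext : ∀ k : (FEt.puncturedSpec (X.presheaf.stalk x) : Scheme.{u}) ⟶ (W : Scheme.{u}),
      k ≫ W.ι = (FEt.puncturedSpec (X.presheaf.stalk x)).ι ≫ X.fromSpecStalk x →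
      ∃ Y : FEt.Cat (Spec (X.presheaf.stalk x)),
        Nonempty ((FEt.restrict (FEt.puncturedSpec (X.presheaf.stalk x)).ι).obj Y ≅ (FEt.restrict k).obj V)) :
    ∃ (W' : X.Opens) (hle : W ≤ W'), x ∈ W' ∧
      ∃ V' : FEt.Cat (W' : Scheme.{u}), Nonempty ((FEt.restrict (X.homOfLE hle)).obj V' ≅ V) := by
  let U₀ := FEt.puncturedSpec (X.presheaf.stalk x)
  have hrange : ∀ z : Spec (X.presheaf.stalk x), X.fromSpecStalk x z ⤳ x := fun z =>
    (congrArg (X.fromSpecStalk x z ∈ ·) (Scheme.range_fromSpecStalk (X := X) (x := x))).mp ⟨z, rfl⟩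
  have hmemU : ∀ z : Spec (X.presheaf.stalk x), X.fromSpecStalk x z ∈ W ↔ z ∈ U₀ := fun z => by
    constructor
    · intro h hz
      exact hxW ((fromSpecStalk_eq_self_iff x z).2 hz ▸ h)
    · intro h
      exact hgen _ (hrange z) fun e => h ((fromSpecStalk_eq_self_iff x z).1 e)
  let k : (U₀ : Scheme.{u}) ⟶ (W : Scheme.{u}) :=
    IsOpenImmersion.lift W.ι (U₀.ι ≫ X.fromSpecStalk x) (by
      rw [Scheme.Opens.range_ι]
      rintro _ ⟨z, rfl⟩
      exact (hmemU (U₀.ι z)).2 z.2)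
  have hk : k ≫ W.ι = U₀.ι ≫ X.fromSpecStalk x := IsOpenImmersion.lift_fac _ _ _
  obtain ⟨Y, ⟨e⟩⟩ := hext k hk
  obtain ⟨N, hN, hxN, C, ρ, sqY⟩ := exists_cover_nhd x Y
  let qC : C.left ⟶ (N : Scheme.{u}) := C.hom
  haveI : IsFinite qC := C.prop.1
  haveI : Etale qC := C.prop.2
  haveI : IsAffine (N : Scheme.{u}) := hN
  haveI : IsAffine C.left := isAffine_of_isAffineHom qC
  haveI : IsLocallyNoetherian C.left := LocallyOfFiniteType.isLocallyNoetherian (qC ≫ N.ι)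
  haveI : IsNoetherian C.left := {}
  let g : V.left ⟶ (W : Scheme.{u}) := V.hom
  haveI : IsFinite g := V.prop.1
  haveI : Etale g := V.prop.2
  let v : V.left ⟶ X := g ≫ W.ι
  let Q := pullback v (X.fromSpecStalk x)
  have hQU : ∀ z : Q, pullback.snd v (X.fromSpecStalk x) z ∈ U₀ := fun z => by
    refine (hmemU _).1 ?_
    rw [← Scheme.Hom.comp_apply, ← pullback.condition]
    exact (g (pullback.fst v (X.fromSpecStalk x) z)).2
  let sU : Q ⟶ (U₀ : Scheme.{u}) := IsOpenImmersion.lift U₀.ι (pullback.snd v (X.fromSpecStalk x)) (by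
    rw [Scheme.Opens.range_ι]; rintro _ ⟨z, rfl⟩; exact hQU z)
  have hsU : sU ≫ U₀.ι = pullback.snd v (X.fromSpecStalk x) := IsOpenImmersion.lift_fac _ _ _
  have hcond : pullback.fst v (X.fromSpecStalk x) ≫ g = sU ≫ k := by
    rw [← cancel_mono W.ι, Category.assoc, Category.assoc, hk, reassoc_of% hsU]
    exact pullback.condition
  let μ : Q ⟶ pullback g k := pullback.lift (pullback.fst v (X.fromSpecStalk x)) sU hcond
  haveI : IsIso μ := by
    refine ⟨pullback.lift (pullback.fst g k) (pullback.snd g k ≫ U₀.ι) ?_, ?_, ?_⟩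
    · show pullback.fst g k ≫ g ≫ W.ι = _
      rw [← Category.assoc, pullback.condition, Category.assoc, hk, Category.assoc]
    · apply pullback.hom_ext
      · simp [μ]
      · simp [μ, hsU]
    · apply pullback.hom_ext
      · simp [μ]
      · rw [← cancel_mono U₀.ι]
        simp [μ, hsU]
  let eL : pullback g k ≅ pullback Y.hom U₀.ι := ((MorphismProperty.Over.forget FEt.prop ⊤ _ ⋙ Over.forget _).mapIso e.symm)
  have heL : eL.hom ≫ pullback.snd Y.hom U₀.ι = pullback.snd g k := Over.w e.inv.hom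
  let γ : Q ⟶ pullback Y.hom U₀.ι := μ ≫ eL.hom
  haveI : IsIso γ := inferInstance
  have hγ : γ ≫ pullback.snd Y.hom U₀.ι = sU := by
    simp only [γ, Category.assoc]
    rw [heL]
    exact pullback.lift_snd _ _ _
  let φQ : Q ⟶ C.left := γ ≫ pullback.fst Y.hom U₀.ι ≫ ρ
  have hφQ : φQ ≫ qC ≫ N.ι = pullback.fst v (X.fromSpecStalk x) ≫ v := by
    have h5 : γ ≫ pullback.fst Y.hom U₀.ι ≫ Y.hom = pullback.snd v (X.fromSpecStalk x) := by
      rw [pullback.condition, reassoc_of% hγ, hsU]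
    have h6 : φQ ≫ qC ≫ N.ι = (γ ≫ pullback.fst Y.hom U₀.ι ≫ Y.hom) ≫ X.fromSpecStalk x := by
      simp only [φQ, Category.assoc]
      rw [show ρ ≫ qC ≫ N.ι = Y.hom ≫ X.fromSpecStalk x from sqY.w]
    rw [h6, h5]
    exact pullback.condition.symm
  haveI : QuasiCompact v := inferInstance
  haveI : QuasiSeparated v := inferInstance
  obtain ⟨N', hxN', hN'N, hN', h, hh, hcompat⟩ := exists_hom_nhd v x hN hxN qC φQ hφQ
  -- the part of the target over `W`
  let D : C.left.Opens := (qC ≫ N.ι) ⁻¹ᵁ (N' ⊓ W)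
  let Z' : V.left.Opens := v ⁻¹ᵁ N'
  have hhD : ∀ z : (Z' : Scheme.{u}), h z ∈ D := fun z => by
    show (qC ≫ N.ι) (h z) ∈ N' ⊓ W
    rw [← Scheme.Hom.comp_apply, hh]
    exact ⟨z.2, (g (Z'.ι z)).2⟩
  let h' : (Z' : Scheme.{u}) ⟶ (D : Scheme.{u}) := IsOpenImmersion.lift D.ι h (by
    rw [Scheme.Opens.range_ι]; rintro _ ⟨z, rfl⟩; exact hhD z)
  have hh' : h' ≫ D.ι = h := IsOpenImmersion.lift_fac _ _ _
  let dX : (D : Scheme.{u}) ⟶ X := D.ι ≫ qC ≫ N.ι
  have hdX : h' ≫ dX = Z'.ι ≫ v := by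
    simp only [dX]
    rw [reassoc_of% hh', hh]
  haveI : Etale dX := inferInstance
  haveI : Etale h' := by
    haveI : Etale (h' ≫ dX) := by rw [hdX]; infer_instance
    exact Etale.of_comp h' dX
  haveI : IsFinite h' := by
    let M : (W : Scheme.{u}).Opens := W.ι ⁻¹ᵁ N'
    haveI : IsFinite (g ∣_ M) := IsZariskiLocalAtTarget.restrict ‹IsFinite g› M
    let dM : (D : Scheme.{u}) ⟶ (M : Scheme.{u}) := IsOpenImmersion.lift (M.ι ≫ W.ι) dX (by
      rintro _ ⟨z, rfl⟩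
      have hz : (qC ≫ N.ι) (D.ι z) ∈ N' ⊓ W := z.2
      exact ⟨⟨⟨_, hz.2⟩, hz.1⟩, rfl⟩)
    have hdM : dM ≫ M.ι ≫ W.ι = dX := IsOpenImmersion.lift_fac _ _ _
    haveI : IsSeparated (dM ≫ M.ι ≫ W.ι) := by rw [hdM]; infer_instance
    haveI : IsSeparated dM := IsSeparated.of_comp dM (M.ι ≫ W.ι)
    have hcomp : h' ≫ dM = g ∣_ M := by
      rw [← cancel_mono (M.ι ≫ W.ι), Category.assoc, hdM, hdX, morphismRestrict_ι_assoc]
      rfl
    haveI : IsFinite (h' ≫ dM) := by rw [hcomp]; infer_instance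
    exact IsFinite.of_comp h' dM
  -- above the generalisations of `x` the map is an isomorphism
  let rY : pullback Y.hom U₀.ι ⟶ (D : Scheme.{u}) := IsOpenImmersion.lift D.ι (pullback.fst Y.hom U₀.ι ≫ ρ) (by
    rw [Scheme.Opens.range_ι]
    rintro _ ⟨z, rfl⟩
    show (qC ≫ N.ι) ((pullback.fst Y.hom U₀.ι ≫ ρ) z) ∈ N' ⊓ W
    rw [← Scheme.Hom.comp_apply, Category.assoc, show ρ ≫ qC ≫ N.ι = Y.hom ≫ X.fromSpecStalk x from sqY.w,
      ← Category.assoc, pullback.condition, Category.assoc]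
    exact ⟨(hrange (U₀.ι (pullback.snd Y.hom U₀.ι z))).mem_open N'.2 hxN',
      (hmemU (U₀.ι (pullback.snd Y.hom U₀.ι z))).2 (pullback.snd Y.hom U₀.ι z).2⟩)
  have hrY : rY ≫ D.ι = pullback.fst Y.hom U₀.ι ≫ ρ := IsOpenImmersion.lift_fac _ _ _
  have sqR : IsPullback rY (pullback.fst Y.hom U₀.ι ≫ Y.hom) dX (X.fromSpecStalk x) := by
    refine IsPullback.paste_vert (IsOpenImmersion.isPullback rY (pullback.fst Y.hom U₀.ι) D.ι ρ hrY.symm ?_) sqY
    ext z
    rw [Scheme.Opens.opensRange_ι]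
    show ρ z ∈ D ↔ z ∈ Set.range (pullback.fst Y.hom U₀.ι)
    rw [IsOpenImmersion.range_pullbackFst, Scheme.Opens.opensRange_ι]
    show (qC ≫ N.ι) (ρ z) ∈ N' ⊓ W ↔ Y.hom z ∈ U₀
    rw [← Scheme.Hom.comp_apply, show ρ ≫ qC ≫ N.ι = Y.hom ≫ X.fromSpecStalk x from sqY.w]
    exact ⟨fun hz => (hmemU _).1 hz.2, fun hz => ⟨(hrange _).mem_open N'.2 hxN', (hmemU _).2 hz⟩⟩
  let uQ : Q ⟶ (Z' : Scheme.{u}) := IsOpenImmersion.lift Z'.ι (pullback.fst v (X.fromSpecStalk x)) (by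
    rw [Scheme.Opens.range_ι]
    rintro _ ⟨z, rfl⟩
    show v (pullback.fst v (X.fromSpecStalk x) z) ∈ N'
    rw [← Scheme.Hom.comp_apply, pullback.condition]
    exact (hrange (pullback.snd v (X.fromSpecStalk x) z)).mem_open N'.2 hxN')
  have huQ : uQ ≫ Z'.ι = pullback.fst v (X.fromSpecStalk x) := IsOpenImmersion.lift_fac _ _ _
  have hsq : uQ ≫ h' = γ ≫ rY := by
    rw [← cancel_mono D.ι, Category.assoc, Category.assoc, hh', hrY, hcompat (𝟙 Q) uQ (by rw [Category.id_comp, huQ])]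
    exact Category.id_comp _
  have hγs : γ ≫ pullback.fst Y.hom U₀.ι ≫ Y.hom = pullback.snd v (X.fromSpecStalk x) := by
    rw [pullback.condition, reassoc_of% hγ, hsU]
  have outer : IsPullback uQ (γ ≫ pullback.fst Y.hom U₀.ι ≫ Y.hom) (h' ≫ dX) (X.fromSpecStalk x) := by
    rw [hγs, hdX]
    have hlift : IsPullback uQ (𝟙 Q) Z'.ι (pullback.fst v (X.fromSpecStalk x)) :=
      IsOpenImmersion.isPullback_lift_id _ _ _
    simpa using hlift.paste_vert (IsPullback.of_hasPullback v (X.fromSpecStalk x))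
  have sqH : IsPullback uQ γ h' rY := IsPullback.of_bot outer hsq sqR
  have hgood : ∀ d : (D : Scheme.{u}), dX d ⤳ x → h'.finrank d = 1 := by
    intro d hd
    obtain ⟨z, hz⟩ : dX d ∈ Set.range (X.fromSpecStalk x) := by rw [Scheme.range_fromSpecStalk]; exact hd
    obtain ⟨w, hw, -⟩ := Scheme.Pullback.exists_preimage_pullback (f := dX) (g := X.fromSpecStalk x) d z hz.symm
    have hrw : rY (sqR.isoPullback.inv w) = d := by
      rw [← Scheme.Hom.comp_apply, sqR.isoPullback_inv_fst]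
      exact hw
    rw [← hrw, ← Scheme.Hom.finrank_of_isPullback uQ γ h' rY sqH]
    exact congrFun ((Scheme.Hom.isIso_iff_finrank_eq γ).1 inferInstance) _
  -- shrink the neighbourhood
  let bad : Set (D : Scheme.{u}) := {d | h'.finrank d ≠ 1}
  have hbad : IsClosed bad := ((Scheme.Hom.isLocallyConstant_finrank h').isClopen_fiber 1).isOpen.isClosed_compl
  haveI : QuasiCompact dX := inferInstance
  have hxI : x ∉ closure (dX '' bad) := fun hx => by
    obtain ⟨d, hd, hdx⟩ := GrothLib.GrpdQuot.exists_specializes_of_mem_closure dX bad hbad x hx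
    exact hd (hgood d hdx)
  let N'' : X.Opens := ⟨(N' : Set X) ∩ (closure (dX '' bad))ᶜ, N'.2.inter isClosed_closure.isOpen_compl⟩
  have hN''N' : N'' ≤ N' := fun z hz => hz.1
  let W' : X.Opens := W ⊔ N''
  -- the chart on the new open
  let B : FEt.Cat (N'' : Scheme.{u}) := (FEt.restrict (X.homOfLE (hN''N'.trans hN'N))).obj C
  let Z : V.left.Opens := v ⁻¹ᵁ N''
  let lN : (Z : Scheme.{u}) ⟶ (N'' : Scheme.{u}) := IsOpenImmersion.lift N''.ι (Z.ι ≫ v) (by
    rw [Scheme.Opens.range_ι]; rintro _ ⟨z, rfl⟩; exact z.2)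
  have hlN : lN ≫ N''.ι = Z.ι ≫ v := IsOpenImmersion.lift_fac _ _ _
  have hZZ' : Z ≤ Z' := v.preimage_mono hN''N'
  let pf := pullback.fst qC (X.homOfLE (hN''N'.trans hN'N))
  have hpfcond : pf ≫ qC ≫ N.ι = pullback.snd qC (X.homOfLE (hN''N'.trans hN'N)) ≫ N''.ι := by
    rw [← Category.assoc, pullback.condition, Category.assoc, Scheme.homOfLE_ι]
  let j₂ : (Z : Scheme.{u}) ⟶ B.left := pullback.lift (V.left.homOfLE hZZ' ≫ h) lN (by
    show (V.left.homOfLE hZZ' ≫ h) ≫ qC = lN ≫ _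
    rw [← cancel_mono N.ι, Category.assoc, Category.assoc, Category.assoc, hh, Scheme.homOfLE_ι, hlN,
      Scheme.homOfLE_ι_assoc])
  have hj₂ : j₂ ≫ pf = V.left.homOfLE hZZ' ≫ h := pullback.lift_fst _ _ _
  let D₂ : (D : Scheme.{u}).Opens := dX ⁻¹ᵁ N''
  haveI : IsIso (h' ∣_ D₂) := by
    rw [Scheme.Hom.isIso_iff_finrank_eq]
    funext d
    rw [Scheme.Hom.finrank_of_isPullback _ _ _ _ (isPullback_morphismRestrict h' D₂).flip]
    by_contra hd
    exact d.2.2 (subset_closure ⟨D₂.ι d, hd, rfl⟩)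
  have hZD₂ : ∀ z : (Z : Scheme.{u}), V.left.homOfLE hZZ' z ∈ h' ⁻¹ᵁ D₂ := fun z => by
    show dX (h' (V.left.homOfLE hZZ' z)) ∈ N''
    rw [← Scheme.Hom.comp_apply, hdX, ← Scheme.Hom.comp_apply, Scheme.homOfLE_ι_assoc]
    exact z.2
  let eZ : (Z : Scheme.{u}) ⟶ ((h' ⁻¹ᵁ D₂ : (Z' : Scheme.{u}).Opens) : Scheme.{u}) :=
    IsOpenImmersion.lift (h' ⁻¹ᵁ D₂).ι (V.left.homOfLE hZZ') (by
      rw [Scheme.Opens.range_ι]; rintro _ ⟨z, rfl⟩; exact hZD₂ z)
  haveI : IsOpenImmersion eZ := by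
    haveI : IsOpenImmersion (eZ ≫ (h' ⁻¹ᵁ D₂).ι) := by rw [IsOpenImmersion.lift_fac]; infer_instance
    exact IsOpenImmersion.of_comp eZ (h' ⁻¹ᵁ D₂).ι
  haveI : IsOpenImmersion j₂ := by
    haveI : IsOpenImmersion (j₂ ≫ pf) := by
      rw [hj₂, ← hh', show V.left.homOfLE hZZ' ≫ h' ≫ D.ι = eZ ≫ (h' ∣_ D₂) ≫ D₂.ι ≫ D.ι from by
        rw [← Category.assoc (h' ∣_ D₂), morphismRestrict_ι, Category.assoc, IsOpenImmersion.lift_fac_assoc]]
      infer_instance
    exact IsOpenImmersion.of_comp j₂ pf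
  have hz : Z.ι ≫ g ≫ X.homOfLE (le_sup_left : W ≤ W') = j₂ ≫ B.hom ≫ X.homOfLE (le_sup_right : N'' ≤ W') := by
    rw [← cancel_mono W'.ι]
    show (Z.ι ≫ g ≫ X.homOfLE _) ≫ W'.ι = (j₂ ≫ pullback.snd qC _ ≫ X.homOfLE _) ≫ W'.ι
    simp only [Category.assoc, Scheme.homOfLE_ι]
    show Z.ι ≫ v = j₂ ≫ pullback.snd qC _ ≫ N''.ι
    rw [← Category.assoc j₂, pullback.lift_snd, hlN]
  obtain ⟨V', hV'⟩ := exists_glue_two (X.homOfLE (le_sup_left : W ≤ W')) (X.homOfLE (le_sup_right : N'' ≤ W'))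
    (fun z => by
      rw [mem_range_homOfLE, mem_range_homOfLE]
      exact z.2) V B Z.ι j₂ hz
    (fun a => by
      rw [mem_range_homOfLE, Scheme.Opens.range_ι, ← Scheme.Hom.comp_apply, Category.assoc, Scheme.homOfLE_ι]
      rfl)
    (fun b => by
      rw [mem_range_homOfLE, ← Scheme.Hom.comp_apply, Category.assoc, Scheme.homOfLE_ι]
      constructor
      · intro hb
        have hb' : (B.hom ≫ N''.ι) b = (qC ≫ N.ι) (pf b) := by
          rw [← Scheme.Hom.comp_apply pf, hpfcond]; rfl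
        have hN''b : (qC ≫ N.ι) (pf b) ∈ N'' := hb' ▸ (B.hom b).2
        let d : (D : Scheme.{u}) := ⟨pf b, hN''N' hN''b, hb' ▸ hb⟩
        have hd2 : d ∈ D₂ := hN''b
        obtain ⟨z, hz'⟩ := (h' ∣_ D₂).surjective ⟨d, hd2⟩
        let z₀ : (Z' : Scheme.{u}) := (h' ⁻¹ᵁ D₂).ι z
        have hz₀ : h' z₀ = d := by
          rw [← Scheme.Hom.comp_apply, ← morphismRestrict_ι, Scheme.Hom.comp_apply, hz']
          rfl
        have hz₀Z : Z'.ι z₀ ∈ Z := by
          show v (Z'.ι z₀) ∈ N''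
          rw [← Scheme.Hom.comp_apply, ← hdX, Scheme.Hom.comp_apply, hz₀]
          exact hd2
        refine ⟨⟨_, hz₀Z⟩, pf.isOpenEmbedding.injective ?_⟩
        show (j₂ ≫ pf) _ = _
        rw [hj₂, Scheme.Hom.comp_apply]
        have hzz : V.left.homOfLE hZZ' ⟨_, hz₀Z⟩ = z₀ := Z'.ι.isOpenEmbedding.injective (by
          rw [← Scheme.Hom.comp_apply, Scheme.homOfLE_ι]; rfl)
        rw [hzz, ← hh', Scheme.Hom.comp_apply, hz₀]
        rfl
      · rintro ⟨a, rfl⟩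
        have e2 : j₂ ≫ B.hom ≫ N''.ι = Z.ι ≫ g ≫ W.ι := by
          show j₂ ≫ pullback.snd qC _ ≫ N''.ι = _
          rw [← Category.assoc, pullback.lift_snd, hlN]
        show (j₂ ≫ B.hom ≫ N''.ι) a ∈ W
        rw [e2]
        exact (g (Z.ι a)).2)
  exact ⟨W', le_sup_left, Opens.mem_sup.2 (Or.inr ⟨hxN', hxI⟩), V', hV'⟩

/-- **Extension step**: a cover extends across a maximal point of the complement where purity holds. -/
theorem exists_extend_step {X : Scheme.{u}} [IsNoetherian X] (W : X.Opens)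
    (V : FEt.Cat (W : Scheme.{u})) (x : X) (hxW : x ∉ W) (hgen : ∀ z : X, z ⤳ x → z ≠ x → z ∈ W)
    (hP : FEt.PurityHolds (X.presheaf.stalk x)) :
    ∃ (W' : X.Opens) (hle : W ≤ W'), x ∈ W' ∧
      ∃ V' : FEt.Cat (W' : Scheme.{u}), Nonempty ((FEt.restrict (X.homOfLE hle)).obj V' ≅ V) :=
  exists_extend_step' W V x hxW hgen fun k _ => hP.mem_essImage ((FEt.restrict k).obj V)

/-- **Purity on the complement gives essential surjectivity.** -/
theorem essSurj_of_purity {X : Scheme.{u}} [IsNoetherian X] (U : X.Opens)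
    (h : ∀ x : X, x ∉ U → FEt.PurityHolds (X.presheaf.stalk x)) : (FEt.restrict U.ι).EssSurj := by
  refine ⟨fun V => ?_⟩
  suffices key : ∀ (W : X.Opens) (hUW : U ≤ W) (V' : FEt.Cat (W : Scheme.{u})),
      Nonempty ((FEt.restrict (X.homOfLE hUW)).obj V' ≅ V) →
        ∃ Y : FEt.Cat X, Nonempty ((FEt.restrict U.ι).obj Y ≅ V) by
    refine key U le_rfl V ⟨?_⟩
    haveI : IsIso (pullback.fst V.hom (X.homOfLE (le_refl U))) := by
      rw [Scheme.homOfLE_rfl]; infer_instance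
    refine MorphismProperty.Over.isoMk (asIso (pullback.fst V.hom (X.homOfLE (le_refl U)))) ?_
    show pullback.fst V.hom (X.homOfLE (le_refl U)) ≫ V.hom = pullback.snd V.hom (X.homOfLE (le_refl U))
    rw [pullback.condition]
    exact (congrArg (pullback.snd V.hom (X.homOfLE (le_refl U)) ≫ ·) (Scheme.homOfLE_rfl X U)).trans (Category.comp_id _)
  intro W
  induction W using WellFoundedGT.induction with
  | ind W ih =>
    intro hUW V' hV'
    obtain ⟨i⟩ := hV'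
    by_cases hW : ∀ x : X, x ∈ W
    · obtain rfl : W = ⊤ := top_unique fun x _ => hW x
      refine ⟨(FEt.restrict (Scheme.topIso X).inv).obj V', ⟨?_⟩⟩
      refine ((MorphismProperty.Over.pullbackComp (P := FEt.prop) (Q := ⊤) U.ι (Scheme.topIso X).inv).app V').symm ≪≫
        ((MorphismProperty.Over.pullbackCongr (Q := ⊤) ?_).app V') ≪≫ i
      rw [← cancel_mono (⊤ : X.Opens).ι, Category.assoc, Scheme.homOfLE_ι]
      have : (Scheme.topIso X).inv ≫ (⊤ : X.Opens).ι = 𝟙 X := by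
        rw [← Scheme.topIso_hom, Iso.inv_hom_id]
      rw [this, Category.comp_id]
    · push Not at hW
      obtain ⟨x₀, hx₀⟩ := hW
      obtain ⟨x, hx, -, hmax⟩ := GrothLib.Depth.exists_maximal_generalization
        (C := ((W : Set X))ᶜ) W.2.isClosed_compl hx₀
      obtain ⟨W', hle, hxW', V'', ⟨i'⟩⟩ := exists_extend_step W V' x hx
        (fun z hz hne => by by_contra hzW; exact hne (hmax z hzW hz)) (h x fun hxU => hx (hUW hxU))
      refine ih W' (lt_of_le_of_ne hle fun e => hx (e ▸ hxW')) (hUW.trans hle) V'' ⟨?_⟩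
      exact ((MorphismProperty.Over.pullbackCongr (Q := ⊤) (X.homOfLE_homOfLE hUW hle).symm).app V'') ≪≫
        (MorphismProperty.Over.pullbackComp (P := FEt.prop) (Q := ⊤) (X.homOfLE hUW) (X.homOfLE hle)).app V'' ≪≫
        (FEt.restrict (X.homOfLE hUW)).mapIso i' ≪≫ i

end GrothLib.FEt21
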