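import Groth.Agent.Lib.EssEtLoc.NormalInter
import Mathlib.RingTheory.Flat.LocallyFree
import Mathlib.RingTheory.LocalProperties.FinitePresentation
import Mathlib.RingTheory.Etale.Basic
import Mathlib.RingTheory.Finiteness.ModuleFinitePresentation

/-!
# Finite unramified extensions of normal domains are étale
-/

set_option autoImplicit false
set_option linter.style.haveILetI false

universe u

namespace GrothLib.FEt21

/-- A finite flat module over a domain is finitely presented. -/
theorem finitePresentation_of_finite_flat_domain {R : Type u} [CommRing R] [IsDomain R] (M : Type u)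
    [AddCommGroup M] [Module R M] [Module.Finite R M] [Module.Flat R M] : Module.FinitePresentation R M := by
  classical
  have hconst : ∀ (p : Ideal R) [p.IsPrime],
      Module.rankAtStalk M ⟨p, ‹_›⟩ = Module.rankAtStalk M (⟨⊥, Ideal.isPrime_bot⟩ : PrimeSpectrum R) := by
    intro p _
    haveI : (⊥ : Ideal R).IsPrime := Ideal.isPrime_bot
    exact (Module.rankAtStalk_eq_of_le_of_finite_of_flat' M (bot_le : (⊥ : Ideal R) ≤ p)).symm
  choose a ha hfree using fun p : PrimeSpectrum R =>
    Module.Free.away_of_finite_of_flat_of_rankAtStalk_constant M p.asIdeal
      (fun m hm => (hconst m).trans (hconst p.asIdeal).symm)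
  have hs : Ideal.span (Set.range a) = ⊤ := by
    by_contra h
    obtain ⟨m, hm, hle⟩ := Ideal.exists_le_maximal _ h
    exact ha ⟨m, hm.isPrime⟩ (hle (Ideal.subset_span ⟨_, rfl⟩))
  refine Module.FinitePresentation.of_localizationSpan (Set.range a) hs ?_
  rintro ⟨_, p, rfl⟩
  show Module.FinitePresentation (Localization.Away (a p)) (LocalizedModule.Away (a p) M)
  haveI := hfree p
  haveI : Module.Finite (Localization.Away (a p)) (LocalizedModule.Away (a p) M) :=
    Module.Finite.of_isLocalizedModule (Submonoid.powers (a p)) (LocalizedModule.mkLinearMap (Submonoid.powers (a p)) M)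
  exact Module.finitePresentation_of_projective _ _

/-- A finite unramified algebra without torsion over a normal domain is étale. -/
theorem etale_of_unramified_of_normal {R S : Type u} [CommRing R] [IsDomain R] [IsIntegrallyClosed R]
    [CommRing S] [IsDomain S] [Algebra R S] [Module.Finite R S] [Algebra.FormallyUnramified R S]
    (hinj : Function.Injective (algebraMap R S)) : Algebra.Etale R S := by
  haveI : Module.Flat R S := by
    refine Module.flat_of_isLocalized_maximal S S (fun Q _ => Localization.AtPrime Q)
      (fun Q _ => Algebra.linearMap S _) fun Q _ => ?_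
    let p := Q.under R
    haveI : Q.LiesOver p := ⟨rfl⟩
    letI := Localization.AtPrime.algebraOfLiesOver p Q
    haveI : Algebra.FormallyUnramified S (Localization.AtPrime Q) :=
      Algebra.FormallyUnramified.of_isLocalization Q.primeCompl
    haveI : Algebra.FormallyUnramified R (Localization.AtPrime Q) := Algebra.FormallyUnramified.comp R S _
    haveI : Algebra.FormallyUnramified (Localization.AtPrime p) (Localization.AtPrime Q) :=
      Algebra.FormallyUnramified.of_restrictScalars R _ _
    haveI : Algebra.EssFiniteType S (Localization.AtPrime Q) := .of_isLocalization _ Q.primeCompl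
    haveI : Algebra.EssFiniteType R (Localization.AtPrime Q) := .comp _ S _
    haveI : Algebra.EssFiniteType (Localization.AtPrime p) (Localization.AtPrime Q) := .of_comp R _ _
    haveI : IsDomain (Localization.AtPrime p) := IsLocalization.isDomain_localization
      (Ideal.primeCompl_le_nonZeroDivisors p)
    haveI : IsIntegrallyClosed (Localization.AtPrime p) :=
      isIntegrallyClosed_of_isLocalization _ p.primeCompl (Ideal.primeCompl_le_nonZeroDivisors p)
    haveI : IsLocalHom (algebraMap (Localization.AtPrime p) (Localization.AtPrime Q)) :=
      Localization.isLocalHom_localRingHom _ _ _ (Q.over_def p)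
    have hloc : Function.Injective (algebraMap (Localization.AtPrime p) (Localization.AtPrime Q)) := by
      rw [injective_iff_map_eq_zero]
      intro x hx
      obtain ⟨a, s, rfl⟩ := IsLocalization.exists_mk'_eq p.primeCompl x
      have h1 : algebraMap (Localization.AtPrime p) (Localization.AtPrime Q)
          (algebraMap R (Localization.AtPrime p) a) = 0 := by
        rw [← IsLocalization.mk'_spec (Localization.AtPrime p) a s, map_mul, hx, zero_mul]
      rw [← IsScalarTower.algebraMap_apply, IsScalarTower.algebraMap_apply R S,
        (IsLocalization.injective (Localization.AtPrime Q) Q.primeCompl_le_nonZeroDivisors).eq_iff'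
          (map_zero _), map_eq_zero_iff _ hinj] at h1
      rw [h1, IsLocalization.mk'_zero]
    haveI := GrothLib.EssEtLoc.flat_of_unramified_of_normal hloc
    exact Module.Flat.trans R (Localization.AtPrime p) (Localization.AtPrime Q)
  haveI := finitePresentation_of_finite_flat_domain (R := R) S
  haveI : Algebra.FinitePresentation R S := Algebra.FinitePresentation.of_finitePresentation R S
  exact Algebra.Etale.of_formallyUnramified_of_flat

end GrothLib.FEt21
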