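import Groth.Agent.Lib.FEt21.Normal
import Groth.Agent.Lib.FEt21.Clopen
import Mathlib.AlgebraicGeometry.Morphisms.QuasiFinite
import Mathlib.AlgebraicGeometry.Morphisms.Preimmersion
import Mathlib.AlgebraicGeometry.Properties

/-!
# Components of covers of normal integral schemes
-/

set_option autoImplicit false
set_option backward.isDefEq.respectTransparency false

universe u

open CategoryTheory CategoryTheory.Limits AlgebraicGeometry

namespace GrothLib.FEt21

theorem finite_components {T S : Scheme.{u}} (g : T ⟶ S) [Flat g] [IsFinite g] [IrreducibleSpace S] :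
    (irreducibleComponents T).Finite := by
  let η : S := genericPoint S
  refine Set.Finite.subset ((g.finite_preimage_singleton η).image fun t => closure {t}) ?_
  intro C hC
  obtain ⟨t, ht⟩ := QuasiSober.sober hC.1 (isClosed_of_mem_irreducibleComponents C hC)
  refine ⟨t, ?_, ht⟩
  obtain ⟨t', ht', htη⟩ := Flat.generalizingMap g (genericPoint_specializes (g t) : η ⤳ g t)
  have hsub : closure {t} ⊆ closure {t'} := specializes_iff_closure_subset.1 ht'
  have hC' : C ⊆ closure {t'} := ht.symm.subset.trans hsub
  have heq : closure {t} = closure {t'} := Set.Subset.antisymm hsub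
    ((hC.2 isIrreducible_singleton.closure hC').trans ht.symm.subset)
  have : t = t' := ((isGenericPoint_closure (x := t)).eq (show IsGenericPoint t' (closure {t}) from heq.symm))
  rw [Set.mem_preimage, Set.mem_singleton_iff, this]
  exact htη

theorem generic_map_eq {T S : Scheme.{u}} (g : T ⟶ S) [Flat g] [IrreducibleSpace S] {C : Set T}
    (hC : C ∈ irreducibleComponents T) {t : T} (ht : IsGenericPoint t C) : g t = genericPoint S := by
  obtain ⟨t', ht', htη⟩ := Flat.generalizingMap g (genericPoint_specializes (g t) : genericPoint S ⤳ g t)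
  have hsub : closure {t} ⊆ closure {t'} := specializes_iff_closure_subset.1 ht'
  have heq : closure {t} = closure {t'} := Set.Subset.antisymm hsub
    ((hC.2 isIrreducible_singleton.closure (ht.symm.subset.trans hsub)).trans ht.symm.subset)
  have : t = t' := ((isGenericPoint_closure (x := t)).eq (show IsGenericPoint t' (closure {t}) from heq.symm))
  rw [this, htη]

/-- With domains as local rings, irreducible components through a point coincide. -/
theorem components_eq_of_mem {T : Scheme.{u}} (h : ∀ z : T, IsDomain (T.presheaf.stalk z))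
    {C₁ C₂ : Set T} (h₁ : C₁ ∈ irreducibleComponents T) (h₂ : C₂ ∈ irreducibleComponents T) {z : T}
    (hz₁ : z ∈ C₁) (hz₂ : z ∈ C₂) : C₁ = C₂ := by
  have := h z
  let a := genericPoint (Spec (T.presheaf.stalk z))
  have key : ∀ {C : Set T}, C ∈ irreducibleComponents T → z ∈ C →
      C = closure {T.fromSpecStalk z a} := by
    intro C hC hzC
    obtain ⟨t, ht⟩ := QuasiSober.sober hC.1 (isClosed_of_mem_irreducibleComponents C hC)
    obtain ⟨b, hb⟩ : t ∈ Set.range (T.fromSpecStalk z) := by
      rw [Scheme.range_fromSpecStalk]; exact ht.specializes hzC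
    have h1 : T.fromSpecStalk z a ⤳ t := hb ▸ (genericPoint_specializes b).map (T.fromSpecStalk z).continuous
    have hsub : C ⊆ closure {T.fromSpecStalk z a} := ht.symm.subset.trans (specializes_iff_closure_subset.1 h1)
    exact Set.Subset.antisymm hsub (hC.2 isIrreducible_singleton.closure hsub)
  rw [key h₁ hz₁, key h₂ hz₂]

theorem isClopen_component {T : Scheme.{u}} (hdom : ∀ z : T, IsDomain (T.presheaf.stalk z))
    (hfin : (irreducibleComponents T).Finite) {C : Set T} (hC : C ∈ irreducibleComponents T) :
    IsClopen C := by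
  refine ⟨isClosed_of_mem_irreducibleComponents C hC, ?_⟩
  rw [← isClosed_compl_iff]
  have : Cᶜ = ⋃ C' ∈ irreducibleComponents T \ {C}, C' := by
    ext z
    simp only [Set.mem_iUnion, Set.mem_sdiff, Set.mem_singleton_iff, exists_prop, Set.mem_compl_iff]
    refine ⟨fun hz => ⟨irreducibleComponent z, ⟨irreducibleComponent_mem_irreducibleComponents z,
      fun h => hz (h ▸ mem_irreducibleComponent)⟩, mem_irreducibleComponent⟩, ?_⟩
    rintro ⟨C', ⟨hC', hne⟩, hz'⟩ hz
    exact hne (components_eq_of_mem hdom hC' hC hz' hz)
  rw [this]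
  exact (hfin.sdiff).isClosed_biUnion fun C' hC' =>
    isClosed_of_mem_irreducibleComponents C' hC'.1

variable {X Y : Scheme.{u}} (f : X ⟶ Y)

/-- Over a normal integral scheme, clopens of a cover are seen on any subspace containing the generic
point. -/
theorem clopenSurj_of_generic [IsIntegral Y] (hY : Pi1.IsNormalScheme Y) [IsPreimmersion f]
    (hη : genericPoint Y ∈ Set.range f) (A : FEt.Cat Y) : ClopenSurj f A := by
  intro C hC
  haveI : IsFinite A.hom := A.prop.1
  haveI : Etale A.hom := A.prop.2
  haveI : IsIntegral ((Functor.fromPUnit Y).obj A.right) := ‹IsIntegral Y›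
  have hfin := finite_components A.hom
  have hdom : ∀ z : A.left, IsDomain (A.left.presheaf.stalk z) := fun z =>
    (isNormalScheme_of_etale hY A.hom z).1
  haveI : IsPreimmersion (pullback.fst A.hom f) := MorphismProperty.pullback_fst _ _ inferInstance
  let ρ := pullback.fst A.hom f
  let S := {T : Set A.left | T ∈ irreducibleComponents A.left ∧ ∃ q ∈ C, IsGenericPoint (ρ q) T}
  refine ⟨⋃ T ∈ S, T, Set.Finite.isClopen_biUnion (hfin.subset fun _ h => h.1)
    fun T hT => isClopen_component hdom hfin hT.1, ?_⟩
  ext p
  let T := irreducibleComponent (ρ p)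
  have hT : T ∈ irreducibleComponents A.left := irreducibleComponent_mem_irreducibleComponents _
  obtain ⟨t, ht⟩ := QuasiSober.sober hT.1 (isClosed_of_mem_irreducibleComponents T hT)
  obtain ⟨x, hx⟩ := hη
  obtain ⟨q, hq, -⟩ := Scheme.Pullback.exists_preimage_pullback (f := A.hom) (g := f) t x
    ((generic_map_eq A.hom hT ht).trans hx.symm)
  have hqp : q ⤳ p := by
    rw [← ρ.isEmbedding.specializes_iff]
    change (pullback.fst A.hom f) q ⤳ _
    rw [hq]
    exact ht.specializes mem_irreducibleComponent
  have hiff : q ∈ C ↔ p ∈ C := ⟨fun h => hC.1.stableUnderSpecialization hqp h,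
    fun h => hC.2.stableUnderGeneralization hqp h⟩
  simp only [Set.mem_preimage, Set.mem_iUnion, exists_prop]
  constructor
  · rintro ⟨T', ⟨hT', q', hq'C, hq'T⟩, hpT'⟩
    obtain rfl : T' = T := components_eq_of_mem hdom hT' hT hpT' mem_irreducibleComponent
    have heq : ρ q' = ρ q := (hq'T.eq ht).trans hq.symm
    exact hiff.1 (ρ.isEmbedding.injective heq ▸ hq'C)
  · intro hp
    exact ⟨T, ⟨hT, q, hiff.2 hp, by rw [show ρ q = t from hq]; exact ht⟩, mem_irreducibleComponent⟩

end GrothLib.FEt21
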