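import Groth.Agent.Lib.FEt21.Clopen
import Groth.Agent.Lib.EtaleThick26.Glue
import Mathlib.AlgebraicGeometry.ZariskisMainTheorem

/-!
# Finite étale covers of thickenings
-/

set_option autoImplicit false
set_option backward.isDefEq.respectTransparency false

universe u

open CategoryTheory CategoryTheory.Limits AlgebraicGeometry

namespace GrothLib.FEt21

variable {X X' Y Y' : Scheme.{u}} (t : X ⟶ X') [IsClosedImmersion t] [Surjective t]
  (q : Y ⟶ X) (q' : Y' ⟶ X') (j : Y ⟶ Y')

theorem isSeparated_of_thickening [IsClosedImmersion j] [Surjective j] [IsSeparated q]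
    (h : q ≫ t = j ≫ q') : IsSeparated q' := by
  let μ : pullback q q ⟶ pullback q' q' :=
    pullback.mapDesc q q t ≫ pullback.map (q ≫ t) (q ≫ t) q' q' j j (𝟙 _)
      ((Category.comp_id _).trans h) ((Category.comp_id _).trans h)
  have : IsClosedImmersion (pullback.map (q ≫ t) (q ≫ t) q' q' j j (𝟙 _)
      ((Category.comp_id _).trans h) ((Category.comp_id _).trans h)) :=
    MorphismProperty.pullbackMap (P := @IsClosedImmersion) ‹_› ‹_› h h
  have : IsClosedImmersion μ := inferInstanceAs (IsClosedImmersion (_ ≫ _))
  have hd : pullback.diagonal q ≫ μ = j ≫ pullback.diagonal q' := by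
    apply pullback.hom_ext <;> simp [μ]
  have hr : IsClosed (Set.range (pullback.diagonal q')) := by
    have e : Set.range (pullback.diagonal q') = Set.range (pullback.diagonal q ≫ μ) := by
      rw [hd]
      ext z
      constructor
      · rintro ⟨y, rfl⟩
        obtain ⟨x, rfl⟩ := j.surjective y
        exact ⟨x, rfl⟩
      · rintro ⟨x, rfl⟩
        exact ⟨j x, rfl⟩
    rw [e]
    exact (pullback.diagonal q ≫ μ).isClosedEmbedding.isClosed_range
  exact ⟨IsClosedImmersion.of_isPreimmersion _ hr⟩

theorem isFinite_of_thickening [Etale q'] [IsFinite q] (hsq : IsPullback j q q' t) : IsFinite q' := by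
  haveI : IsClosedImmersion j := MorphismProperty.of_isPullback hsq.flip ‹IsClosedImmersion t›
  haveI : Surjective j := MorphismProperty.of_isPullback hsq.flip ‹Surjective t›
  haveI := isSeparated_of_thickening t q q' j hsq.w.symm
  haveI : IsFinite (j ≫ q') := by rw [hsq.w]; infer_instance
  haveI : UniversallyClosed q' := .of_comp_surjective j q'
  haveI : IsProper q' := {}
  haveI : LocallyQuasiFinite q' := locallyQuasiFinite_iff_finite_preimage_singleton.2 fun x => by
    refine Set.Finite.subset (((j ≫ q').finite_preimage_singleton x).image j) fun y hy => ?_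
    obtain ⟨z, rfl⟩ := j.surjective y
    exact ⟨z, hy, rfl⟩
  exact IsFinite.of_isProper_of_locallyQuasiFinite q'

theorem essSurj_of_thickening : (FEt.restrict t).EssSurj := by
  refine ⟨fun V => ?_⟩
  obtain ⟨Y', q', j, hq', hsq⟩ := GrothLib.EtaleThick.exists_lift (t := t) (q := V.hom)
  haveI := isFinite_of_thickening t V.hom q' j hsq
  refine ⟨MorphismProperty.Over.mk ⊤ q' (prop_of q'), ⟨MorphismProperty.Over.isoMk hsq.isoPullback.symm ?_⟩⟩
  exact hsq.isoPullback_inv_snd

theorem isEquivalence_of_thickening : (FEt.restrict t).IsEquivalence := by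
  haveI := (fullyFaithful_of_clopen t (fun A => clopenInj_of_surjective t A)
    (fun A => clopenSurj_of_universallyInjective t A))
  obtain ⟨_, _⟩ := this
  haveI := essSurj_of_thickening t
  exact {}

end GrothLib.FEt21
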