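import Groth.Agent.Lib.HomScheme.Rep
import Groth.Agent.Lib.FEt21.Thick
import Groth.Agent.Lib.FEt21.NormalComp
import Groth.Agent.Lib.FormalLift.Basic
import Groth.Agent.Lib.EtBasicB.OverField
import Mathlib.AlgebraicGeometry.ValuativeCriterion
import Mathlib.RingTheory.Etale.Basic
import Mathlib.RingTheory.Valuation.ValuationRing
import Mathlib.Algebra.GCDMonoid.IntegrallyClosed
import Mathlib.RingTheory.Bezout

/-!
# The scheme of morphisms between two finite étale covers is finite étale
-/

set_option autoImplicit false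
set_option backward.isDefEq.respectTransparency false

universe u

open CategoryTheory CategoryTheory.Limits AlgebraicGeometry MonoidalCategory CartesianMonoidalCategory

namespace GrothLib.FEt21

theorem etale_of_formallyEtaleHom {M X : Scheme.{u}} (f : M ⟶ X) [LocallyOfFinitePresentation f]
    (h : MoreMor.IsFormallyEtaleHom f) : Etale f := by
  refine HasRingHomProperty.iff_appLE.mpr fun U V e => ?_
  have hsq := IsAffineOpen.SpecMap_appLE_fromSpec f U.2 V.2 e
  let φ := f.appLE U.1 V.1 e
  let j := V.2.fromSpec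
  let k := U.2.fromSpec
  have hE : MoreMor.IsFormallyEtaleHom (Spec.map φ) := by
    intro A _ I hI a b w
    haveI := GrothLib.FormalLift.surjective_specMap_quotient hI
    obtain ⟨l, ⟨hl, hlf⟩, hu⟩ := h A I hI (a ≫ j) (b ≫ k) (by
      rw [reassoc_of% w, Category.assoc, hsq])
    have hr : Set.range l ⊆ Set.range j :=
      GrothLib.FormalLift.range_subset_of_surjective _ hl (by
        rintro _ ⟨x, rfl⟩; exact ⟨a x, rfl⟩)
    refine ⟨IsOpenImmersion.lift j l hr, ⟨?_, ?_⟩, fun n hn => ?_⟩
    · rw [← cancel_mono j, Category.assoc, IsOpenImmersion.lift_fac, hl]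
    · rw [← cancel_mono k, Category.assoc, hsq, IsOpenImmersion.lift_fac_assoc, hlf]
    · rw [← cancel_mono j, IsOpenImmersion.lift_fac]
      refine hu _ ⟨?_, ?_⟩
      · rw [← Category.assoc, hn.1]
      · rw [Category.assoc, ← hsq, ← Category.assoc, hn.2]
  have hfp : φ.hom.FinitePresentation :=
    HasRingHomProperty.appLE @LocallyOfFinitePresentation f inferInstance U V e
  algebraize [φ.hom]
  haveI : Algebra.FormallyEtale Γ(X, U.1) Γ(M, V.1) := by
    rw [Algebra.FormallyEtale.iff_comp_bijective]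
    intro C _ _ I hI
    refine ⟨fun p p' hpp => ?_, fun g => ?_⟩
    · obtain ⟨l, -, hu⟩ := hE C I hI (Spec.map (CommRingCat.ofHom ((Ideal.Quotient.mk I).comp p.toRingHom)))
        (Spec.map (CommRingCat.ofHom (algebraMap Γ(X, U.1) C))) (by
          rw [← Spec.map_comp, ← Spec.map_comp]; congr 1; ext r
          exact congrArg (Ideal.Quotient.mk I) (p.commutes r).symm)
      have key : ∀ q : Γ(M, V.1) →ₐ[Γ(X, U.1)] C,
          (Ideal.Quotient.mk I).comp q.toRingHom = (Ideal.Quotient.mk I).comp p.toRingHom →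
          Spec.map (CommRingCat.ofHom q.toRingHom) = l := fun q hq => hu _ ⟨by
            rw [← Spec.map_comp, ← CommRingCat.ofHom_comp, hq], by
            rw [← Spec.map_comp]; congr 1; ext r; exact q.commutes r⟩
      have := (key p rfl).trans (key p' (RingHom.ext fun x => (congr($hpp x)).symm)).symm
      exact AlgHom.ext fun x => congr($(Spec.map_injective this) x)
    · obtain ⟨l, ⟨hl, hlf⟩, -⟩ := hE C I hI (Spec.map (CommRingCat.ofHom g.toRingHom))
        (Spec.map (CommRingCat.ofHom (algebraMap Γ(X, U.1) C))) (by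
          rw [← Spec.map_comp, ← Spec.map_comp]; congr 1; ext r; exact (g.commutes r).symm)
      obtain ⟨ψ, rfl⟩ := Spec.map_surjective l
      rw [← Spec.map_comp] at hl hlf
      exact ⟨⟨ψ.hom, fun r => congr($(Spec.map_injective hlf) r)⟩,
        AlgHom.ext fun x => congr($(Spec.map_injective hl) x)⟩
  haveI : Algebra.FinitePresentation Γ(X, U.1) Γ(M, V.1) := hfp
  exact RingHom.etale_algebraMap.mpr ⟨inferInstance, inferInstance⟩

variable {X : Scheme.{u}} (U V : FEt.Cat X)

/-- Morphisms of the two covers over `g : T ⟶ X`. -/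
abbrev HomsOver {T : Scheme.{u}} (g : T ⟶ X) : Type u :=
  {ψ : pullback U.hom g ⟶ V.left // ψ ≫ V.hom = pullback.fst U.hom g ≫ U.hom}

/-- Restriction of morphisms along `t`. -/
noncomputable def resHoms {T T' : Scheme.{u}} (b : T' ⟶ X) (t : T ⟶ T') (ψ : HomsOver U V b) :
    HomsOver U V (t ≫ b) :=
  ⟨pullback.map U.hom (t ≫ b) U.hom b (𝟙 _) t (𝟙 _) (by simp) (by simp) ≫ ψ.1, by
    rw [Category.assoc, ψ.2, ← Category.assoc, pullback.lift_fst, Category.comp_id]⟩

/-- If restriction along `t` is fully faithful, morphisms over `T'` and over `T` agree. -/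
theorem resHoms_bijective {T T' : Scheme.{u}} (b : T' ⟶ X) (t : T ⟶ T')
    (h : (FEt.restrict t).Full ∧ (FEt.restrict t).Faithful) :
    Function.Bijective (resHoms U V b t) := by
  obtain ⟨_, _⟩ := h
  let U' := (FEt.restrict b).obj U
  let V' := (FEt.restrict b).obj V
  let mk : HomsOver U V b → (U' ⟶ V') := fun ψ => MorphismProperty.Over.homMk
    (pullback.lift ψ.1 (pullback.snd U.hom b) (ψ.2.trans pullback.condition)) (pullback.lift_snd _ _ _)
  have hmk : ∀ ψ, (mk ψ).left ≫ pullback.fst V.hom b = ψ.1 := fun ψ => pullback.lift_fst _ _ _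
  let e : pullback (pullback.snd U.hom b) t ≅ pullback U.hom (t ≫ b) := pullbackLeftPullbackSndIso _ _ _
  have he : e.hom ≫ pullback.map U.hom (t ≫ b) U.hom b (𝟙 _) t (𝟙 _) (by simp) (by simp) =
      pullback.fst (pullback.snd U.hom b) t := by
    apply pullback.hom_ext
    · simp [e]
    · simp [e, pullback.condition]
  have hmap : ∀ β : U' ⟶ V', ((FEt.restrict t).map β).left ≫ pullback.fst V'.hom t =
      pullback.fst U'.hom t ≫ β.left := fun β => pullback.lift_fst _ _ _
  refine ⟨fun ψ ψ' hψ => ?_, fun χ => ?_⟩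
  · have h1 : mk ψ = mk ψ' := by
      apply (FEt.restrict t).map_injective
      apply MorphismProperty.Over.Hom.ext
      apply pullback.hom_ext
      · rw [hmap, hmap]
        apply pullback.hom_ext
        · rw [Category.assoc, Category.assoc]
          erw [hmk, hmk]
          have := congrArg (fun φ : HomsOver U V (t ≫ b) => e.hom ≫ φ.1) hψ
          simp only [resHoms] at this
          rwa [← Category.assoc, ← Category.assoc, he] at this
        · rw [Category.assoc, Category.assoc]
          exact congrArg (pullback.fst U'.hom t ≫ ·) ((pullback.lift_snd _ _ _).trans (pullback.lift_snd _ _ _).symm)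
      · exact (pullback.lift_snd _ _ _).trans (pullback.lift_snd _ _ _).symm
    exact Subtype.ext ((hmk ψ).symm.trans ((congrArg (fun φ : U' ⟶ V' => φ.left ≫ pullback.fst V.hom b) h1).trans (hmk ψ')))
  · let α : (FEt.restrict t).obj U' ⟶ (FEt.restrict t).obj V' := MorphismProperty.Over.homMk
      (pullback.lift (pullback.lift (e.hom ≫ χ.1) (pullback.snd _ t ≫ t) (by
          rw [Category.assoc, χ.2, pullback.condition, Category.assoc,
            pullbackLeftPullbackSndIso_hom_snd_assoc]
          rfl))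
        (pullback.snd _ t) (pullback.lift_snd _ _ _)) (pullback.lift_snd _ _ _)
    let β := (FEt.restrict t).preimage α
    refine ⟨⟨β.left ≫ pullback.fst V.hom b, ?_⟩, Subtype.ext ?_⟩
    · rw [Category.assoc, pullback.condition, ← Category.assoc]
      erw [MorphismProperty.Over.w β]
      exact pullback.condition.symm
    · show pullback.map _ _ _ _ _ _ _ _ _ ≫ β.left ≫ pullback.fst V.hom b = χ.1
      rw [← cancel_epi e.hom, ← Category.assoc, he, ← Category.assoc]
      erw [← hmap β]
      rw [(FEt.restrict t).map_preimage α]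
      erw [pullback.lift_fst, pullback.lift_fst]

/-- Over a normal integral base, restriction to a subspace containing the generic point is fully
faithful. -/
theorem fullyFaithful_of_generic {S T : Scheme.{u}} (j : T ⟶ S) [IsIntegral S]
    (hS : Pi1.IsNormalScheme S) [IsPreimmersion j] (hη : genericPoint S ∈ Set.range j) :
    (FEt.restrict j).Full ∧ (FEt.restrict j).Faithful := by
  refine fullyFaithful_of_clopen j (fun A D hD he => ?_) fun A => clopenSurj_of_generic j hS hη A
  by_contra hne
  obtain ⟨d, hd⟩ := Set.nonempty_iff_ne_empty.mpr hne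
  haveI : Etale A.hom := A.prop.2
  haveI : IsIntegral ((Functor.fromPUnit S).obj A.right) := ‹IsIntegral S›
  haveI : IrreducibleSpace ↥((Functor.fromPUnit S).obj A.right) := inferInstance
  obtain ⟨d', hd', hd'η⟩ := Flat.generalizingMap A.hom (genericPoint_specializes (A.hom d))
  obtain ⟨x, hx⟩ := hη
  obtain ⟨q, hq, -⟩ := Scheme.Pullback.exists_preimage_pullback (f := A.hom) (g := j) d' x
    (hd'η.trans hx.symm)
  exact Set.eq_empty_iff_forall_notMem.1 he q
    (show pullback.fst A.hom j q ∈ D from hq.symm ▸ hD.2.stableUnderGeneralization hd' hd)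

/-- The scheme of morphisms between finite étale covers is a finite étale cover. -/
theorem exists_homCover : ∃ W : FEt.Cat X, ∀ (T : Scheme.{u}) (g : T ⟶ X),
    Nonempty ({s : T ⟶ W.left // s ≫ W.hom = g} ≃ HomsOver U V g) := by
  let XU : Over X := Over.mk U.hom
  let XV : Over X := Over.mk V.hom
  haveI : IsFinite XU.hom := U.prop.1
  haveI : Etale XU.hom := U.prop.2
  haveI : IsFinite XV.hom := V.prop.1
  haveI : Etale XV.hom := V.prop.2
  obtain ⟨M, ev, hev, _, -, hfp⟩ := GrothLib.HomScheme.exists_hom XU XV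
  haveI : LocallyOfFinitePresentation M.hom := hfp inferInstance
  let Φ : ∀ {T : Scheme.{u}} (g : T ⟶ X), {s : T ⟶ M.left // s ≫ M.hom = g} → HomsOver U V g :=
    fun {T} g s =>
    ⟨((XU ◁ (Over.homMk s.1 s.2 : Over.mk g ⟶ M)) ≫ ev).left,
      Over.w ((XU ◁ (Over.homMk s.1 s.2 : Over.mk g ⟶ M)) ≫ ev)⟩
  have hΦ : ∀ {T : Scheme.{u}} (g : T ⟶ X), Function.Bijective (Φ g) := by
    intro T g
    refine ⟨fun s s' h => ?_, fun ψ => ?_⟩
    · obtain ⟨v, -, hu⟩ := hev (Over.mk g) ((XU ◁ (Over.homMk s.1 s.2 : Over.mk g ⟶ M)) ≫ ev)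
      have h1 := hu (Over.homMk s.1 s.2) rfl
      have h2 := hu (Over.homMk s'.1 s'.2) (Over.OverMorphism.ext (congrArg Subtype.val h).symm)
      exact Subtype.ext (congrArg CommaMorphism.left (h1.trans h2.symm))
    · obtain ⟨v, hv, -⟩ := hev (Over.mk g) (Over.homMk ψ.1 ψ.2)
      exact ⟨⟨v.left, Over.w v⟩, Subtype.ext (congrArg CommaMorphism.left hv)⟩
  have hnat : ∀ {T T' : Scheme.{u}} (b : T' ⟶ X) (t : T ⟶ T') (l : {s : T' ⟶ M.left // s ≫ M.hom = b}),
      Φ (t ≫ b) ⟨t ≫ l.1, by rw [Category.assoc, l.2]⟩ = resHoms U V b t (Φ b l) := by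
    intro T T' b t l
    apply Subtype.ext
    show ((XU ◁ _) ≫ ev).left = _ ≫ ((XU ◁ _) ≫ ev).left
    refine Eq.trans ?_ (Category.assoc _ _ _)
    refine congrArg (· ≫ ev.left) ?_
    apply pullback.hom_ext
    · simp [Over.whiskerLeft_left, pullback.map]
      exact (pullback.lift_fst _ _ _).symm
    · simp [Over.whiskerLeft_left, pullback.map]
      exact ((pullback.lift_snd_assoc _ _ _ _).trans (Category.assoc _ _ _)).symm
  have hlift : ∀ {T T' : Scheme.{u}} (b : T' ⟶ X) (t : T ⟶ T'),
      ((FEt.restrict t).Full ∧ (FEt.restrict t).Faithful) →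
      ∀ (a : T ⟶ M.left), t ≫ b = a ≫ M.hom → ∃! l : T' ⟶ M.left, t ≫ l = a ∧ l ≫ M.hom = b := by
    intro T T' b t ht a w
    obtain ⟨ψ, hψ⟩ := (resHoms_bijective U V b t ht).2 (Φ (t ≫ b) ⟨a, w.symm⟩)
    obtain ⟨l, rfl⟩ := (hΦ b).2 ψ
    refine ⟨l.1, ⟨?_, l.2⟩, fun n ⟨hn, hnb⟩ => ?_⟩
    · exact congrArg Subtype.val ((hΦ (t ≫ b)).1 ((hnat b t l).trans hψ))
    · refine congrArg Subtype.val ((hΦ b).1 (a₁ := ⟨n, hnb⟩) ((resHoms_bijective U V b t ht).1 ?_))
      rw [← hnat, hψ]
      exact congrArg (Φ (t ≫ b)) (Subtype.ext hn)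
  haveI : Etale M.hom := etale_of_formallyEtaleHom M.hom fun A _ I hI a b w => by
    haveI := GrothLib.FormalLift.surjective_specMap_quotient hI
    haveI : IsClosedImmersion (Spec.map (CommRingCat.ofHom (Ideal.Quotient.mk I))) :=
      IsClosedImmersion.spec_of_surjective _ Ideal.Quotient.mk_surjective
    haveI := isEquivalence_of_thickening (Spec.map (CommRingCat.ofHom (Ideal.Quotient.mk I)))
    exact hlift b _ ⟨inferInstance, inferInstance⟩ a w
  haveI : UniversallyClosed M.hom := UniversallyClosed.of_valuativeCriterion M.hom fun S => by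
    let j := Spec.map (CommRingCat.ofHom (algebraMap S.R S.K))
    haveI : IsPreimmersion j := IsPreimmersion.of_isLocalization (nonZeroDivisors S.R)
    haveI : IsDomain (CommRingCat.of S.R) := inferInstanceAs (IsDomain S.R)
    have hS : Pi1.IsNormalScheme (Spec (CommRingCat.of S.R)) := fun x => by
      refine ⟨inferInstance, ?_⟩
      letI : Algebra S.R ((Spec (CommRingCat.of S.R)).presheaf.stalk x) :=
        (StructureSheaf.toStalk (CommRingCat.of S.R) x).hom.toAlgebra
      haveI : IsLocalization.AtPrime ((Spec (CommRingCat.of S.R)).presheaf.stalk x) x.asIdeal :=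
        StructureSheaf.IsLocalization.to_stalk (CommRingCat.of S.R) x
      haveI : IsIntegrallyClosed (CommRingCat.of S.R) := inferInstanceAs (IsIntegrallyClosed S.R)
      exact isIntegrallyClosed_of_isLocalization _ x.asIdeal.primeCompl
        x.asIdeal.primeCompl_le_nonZeroDivisors
    have hη : genericPoint (Spec (CommRingCat.of S.R)) ∈ Set.range j := by
      refine ⟨⟨⊥, Ideal.isPrime_bot⟩, PrimeSpectrum.ext ?_⟩
      rw [genericPoint_eq_bot_of_affine]
      exact Ideal.comap_bot_of_injective _ (IsFractionRing.injective S.R S.K)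
    obtain ⟨l, ⟨hl₁, hl₂⟩, -⟩ := hlift S.i₂ j (fullyFaithful_of_generic j hS hη) S.i₁ S.commSq.w.symm
    exact ⟨⟨⟨l, hl₁, hl₂⟩⟩⟩
  haveI : IsProper M.hom := {}
  haveI : LocallyQuasiFinite M.hom := GrothLib.EtBasicB.locallyQuasiFinite_of_unramified M.hom
  haveI : IsFinite M.hom :=
    IsFinite.of_isProper_of_locallyQuasiFinite M.hom
  exact ⟨MorphismProperty.Over.mk ⊤ M.hom ⟨inferInstance, inferInstance⟩,
    fun T g => ⟨Equiv.ofBijective _ (hΦ g)⟩⟩

end GrothLib.FEt21
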