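import Groth.Agent.Lib.FEt21.StrictHull
import Groth.Agent.Lib.Hensel.MultivarRoot
import Mathlib.RingTheory.TotallySplit
import Mathlib.RingTheory.Nakayama

/-!
# Finite étale algebras over an integral radicial extension are étale locally split
-/

set_option autoImplicit false

universe u

open CategoryTheory TensorProduct IsLocalRing
open GrothLib.Hensel

namespace GrothLib.FEt21

attribute [local instance] Algebra.TensorProduct.rightAlgebra

/-- Finite étale algebras over a strictly henselian local ring are split. -/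
theorem exists_algEquiv_fun_of_strictHenselian {R D : Type u} [CommRing R] [HenselianLocalRing R]
    [IsSepClosed (ResidueField R)] [CommRing D] [Algebra R D] [Module.Finite R D] [Algebra.Etale R D] :
    ∃ n, Nonempty (D ≃ₐ[R] (Fin n → R)) := by
  classical
  let k := ResidueField R
  haveI : Module.FinitePresentation R D := Module.FinitePresentation.of_finite_of_finitePresentation _ _
  haveI : Module.Free R D := Module.free_of_flat_of_isLocalRing
  haveI : Algebra.IsFiniteSplit k (k ⊗[R] D) := inferInstance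
  obtain ⟨n, ⟨e⟩⟩ := Algebra.IsFiniteSplit.nonempty_algEquiv_fun k (k ⊗[R] D)
  haveI : HenselianRing R (maximalIdeal R) := inferInstance
  let τ : Fin n → (D →ₐ[R] k) := fun i =>
    (((Pi.evalAlgHom k (fun _ : Fin n => k) i).comp e.toAlgHom).restrictScalars R).comp
      Algebra.TensorProduct.includeRight
  choose σ hσ using fun i => exists_algHom_lift (I := maximalIdeal R) (S := D) (τ i)
  let Φ : D →ₐ[R] (Fin n → R) := Pi.algHom _ _ σ
  have hrank : Module.finrank R D = n := by
    have h1 : Module.finrank k (k ⊗[R] D) = Module.finrank R D := Module.finrank_baseChange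
    rw [← h1, e.toLinearEquiv.finrank_eq, Module.finrank_fin_fun]
  have hsurj : Function.Surjective Φ := by
    rw [← AlgHom.range_eq_top, eq_top_iff]
    have hτ : Function.Surjective (fun d : D => fun i => τ i d) := by
      intro v
      obtain ⟨z, hz⟩ := e.surjective v
      have : ∀ z : k ⊗[R] D, ∃ d : D, z = 1 ⊗ₜ d := by
        intro z
        induction z using TensorProduct.induction_on with
        | zero => exact ⟨0, (tmul_zero _ _).symm⟩
        | tmul a d =>
          obtain ⟨r, rfl⟩ := residue_surjective a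
          refine ⟨r • d, ?_⟩
          rw [← smul_tmul, Algebra.smul_def, mul_one]
          rfl
        | add a b ha hb =>
          obtain ⟨d, rfl⟩ := ha
          obtain ⟨d', rfl⟩ := hb
          exact ⟨d + d', (tmul_add _ _ _).symm⟩
      obtain ⟨d, rfl⟩ := this z
      exact ⟨d, hz⟩
    intro v _
    suffices h : LinearMap.range Φ.toLinearMap = ⊤ by
      obtain ⟨d, hd⟩ : v ∈ LinearMap.range Φ.toLinearMap := h ▸ trivial
      exact ⟨d, hd⟩
    rw [eq_top_iff]
    refine Submodule.le_of_le_smul_of_le_jacobson_bot (I := maximalIdeal R) Module.Finite.fg_top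
      (maximalIdeal_le_jacobson _) fun v _ => ?_
    obtain ⟨d, hd⟩ := hτ (fun i => residue R (v i))
    refine Submodule.mem_sup.2 ⟨Φ d, ⟨d, rfl⟩, v - Φ d, ?_, add_sub_cancel _ _⟩
    have hmem : ∀ i, v i - σ i d ∈ maximalIdeal R := fun i => by
      rw [← IsLocalRing.residue_eq_zero_iff, map_sub, ← congrFun hd i, sub_eq_zero]
      exact (AlgHom.congr_fun (hσ i) d).symm
    rw [show v - Φ d = ∑ i, (v i - σ i d) • Pi.single i (1 : R) by
      funext j; simp [Φ, Finset.sum_apply, Pi.single_apply]]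
    exact Submodule.sum_mem _ fun i _ => Submodule.smul_mem_smul (hmem i) trivial
  have hinj : Function.Injective Φ := by
    have b : D ≃ₗ[R] (Fin n → R) := LinearEquiv.ofFinrankEq _ _ (by rw [hrank, Module.finrank_fin_fun])
    have h2 : Function.Injective (Φ.toLinearMap ∘ₗ b.symm.toLinearMap) :=
      OrzechProperty.injective_of_surjective_endomorphism _ (hsurj.comp b.symm.surjective)
    intro x y hxy
    have := h2 (a₁ := b x) (a₂ := b y) (by simpa using hxy)
    exact b.injective this
  exact ⟨n, ⟨AlgEquiv.ofBijective Φ ⟨hinj, hsurj⟩⟩⟩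

variable {A B C : Type u} [CommRing A] [CommRing B] [CommRing C] [Algebra A B] [Algebra A C]
  [Algebra B C] [IsScalarTower A B C]

section Data

variable (T : Type u) [CommRing T] [Algebra A T]

/-- The map `T ⊗ B → T ⊗ C`. -/
noncomputable abbrev bμ : T ⊗[A] B →ₐ[A] T ⊗[A] C :=
  Algebra.TensorProduct.map (AlgHom.id A T) (IsScalarTower.toAlgHom A B C)

variable (B C) in
/-- The map induced by `l : T → T'`. -/
noncomputable abbrev bl {T' : Type u} [CommRing T'] [Algebra A T'] (l : T →ₐ[A] T') (M : Type u) [CommRing M]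
    [Algebra A M] : T ⊗[A] M →ₐ[A] T' ⊗[A] M :=
  Algebra.TensorProduct.map l (AlgHom.id A M)

variable {n m : ℕ} (c : Fin m → C) (φ : Fin m → C →ₗ[B] B)

/-- The equations of a splitting. -/
def IsSplitData (e : Fin n → T ⊗[A] C) (r : Fin n → Fin m → T ⊗[A] B) : Prop :=
  (∀ i l, e i * e l = if i = l then e i else 0) ∧ ∑ i, e i = 1 ∧
    (∀ i j, ((1 : T) ⊗ₜ[A] c j) * e i = bμ T (r i j) * e i) ∧
      ∀ i, ∑ j, r i j * ((φ j).restrictScalars A).lTensor T (e i) = 1

variable {T c φ}

theorem bμ_tmul (t : T) (b : B) : (bμ T (t ⊗ₜ[A] b) : T ⊗[A] C) = t ⊗ₜ algebraMap B C b := by simp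

theorem lTensor_bμ_mul (j : Fin m) (t : T ⊗[A] B) (y : T ⊗[A] C) :
    ((φ j).restrictScalars A).lTensor T (bμ T t * y) = t * ((φ j).restrictScalars A).lTensor T y := by
  induction t using TensorProduct.induction_on with
  | zero => simp only [map_zero, zero_mul]
  | add a b ha hb => simp only [map_add, add_mul, ha, hb]
  | tmul a b =>
    induction y using TensorProduct.induction_on with
    | zero => simp only [map_zero, mul_zero]
    | add u v hu hv => simp only [mul_add, map_add, hu, hv]
    | tmul a' x =>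
      rw [bμ_tmul, Algebra.TensorProduct.tmul_mul_tmul, LinearMap.lTensor_tmul, LinearMap.lTensor_tmul,
        Algebra.TensorProduct.tmul_mul_tmul]
      congr 1
      show φ j (algebraMap B C b * x) = b * φ j x
      rw [← Algebra.smul_def, map_smul, smul_eq_mul]

variable {T' : Type u} [CommRing T'] [Algebra A T'] (l : T →ₐ[A] T')

theorem bl_bμ (x : T ⊗[A] B) : bl T l C (bμ T x) = bμ T' (bl T l B x) := by
  induction x using TensorProduct.induction_on with
  | zero => simp only [map_zero]
  | add a b ha hb => simp only [map_add, ha, hb]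
  | tmul a b => simp

theorem bl_lTensor (j : Fin m) (x : T ⊗[A] C) :
    bl T l B (((φ j).restrictScalars A).lTensor T x) = ((φ j).restrictScalars A).lTensor T' (bl T l C x) := by
  induction x using TensorProduct.induction_on with
  | zero => simp only [map_zero]
  | add a b ha hb => simp only [map_add, ha, hb]
  | tmul a b => simp

theorem bl_eq_rTensor {M : Type u} [CommRing M] [Algebra A M] (x : T ⊗[A] M) :
    l.toLinearMap.rTensor M x = bl T l M x := by
  induction x using TensorProduct.induction_on with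
  | zero => simp only [map_zero]
  | add a b ha hb => simp only [map_add, ha, hb]
  | tmul a b => simp

/-- A splitting gives an isomorphism. -/
theorem exists_ringEquiv_of_isSplitData (hc : ∀ x, x = ∑ j, φ j x • c j) {e : Fin n → T ⊗[A] C}
    {r : Fin n → Fin m → T ⊗[A] B} (h : IsSplitData T c φ e r) :
    ∃ Ψ : (Fin n → T ⊗[A] B) ≃+* T ⊗[A] C, ∀ x, Ψ (fun _ => x) = bμ T x := by
  obtain ⟨hE, hE1, hgen, hs⟩ := h
  let Ψ : (Fin n → T ⊗[A] B) →+* T ⊗[A] C :=
    { toFun := fun x => ∑ i, bμ T (x i) * e i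
      map_one' := by simp only [Pi.one_apply, map_one, one_mul, hE1]
      map_zero' := by simp only [Pi.zero_apply, map_zero, zero_mul, Finset.sum_const_zero]
      map_add' := fun x y => by simp only [Pi.add_apply, map_add, add_mul, Finset.sum_add_distrib]
      map_mul' := fun x y => by
        refine Eq.trans ?_ (Finset.sum_mul_sum _ _ _ _).symm
        refine Finset.sum_congr rfl fun i _ => ?_
        rw [Finset.sum_eq_single i (fun l _ hl => by
          rw [mul_mul_mul_comm, hE, if_neg (Ne.symm hl), mul_zero]) (fun h => absurd (Finset.mem_univ i) h),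
          mul_mul_mul_comm, hE, if_pos rfl, Pi.mul_apply, map_mul] }
  have hΨ : ∀ x, Ψ x = ∑ i, bμ T (x i) * e i := fun x => rfl
  refine ⟨RingEquiv.ofBijective Ψ ⟨(injective_iff_map_eq_zero _).2 fun x hx => funext fun i => ?_,
    fun y => ?_⟩, fun x => ?_⟩
  · have h1 : bμ T (x i) * e i = 0 := by
      have h2 : Ψ x * e i = 0 := by rw [hx, zero_mul]
      rw [hΨ, Finset.sum_mul, Finset.sum_eq_single i (fun l _ hl => by rw [mul_assoc, hE, if_neg hl, mul_zero])
        (fun h => absurd (Finset.mem_univ i) h), mul_assoc, hE, if_pos rfl] at h2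
      exact h2
    calc x i = x i * 1 := (mul_one _).symm
      _ = ∑ j, x i * (r i j * ((φ j).restrictScalars A).lTensor T (e i)) := by rw [← hs i, Finset.mul_sum]
      _ = 0 := Finset.sum_eq_zero fun j _ => by rw [mul_left_comm, ← lTensor_bμ_mul, h1, map_zero, mul_zero]
  · induction y using TensorProduct.induction_on with
    | zero => exact ⟨0, map_zero _⟩
    | add u v hu hv =>
      obtain ⟨x, rfl⟩ := hu
      obtain ⟨x', rfl⟩ := hv
      exact ⟨x + x', map_add _ _ _⟩
    | tmul a x =>
      refine ⟨fun i => ∑ j, (a ⊗ₜ φ j x) * r i j, ?_⟩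
      have : ∀ i, bμ T (∑ j, (a ⊗ₜ φ j x) * r i j) * e i = (a ⊗ₜ[A] x) * e i := fun i => by
        rw [map_sum, Finset.sum_mul]
        conv_rhs => rw [hc x, TensorProduct.tmul_sum, Finset.sum_mul]
        refine Finset.sum_congr rfl fun j _ => ?_
        rw [map_mul, mul_assoc, ← hgen, ← mul_assoc, bμ_tmul, Algebra.TensorProduct.tmul_mul_tmul, mul_one,
          Algebra.smul_def]
      rw [hΨ, Finset.sum_congr rfl fun i _ => this i, ← Finset.mul_sum, hE1, mul_one]
  · show ∑ i, bμ T x * e i = bμ T x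
    rw [← Finset.mul_sum, hE1, mul_one]

end Data

section Descend

variable {Ω : Type u} [Field Ω] [Algebra A Ω] {n m : ℕ} {c : Fin m → C} {φ : Fin m → C →ₗ[B] B}

/-- A splitting over the strict henselization comes from a stage. -/
theorem exists_stage_isSplitData {e : Fin n → Hull A Ω ⊗[A] C} {r : Fin n → Fin m → Hull A Ω ⊗[A] B}
    (h : IsSplitData (Hull A Ω) c φ e r) :
    ∃ (N : Nbhd A Ω) (e' : Fin n → N.Ring ⊗[A] C) (r' : Fin n → Fin m → N.Ring ⊗[A] B),
      IsSplitData N.Ring c φ e' r' := by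
  obtain ⟨hE, hE1, hgen, hs⟩ := h
  obtain ⟨N, w, hw⟩ := StrictHull.exists_stage (M := C) e
  obtain ⟨N', v, hv⟩ := StrictHull.exists_stage (M := B) (fun ij : Fin n × Fin m => r ij.1 ij.2)
  obtain ⟨K, f, g, -⟩ := IsFilteredOrEmpty.cocone_objs N N'
  obtain ⟨e', he⟩ : ∃ e' : Fin n → K.Ring ⊗[A] C, ∀ i, bl K.Ring (Hull.ι K) C (e' i) = e i := by
    refine ⟨fun i => f.map.toLinearMap.rTensor C (w i), fun i => ?_⟩
    rw [← bl_eq_rTensor, ← LinearMap.rTensor_comp_apply, ← hw i]
    congr 3
    exact LinearMap.ext fun t => Hull.ι_map f t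
  obtain ⟨r', hr⟩ : ∃ r' : Fin n → Fin m → K.Ring ⊗[A] B, ∀ i j, bl K.Ring (Hull.ι K) B (r' i j) = r i j := by
    refine ⟨fun i j => g.map.toLinearMap.rTensor B (v (i, j)), fun i j => ?_⟩
    rw [← bl_eq_rTensor, ← LinearMap.rTensor_comp_apply, ← hv (i, j)]
    congr 3
    exact LinearMap.ext fun t => Hull.ι_map g t
  let E₁ : (Fin n × Fin n) ⊕ (Unit ⊕ (Fin n × Fin m)) → K.Ring ⊗[A] C := fun s => match s with
    | .inl (i, l) => e' i * e' l - (if i = l then e' i else 0)
    | .inr (.inl _) => (∑ i, e' i) - 1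
    | .inr (.inr (i, j)) => ((1 : K.Ring) ⊗ₜ c j) * e' i - bμ K.Ring (r' i j) * e' i
  obtain ⟨L, a, ha⟩ := StrictHull.exists_stage_eq_zero_family E₁ (fun s => by
    rw [bl_eq_rTensor]
    rcases s with ⟨i, l⟩ | _ | ⟨i, j⟩
    · simp only [E₁]
      rw [map_sub, map_mul, apply_ite (bl K.Ring (Hull.ι K) C), he, he, map_zero, hE, sub_self]
    · simp only [E₁]
      rw [map_sub, map_sum, map_one, Finset.sum_congr rfl fun i _ => he i, hE1, sub_self]
    · simp only [E₁]
      rw [map_sub, map_mul, map_mul, he, bl_bμ, hr, ← hgen i j, Algebra.TensorProduct.map_tmul, map_one,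
        AlgHom.id_apply, sub_self])
  obtain ⟨L', b, hb⟩ := StrictHull.exists_stage_eq_zero_family (M := B)
    (fun i => (∑ j, r' i j * ((φ j).restrictScalars A).lTensor K.Ring (e' i)) - 1) (fun i => by
      rw [bl_eq_rTensor, map_sub, map_sum, map_one, sub_eq_zero]
      refine Eq.trans (Finset.sum_congr rfl fun j _ => ?_) (hs i)
      rw [map_mul, hr, bl_lTensor, he])
  obtain ⟨Z, a', b', -⟩ := IsFilteredOrEmpty.cocone_objs L L'
  obtain ⟨Z', z, hz⟩ := IsFilteredOrEmpty.cocone_maps (a ≫ a') (b ≫ b')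
  have hG : (a ≫ a' ≫ z).map = (b ≫ b' ≫ z).map := by
    rw [← Category.assoc, hz, Category.assoc]
  have hG1 : ∀ s, bl K.Ring (a ≫ a' ≫ z).map C (E₁ s) = 0 := fun s => by
    rw [← bl_eq_rTensor]
    show ((z.map.comp a'.map).comp a.map).toLinearMap.rTensor C (E₁ s) = 0
    rw [AlgHom.comp_toLinearMap, LinearMap.rTensor_comp_apply, ha s, map_zero]
  have hG2 : ∀ i, bl K.Ring (a ≫ a' ≫ z).map B
      ((∑ j, r' i j * ((φ j).restrictScalars A).lTensor K.Ring (e' i)) - 1) = 0 := fun i => by
    rw [hG, ← bl_eq_rTensor]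
    show ((z.map.comp b'.map).comp b.map).toLinearMap.rTensor B _ = 0
    rw [AlgHom.comp_toLinearMap, LinearMap.rTensor_comp_apply, hb i, map_zero]
  refine ⟨Z', fun i => bl K.Ring (a ≫ a' ≫ z).map C (e' i),
    fun i j => bl K.Ring (a ≫ a' ≫ z).map B (r' i j), fun i l => ?_, ?_, fun i j => ?_, fun i => ?_⟩
  · have h0 := hG1 (.inl (i, l))
    simp only [E₁] at h0
    rw [map_sub, map_mul, apply_ite (bl K.Ring (a ≫ a' ≫ z).map C), map_zero, sub_eq_zero] at h0
    exact h0
  · have h0 := hG1 (.inr (.inl ()))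
    simp only [E₁] at h0
    rw [map_sub, map_sum, map_one, sub_eq_zero] at h0
    exact h0
  · have h0 := hG1 (.inr (.inr (i, j)))
    simp only [E₁] at h0
    rw [map_sub, map_mul, map_mul, bl_bμ, sub_eq_zero, Algebra.TensorProduct.map_tmul, map_one,
      AlgHom.id_apply] at h0
    exact h0
  · have h0 := hG2 i
    rw [map_sub, map_sum, map_one, sub_eq_zero] at h0
    refine Eq.trans (Finset.sum_congr rfl fun j _ => ?_) h0
    rw [map_mul, bl_lTensor]

end Descend

section Henselian

variable {H : Type u} [CommRing H] [Algebra A H] [Module.Finite B C] [Algebra.Etale B C] {m : ℕ}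
  {c : Fin m → C} {φ : Fin m → C →ₗ[B] B}

/-- Over a strictly henselian `H ⊗ B` there is a splitting. -/
theorem exists_isSplitData [HenselianLocalRing (H ⊗[A] B)] [IsSepClosed (ResidueField (H ⊗[A] B))]
    (hc : ∀ x, x = ∑ j, φ j x • c j) :
    ∃ (n : ℕ) (e : Fin n → H ⊗[A] C) (r : Fin n → Fin m → H ⊗[A] B), IsSplitData H c φ e r := by
  classical
  obtain ⟨n, ⟨Φ⟩⟩ := exists_algEquiv_fun_of_strictHenselian (R := H ⊗[A] B) (D := (H ⊗[A] B) ⊗[B] C)
  letI : Algebra B (H ⊗[A] C) := ((algebraMap C (H ⊗[A] C)).comp (algebraMap B C)).toAlgebra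
  let μB : H ⊗[A] B →ₐ[B] H ⊗[A] C :=
    { toRingHom := (bμ H).toRingHom
      commutes' := fun b => bμ_tmul 1 b }
  let inB : C →ₐ[B] H ⊗[A] C :=
    { toRingHom := (Algebra.TensorProduct.includeRight : C →ₐ[A] H ⊗[A] C).toRingHom
      commutes' := fun b => rfl }
  let J : (H ⊗[A] B) ⊗[B] C →ₐ[B] H ⊗[A] C := Algebra.TensorProduct.productMap μB inB
  have hJ : ∀ (r : H ⊗[A] B) (x : C), J (r ⊗ₜ[B] x) = bμ H r * ((1 : H) ⊗ₜ[A] x) := fun r x =>
    Algebra.TensorProduct.productMap_apply_tmul _ _ _ _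
  have hJ1 : ∀ x : C, J ((1 : H ⊗[A] B) ⊗ₜ[B] x) = (1 : H) ⊗ₜ[A] x := fun x => by rw [hJ, map_one, one_mul]
  have hnat : ∀ j (z : (H ⊗[A] B) ⊗[B] C), ((φ j).restrictScalars A).lTensor H (J z) =
      TensorProduct.rid B (H ⊗[A] B) ((φ j).lTensor (H ⊗[A] B) z) := by
    intro j z
    induction z using TensorProduct.induction_on with
    | zero => simp only [map_zero]
    | add a b ha hb => simp only [map_add, ha, hb]
    | tmul r x =>
      rw [hJ, lTensor_bμ_mul, LinearMap.lTensor_tmul, LinearMap.lTensor_tmul, TensorProduct.rid_tmul,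
        Algebra.smul_def, mul_comm]
      rfl
  have hdec : ∀ z : (H ⊗[A] B) ⊗[B] C,
      z = ∑ j, (TensorProduct.rid B (H ⊗[A] B) ((φ j).lTensor (H ⊗[A] B) z)) ⊗ₜ[B] c j := fun z => by
    induction z using TensorProduct.induction_on with
    | zero => simp
    | tmul r x =>
      conv_lhs => rw [hc x]
      rw [tmul_sum]
      refine Finset.sum_congr rfl fun j _ => ?_
      rw [LinearMap.lTensor_tmul, TensorProduct.rid_tmul, ← smul_tmul]
    | add a b ha hb =>
      simp only [map_add, add_tmul, Finset.sum_add_distrib]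
      rw [← ha, ← hb]
  refine ⟨n, fun i => J (Φ.symm (Pi.single i 1)), fun i j => Φ (1 ⊗ₜ c j) i, fun i l => ?_, ?_,
    fun i j => ?_, fun i => ?_⟩
  · rw [← map_mul, ← map_mul, ← Pi.single_mul_left, one_mul]
    split_ifs with h
    · subst h; rw [Pi.single_eq_same]
    · rw [Pi.single_eq_of_ne h, Pi.single_zero, map_zero, map_zero]
  · rw [← map_sum, ← map_sum, show (∑ x, Pi.single x (1 : H ⊗[A] B)) = (1 : Fin n → H ⊗[A] B) from
      Finset.univ_sum_single (fun _ => (1 : H ⊗[A] B)), map_one, map_one]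
  · rw [← hJ1 (c j), ← map_mul]
    have h : ((1 : H ⊗[A] B) ⊗ₜ[B] c j) * Φ.symm (Pi.single i 1) =
        ((Φ (1 ⊗ₜ c j) i) ⊗ₜ[B] (1 : C)) * Φ.symm (Pi.single i 1) := by
      apply Φ.injective
      rw [map_mul, map_mul, AlgEquiv.apply_symm_apply,
        show ∀ t, (t ⊗ₜ[B] (1 : C) : (H ⊗[A] B) ⊗[B] C) = algebraMap (H ⊗[A] B) _ t from fun t => rfl,
        AlgEquiv.commutes, ← Pi.single_mul_right, ← Pi.single_mul_right, Pi.algebraMap_apply,
        Algebra.algebraMap_self, RingHom.id_apply]
    rw [h, map_mul, hJ, ← Algebra.TensorProduct.one_def, mul_one]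
  · have h1 := congrFun (congrArg Φ (hdec (Φ.symm (Pi.single i 1)))) i
    rw [map_sum, Finset.sum_apply, AlgEquiv.apply_symm_apply, Pi.single_eq_same] at h1
    conv_rhs => rw [h1]
    refine Finset.sum_congr rfl fun j _ => ?_
    rw [hnat]
    generalize TensorProduct.rid B (H ⊗[A] B) ((φ j).lTensor (H ⊗[A] B) (Φ.symm (Pi.single i 1))) = t
    rw [show (t ⊗ₜ[B] c j : (H ⊗[A] B) ⊗[B] C) = t • ((1 : H ⊗[A] B) ⊗ₜ[B] c j) by
      rw [smul_tmul', smul_eq_mul, mul_one], map_smul, Pi.smul_apply, smul_eq_mul, mul_comm]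

end Henselian

/-- A local ring integral over a strictly henselian ring with one point over the closed point. -/
theorem henselian_sepClosed_of_radicial {H : Type u} [CommRing H] [HenselianLocalRing H]
    [IsSepClosed (ResidueField H)] (R : Type u) [CommRing R] [Algebra H R] [Algebra.IsIntegral H R]
    (h : Function.Bijective (PrimeSpectrum.comap (algebraMap H R))) :
    ∃ _ : HenselianLocalRing R, IsSepClosed (ResidueField R) := by
  obtain ⟨x, hx⟩ := h.2 (closedPoint H)
  have hxm : x.asIdeal.comap (algebraMap H R) = maximalIdeal H := congrArg PrimeSpectrum.asIdeal hx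
  haveI : IsLocalRing R := by
    refine IsLocalRing.of_unique_max_ideal ⟨x.asIdeal,
      Ideal.isMaximal_of_isIntegral_of_isMaximal_comap (R := H) x.asIdeal (by rw [hxm]; infer_instance),
      fun M hM => ?_⟩
    have hM' : (M.comap (algebraMap H R)).IsMaximal :=
      Ideal.isMaximal_comap_of_isIntegral_of_isMaximal (R := H) M
    have : PrimeSpectrum.comap (algebraMap H R) ⟨M, hM.isPrime⟩ = closedPoint H :=
      PrimeSpectrum.ext (IsLocalRing.eq_maximalIdeal hM')
    exact congrArg PrimeSpectrum.asIdeal (h.1 (this.trans hx.symm))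
  haveI : IsLocalHom (algebraMap H R) := ⟨fun a ha => by
    by_contra hna
    have h1 : a ∈ maximalIdeal H := hna
    rw [← hxm] at h1
    exact x.isPrime.ne_top (Ideal.eq_top_of_isUnit_mem _ h1 ha)⟩
  refine ⟨LocAcyc.henselianLocalRing_of_isIntegral H R, ?_⟩
  haveI : Algebra.IsIntegral (ResidueField H) (ResidueField R) := ⟨fun y => by
    obtain ⟨r, rfl⟩ := residue_surjective y
    obtain ⟨f, hfm, hf⟩ := Algebra.IsIntegral.isIntegral (R := H) r
    refine ⟨f.map (residue H), hfm.map _, ?_⟩
    rw [Polynomial.eval₂_map]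
    have := congrArg (residue R) hf
    rw [Polynomial.hom_eval₂, map_zero] at this
    exact this⟩
  haveI : Algebra.IsAlgebraic (ResidueField H) (ResidueField R) := Algebra.IsIntegral.isAlgebraic
  exact Algebra.IsAlgebraic.isSepClosed (F := ResidueField H)

/-- Finite étale algebras over a radicial integral extension split étale locally on the base. -/
theorem exists_etale_split [Algebra.IsIntegral A B] [Module.Finite B C] [Algebra.Etale B C]
    (hrad : ∀ (T : Type u) [CommRing T] [Algebra A T],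
      Function.Bijective (PrimeSpectrum.comap (algebraMap T (T ⊗[A] B))))
    (p : Ideal A) [p.IsPrime] :
    ∃ (A' : Type u) (_ : CommRing A') (_ : Algebra A A') (_ : Algebra.Etale A A') (q : Ideal A')
      (_ : q.IsPrime), q.comap (algebraMap A A') = p ∧
      ∃ (n : ℕ) (Ψ : (Fin n → A' ⊗[A] B) ≃+* A' ⊗[A] C),
        ∀ r, Ψ (fun _ => r) =
          Algebra.TensorProduct.map (AlgHom.id A A') (IsScalarTower.toAlgHom A B C) r := by
  classical
  let Ω := SeparableClosure p.ResidueField
  haveI := StrictHull.isLocalRing A Ω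
  haveI := StrictHull.henselianLocalRing A Ω
  haveI := StrictHull.isSepClosed_residueField A Ω
  obtain ⟨_, _⟩ := henselian_sepClosed_of_radicial (H := Hull A Ω) (Hull A Ω ⊗[A] B) (hrad (Hull A Ω))
  haveI : Module.FinitePresentation B C := Module.FinitePresentation.of_finite_of_finitePresentation _ _
  haveI : Module.Projective B C := Module.Flat.projective_of_finitePresentation
  obtain ⟨m, π, ι, -, -, hπι⟩ := Module.Finite.exists_comp_eq_id_of_projective B C
  have hc : ∀ x, x = ∑ j, ((LinearMap.proj j).comp ι : C →ₗ[B] B) x • π (Pi.single j 1) := fun x => by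
    conv_lhs => rw [← LinearMap.id_apply (R := B) x, ← hπι, LinearMap.comp_apply,
      pi_eq_sum_univ' (ι x), map_sum]
    exact Finset.sum_congr rfl fun j _ => by rw [map_smul]; rfl
  obtain ⟨n, e, r, hd⟩ := exists_isSplitData (A := A) (H := Hull A Ω) hc
  obtain ⟨N, e', r', hd'⟩ := exists_stage_isSplitData hd
  obtain ⟨Ψ, hΨ⟩ := exists_ringEquiv_of_isSplitData hc hd'
  refine ⟨N.Ring, inferInstance, inferInstance, inferInstance, RingHom.ker N.pt.toRingHom,
    RingHom.ker_isPrime _, ?_, n, Ψ, hΨ⟩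
  rw [RingHom.comap_ker, show N.pt.toRingHom.comp (algebraMap A N.Ring) = algebraMap A Ω from
    N.pt.comp_algebraMap]
  ext x
  rw [RingHom.mem_ker, IsScalarTower.algebraMap_apply A p.ResidueField Ω, map_eq_zero,
    Ideal.algebraMap_residueField_eq_zero]

end GrothLib.FEt21
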