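import Groth.Agent.Lib.FEt21.EtaleLocal
import Groth.Agent.Lib.FEt21.RadicialSplit
import Groth.Agent.Lib.FEt21.Clopen
import Groth.Agent.Lib.FEt21.Affine
import Mathlib.AlgebraicGeometry.Morphisms.Integral

/-!
# Topological invariance: finite étale covers along universal homeomorphisms
-/

set_option autoImplicit false
set_option backward.isDefEq.respectTransparency false

universe u

open CategoryTheory CategoryTheory.Limits AlgebraicGeometry TensorProduct

namespace GrothLib.FEt21

theorem fullyFaithful_of_uh {X Y : Scheme.{u}} (f : X ⟶ Y) [IsIntegralHom f] [UniversallyInjective f]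
    [Surjective f] : (FEt.restrict f).Full ∧ (FEt.restrict f).Faithful :=
  fullyFaithful_of_clopen f (clopenInj_of_surjective f) (clopenSurj_of_universallyInjective f)

theorem etaleFF_of_uh {X Y : Scheme.{u}} (f : X ⟶ Y) [IsIntegralHom f] [UniversallyInjective f]
    [Surjective f] : EtaleFF f := fun Z g _ => by
  haveI : IsIntegralHom (pullback.fst g f) := MorphismProperty.pullback_fst _ _ inferInstance
  haveI : UniversallyInjective (pullback.fst g f) := MorphismProperty.pullback_fst _ _ inferInstance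
  haveI : Surjective (pullback.fst g f) := MorphismProperty.pullback_fst _ _ inferInstance
  exact fullyFaithful_of_uh _

/-- The pushout of a finite split algebra. -/
theorem isPushout_fun (A T : Type u) [CommRing A] [CommRing T] [Algebra A T] (n : ℕ) :
    IsPushout (CommRingCat.ofHom (algebraMap A T)) (CommRingCat.ofHom (algebraMap A (Fin n → A)))
      (CommRingCat.ofHom (algebraMap T (Fin n → T)))
      (CommRingCat.ofHom (Pi.ringHom fun i => (algebraMap A T).comp (Pi.evalRingHom (fun _ : Fin n => A) i))) := by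
  classical
  let e := (Algebra.TensorProduct.piScalarRight A T T (Fin n)).toRingEquiv.toCommRingCatIso
  refine (CommRingCat.isPushout_tensorProduct A T (Fin n → A)).of_iso (Iso.refl _) (Iso.refl _)
    (Iso.refl _) e (by simp) (by simp) ?_ ?_
  · refine CommRingCat.hom_ext (RingHom.ext fun t => funext fun i => ?_)
    show (Algebra.TensorProduct.piScalarRight A T T (Fin n)) (t ⊗ₜ[A] 1) i = _
    rw [Algebra.TensorProduct.piScalarRight_tmul]
    simp
  · refine CommRingCat.hom_ext (RingHom.ext fun v => funext fun i => ?_)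
    show (Algebra.TensorProduct.piScalarRight A T T (Fin n)) (1 ⊗ₜ[A] v) i = algebraMap A T (v i)
    rw [Algebra.TensorProduct.piScalarRight_tmul]
    simp [Algebra.smul_def]

variable {X Y : Scheme.{u}} (f : X ⟶ Y) [IsIntegralHom f] [UniversallyInjective f] [Surjective f]

theorem isPullback_tensor {A B A' : Type u} [CommRing A] [CommRing B] [CommRing A'] [Algebra A B]
    [Algebra A A'] :
    IsPullback (Spec.map (CommRingCat.ofHom (Algebra.TensorProduct.includeLeftRingHom : A' →+* A' ⊗[A] B)))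
      (Spec.map (CommRingCat.ofHom (Algebra.TensorProduct.includeRight : B →ₐ[A] A' ⊗[A] B).toRingHom))
      (Spec.map (CommRingCat.ofHom (algebraMap A A'))) (Spec.map (CommRingCat.ofHom (algebraMap A B))) :=
  isPullback_SpecMap_of_isPushout _ _ _ _ (CommRingCat.isPushout_tensorProduct A A' B)

/-- A cover of the source is, étale locally on the target, a base change of a split cover. -/
theorem exists_local_model (V : FEt.Cat X) (y : Y) :
    ∃ (Y' : Scheme.{u}) (u : Y' ⟶ Y) (_ : Etale u) (A : FEt.Cat Y')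
      (m : pullback (A.hom ≫ u) f ⟶ V.left),
      y ∈ Set.range u ∧ IsPullback (pullback.fst _ f ≫ A.hom) m u (V.hom ≫ f) ∧
        m ≫ V.hom = pullback.snd _ _ := by
  let v : V.left ⟶ X := V.hom
  haveI : IsFinite v := V.prop.1
  haveI : Etale v := V.prop.2
  obtain ⟨_, ⟨U, hU, rfl⟩, hyU, -⟩ :=
    Y.isBasis_affineOpens.exists_subset_of_mem_open (Set.mem_univ y) isOpen_univ
  have hB : IsAffineOpen (f ⁻¹ᵁ U) := hU.preimage f
  let A₀ := Γ(Y, U)
  let B := Γ(X, f ⁻¹ᵁ U)
  let C := Γ(V.left, v ⁻¹ᵁ (f ⁻¹ᵁ U))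
  letI : Algebra A₀ B := (f.app U).hom.toAlgebra
  letI : Algebra B C := (v.app (f ⁻¹ᵁ U)).hom.toAlgebra
  letI : Algebra A₀ C := ((v.app (f ⁻¹ᵁ U)).hom.comp (f.app U).hom).toAlgebra
  haveI : IsScalarTower A₀ B C := IsScalarTower.of_algebraMap_eq fun _ => rfl
  haveI : Algebra.IsIntegral A₀ B := by
    exact ⟨f.isIntegral_app U hU⟩
  haveI := finite_app_algebra v hB
  haveI := etale_app_algebra v hB
  have sqB : IsPullback hB.fromSpec (Spec.map (f.app U)) f hU.fromSpec := isPullback_app f hU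
  have sqC : IsPullback (hB.preimage v).fromSpec (Spec.map (v.app (f ⁻¹ᵁ U))) v hB.fromSpec :=
    isPullback_app v hB
  have hrad : ∀ (T : Type u) [CommRing T] [Algebra A₀ T],
      Function.Bijective (PrimeSpectrum.comap (algebraMap T (T ⊗[A₀] B))) := by
    intro T _ _
    have sq := (isPullback_tensor (A := A₀) (B := B) (A' := T)).flip.paste_horiz sqB
    haveI : UniversallyInjective (Spec.map (CommRingCat.ofHom
        (Algebra.TensorProduct.includeLeftRingHom : T →+* T ⊗[A₀] B))) :=
      MorphismProperty.of_isPullback sq ‹UniversallyInjective f›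
    haveI : Surjective (Spec.map (CommRingCat.ofHom
        (Algebra.TensorProduct.includeLeftRingHom : T →+* T ⊗[A₀] B))) :=
      MorphismProperty.of_isPullback sq ‹Surjective f›
    exact ⟨(Spec.map (CommRingCat.ofHom (Algebra.TensorProduct.includeLeftRingHom : T →+* T ⊗[A₀] B))).injective,
      (Spec.map (CommRingCat.ofHom (Algebra.TensorProduct.includeLeftRingHom : T →+* T ⊗[A₀] B))).surjective⟩
  obtain ⟨p, hp⟩ : ∃ p : PrimeSpectrum A₀, hU.fromSpec p = y := by
    have : y ∈ Set.range hU.fromSpec := by rw [hU.range_fromSpec]; exact hyU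
    exact this
  obtain ⟨A', _, _, _, q, hq, hqp, n, Ψ, hΨ⟩ := exists_etale_split (C := C) hrad p.asIdeal
  haveI : Etale (Spec.map (CommRingCat.ofHom (algebraMap A₀ A'))) := by
    rw [HasRingHomProperty.Spec_iff (P := @Etale), CommRingCat.hom_ofHom, RingHom.etale_algebraMap]
    infer_instance
  let u : Spec (CommRingCat.of A') ⟶ Y := Spec.map (CommRingCat.ofHom (algebraMap A₀ A')) ≫ hU.fromSpec
  haveI : Etale u := inferInstance
  let qm : Spec (CommRingCat.of (Fin n → A')) ⟶ Spec (CommRingCat.of A') :=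
    Spec.map (CommRingCat.ofHom (algebraMap A' (Fin n → A')))
  haveI : IsFinite qm := (IsFinite.SpecMap_iff _).2 (RingHom.finite_algebraMap.2 inferInstance)
  haveI : Etale qm := by
    rw [HasRingHomProperty.Spec_iff (P := @Etale), CommRingCat.hom_ofHom, RingHom.etale_algebraMap]
    infer_instance
  let Ac : FEt.Cat (Spec (CommRingCat.of A')) := MorphismProperty.Over.mk ⊤ qm (prop_of qm)
  -- the three cartesian squares
  have sqP := ((isPullback_tensor (A := A₀) (B := B) (A' := A')).flip.paste_horiz sqB).flip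
  have sqW := (isPullback_SpecMap_of_isPushout _ _ _ _ (isPushout_fun A' (A' ⊗[A₀] B) n).flip).paste_vert sqP
  have eC : Spec.map (v.app (f ⁻¹ᵁ U)) ≫ Spec.map (f.app U) =
      Spec.map (CommRingCat.ofHom (algebraMap A₀ C)) := by
    rw [← Spec.map_comp]
    rfl
  have sqQ := ((isPullback_tensor (A := A₀) (B := C) (A' := A')).flip.paste_horiz
    (eC ▸ sqC.paste_vert sqB)).flip
  let iΨ : Spec (CommRingCat.of (A' ⊗[A₀] C)) ≅ Spec (CommRingCat.of (Fin n → A' ⊗[A₀] B)) :=
    Scheme.Spec.mapIso Ψ.toCommRingCatIso.op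
  let σ := sqW.isoPullback
  let m : pullback (qm ≫ u) f ⟶ V.left :=
    σ.inv ≫ iΨ.inv ≫ Spec.map (CommRingCat.ofHom (Algebra.TensorProduct.includeRight : C →ₐ[A₀] A' ⊗[A₀] C).toRingHom) ≫
      (hB.preimage v).fromSpec
  have e1 : iΨ.hom ≫ Spec.map (CommRingCat.ofHom (Pi.ringHom fun i =>
      (algebraMap A' (A' ⊗[A₀] B)).comp (Pi.evalRingHom (fun _ : Fin n => A') i))) ≫ qm =
      Spec.map (CommRingCat.ofHom (Algebra.TensorProduct.includeLeftRingHom : A' →+* A' ⊗[A₀] C)) := by
    show Spec.map _ ≫ Spec.map _ ≫ Spec.map _ = _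
    rw [← Spec.map_comp, ← Spec.map_comp]
    congr 1
    ext a
    show Ψ (fun _ => algebraMap A' (A' ⊗[A₀] B) a) = a ⊗ₜ (1 : C)
    rw [hΨ]
    simp
  have e2 : iΨ.hom ≫ Spec.map (CommRingCat.ofHom (algebraMap (A' ⊗[A₀] B) (Fin n → A' ⊗[A₀] B))) ≫
      Spec.map (CommRingCat.ofHom (Algebra.TensorProduct.includeRight : B →ₐ[A₀] A' ⊗[A₀] B).toRingHom) =
      Spec.map (CommRingCat.ofHom (Algebra.TensorProduct.includeRight : C →ₐ[A₀] A' ⊗[A₀] C).toRingHom) ≫
        Spec.map (v.app (f ⁻¹ᵁ U)) := by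
    show Spec.map _ ≫ Spec.map _ ≫ Spec.map _ = _
    rw [← Spec.map_comp, ← Spec.map_comp, ← Spec.map_comp]
    congr 1
    ext b
    show Ψ (fun _ => (1 : A') ⊗ₜ[A₀] b) = (1 : A') ⊗ₜ (algebraMap B C b)
    rw [hΨ]
    simp
  refine ⟨Spec (CommRingCat.of A'), u, inferInstance, Ac, m, ⟨⟨q, hq⟩, ?_⟩, ?_, ?_⟩
  · show hU.fromSpec (Spec.map (CommRingCat.ofHom (algebraMap A₀ A')) ⟨q, hq⟩) = y
    rw [← hp]
    congr 1
    exact PrimeSpectrum.ext hqp
  · refine sqQ.of_iso (iΨ ≪≫ σ) (Iso.refl _) (Iso.refl _) (Iso.refl _) ?_ ?_ ?_ ?_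
    · simp only [Iso.refl_hom, Category.comp_id, Iso.trans_hom, Category.assoc, σ]
      refine Eq.trans e1.symm ?_
      show iΨ.hom ≫ _ ≫ qm = iΨ.hom ≫ sqW.isoPullback.hom ≫ pullback.fst _ f ≫ qm
      rw [← Category.assoc sqW.isoPullback.hom]
      congr 2
      exact sqW.isoPullback_hom_fst.symm
    · simp only [Iso.refl_hom, Category.comp_id, Iso.trans_hom, Category.assoc, m, Iso.hom_inv_id_assoc]
    · simp [u]
    · simp
      rfl
  · show (σ.inv ≫ iΨ.inv ≫ _ ≫ _) ≫ v = pullback.snd (qm ≫ u) f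
    simp only [Category.assoc]
    rw [sqC.w, ← reassoc_of% e2, Iso.inv_hom_id_assoc]
    exact sqW.isoPullback_inv_snd

/-- Base change along a universal homeomorphism is an equivalence on finite étale covers. -/
theorem isEquivalence_of_uh : (FEt.restrict f).IsEquivalence := by
  obtain ⟨_, _⟩ := fullyFaithful_of_uh f
  haveI : (FEt.restrict f).EssSurj := ⟨fun V => by
    choose Yi u hu A m hy hm hmv using exists_local_model f V
    haveI : ∀ y, Etale (u y) := hu
    exact exists_restrict_iso u V A m hm hmv (etaleFF_of_uh f) fun y => ⟨y, hy y⟩⟩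
  exact {}

end GrothLib.FEt21
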