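import Groth.Agent.Lib.FEt21.Basic
import Groth.Agent.Lib.EtBasicB.Sections

/-!
# Splitting finite étale covers of constant degree
-/

set_option autoImplicit false
set_option backward.isDefEq.respectTransparency false
set_option linter.style.haveILetI false

universe u

open CategoryTheory CategoryTheory.Limits AlgebraicGeometry TopologicalSpace

namespace GrothLib.FEt21

theorem range_point_subset {Ω : Type u} [Field Ω] {E : Scheme.{u}} (t : Spec (CommRingCat.of Ω) ⟶ E)
    {U : Set E} (h : t default ∈ U) : Set.range t ⊆ U := by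
  rintro _ ⟨z, rfl⟩
  rw [Subsingleton.elim z default]
  exact h

/-- Disjoint full families of sections split a cover. -/
theorem exists_iso_of_sections {E T : Scheme.{u}} (p : E ⟶ T) [IsFinite p] [Etale p] (d : ℕ)
    (hd : ∀ t, p.finrank t = d) (sec : Fin d → (T ⟶ E)) (hsec : ∀ i, sec i ≫ p = 𝟙 T)
    (hdis : ∀ i j, i ≠ j → Disjoint (Set.range (sec i)) (Set.range (sec j))) :
    ∃ e : E ≅ ∐ fun _ : Fin d => T, ∀ i, Sigma.ι (fun _ : Fin d => T) i ≫ e.inv = sec i := by
  haveI : ∀ i, IsOpenImmersion (sec i) := fun i =>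
    GrothLib.EtBasicB.isOpenImmersion_section p _ (hsec i)
  haveI : IsOpenImmersion (Sigma.desc sec) := isOpenImmersion_sigmaDesc _ _ fun i j hij => hdis i j hij
  haveI : Surjective (Sigma.desc sec) := by
    refine ⟨fun x => ?_⟩
    let Z : FEt.Cat T := MorphismProperty.Over.mk ⊤ p (prop_of p)
    let t := geomPt E x
    let ξ := t ≫ p
    let ev : Fin d → FEt.fiberObj ξ Z := fun i =>
      ⟨ξ ≫ sec i, (Category.assoc _ _ _).trans ((congrArg (ξ ≫ ·) (hsec i)).trans (Category.comp_id _))⟩
    have hinj : Function.Injective ev := fun i j h => by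
      by_contra hij
      refine Set.disjoint_left.1 (hdis i j hij) ⟨ξ default, rfl⟩ ⟨ξ default, ?_⟩
      have h' : ξ ≫ sec i = ξ ≫ sec j := congrArg Subtype.val h
      rw [← Scheme.Hom.comp_apply, ← h', Scheme.Hom.comp_apply]
    have hcard : Nat.card (FEt.fiberObj ξ Z) = Nat.card (Fin d) := by
      rw [card_fiber ξ Z, Nat.card_fin]; exact hd _
    obtain ⟨i, hi⟩ := (hinj.bijective_of_nat_card_le hcard.le).2 ⟨t, rfl⟩
    refine ⟨Sigma.ι (fun _ : Fin d => T) i (ξ default), ?_⟩
    have hi' : ξ ≫ sec i = t := congrArg Subtype.val hi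
    rw [← Scheme.Hom.comp_apply, Sigma.ι_desc, ← Scheme.Hom.comp_apply, hi', geomPt_default]
  haveI : Epi (Sigma.desc sec).base := (TopCat.epi_iff_surjective _).2 (Sigma.desc sec).surjective
  haveI : IsIso (Sigma.desc sec) := IsOpenImmersion.isIso _
  exact ⟨(asIso (Sigma.desc sec)).symm, fun i => by simp⟩

/-- Degrees multiply. -/
theorem finrank_comp {Z X S : Scheme.{u}} (ψ : Z ⟶ X) (φ : X ⟶ S) (hψ : FEt.prop ψ) (hφ : FEt.prop φ)
    (m n : ℕ) (hm : ∀ x, ψ.finrank x = m) (hn : ∀ s, φ.finrank s = n) (s : S) :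
    (ψ ≫ φ).finrank s = n * m := by
  let A : FEt.Cat S := MorphismProperty.Over.mk ⊤ φ hφ
  let B : FEt.Cat S := MorphismProperty.Over.mk ⊤ (ψ ≫ φ) (FEt.prop.comp_mem _ _ hψ hφ)
  let h : B ⟶ A := MorphismProperty.Over.homMk ψ rfl
  let ξ := geomPt S s
  haveI := finite_fiber ξ B
  haveI := Fintype.ofFinite (FEt.fiberObj ξ A)
  have hA : Fintype.card (FEt.fiberObj ξ A) = n := by
    rw [← Nat.card_eq_fintype_card, card_fiber ξ A]; exact hn _
  have hB : Nat.card (FEt.fiberObj ξ B) = (ψ ≫ φ).finrank s := by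
    rw [card_fiber ξ B, geomPt_default]; rfl
  let g : FEt.fiberObj ξ B → FEt.fiberObj ξ A := fun b => (FEt.fiber ξ).map h b
  rw [← hB, ← Nat.card_congr (Equiv.sigmaFiberEquiv g), Nat.card_sigma]
  have : ∀ a : FEt.fiberObj ξ A, Nat.card {b // g b = a} = m := fun a => by
    rw [← hm (a.1 default)]
    refine Eq.trans ?_ (finrank_eq_card h ξ a).symm
    exact Nat.card_congr (Equiv.subtypeEquivRight fun b => Subtype.ext_iff)
  rw [Finset.sum_congr rfl fun a _ => this a, Finset.sum_const, Finset.card_univ, smul_eq_mul]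
  exact congrArg (· * m) hA

/-- Every finite étale cover of constant degree is split by a finite étale cover of degree `d!`. -/
theorem exists_splitting : ∀ (d : ℕ) {X S : Scheme.{u}} (φ : X ⟶ S), FEt.prop φ → (∀ s, φ.finrank s = d) →
    ∃ (Y : Scheme.{u}) (ψ : Y ⟶ S), FEt.prop ψ ∧ (∀ s, ψ.finrank s = d.factorial) ∧
      ∃ sec : Fin d → (Y ⟶ pullback φ ψ), (∀ i, sec i ≫ pullback.snd φ ψ = 𝟙 Y) ∧
        ∀ i j, i ≠ j → Disjoint (Set.range (sec i)) (Set.range (sec j))
  | 0, X, S, φ, _, _ => ⟨S, 𝟙 S, FEt.prop.id_mem S,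
      fun s => by rw [Scheme.Hom.finrank_eq_one_of_isIso]; rfl, Fin.elim0, fun i => i.elim0, fun i => i.elim0⟩
  | d + 1, X, S, φ, hφ, hd => by
    haveI := hφ.1
    haveI := hφ.2
    let p₂ := pullback.snd φ φ
    let Δ : X ⟶ pullback φ φ := pullback.lift (𝟙 X) (𝟙 X) rfl
    have hΔ : Δ ≫ p₂ = 𝟙 X := pullback.lift_snd _ _ _
    haveI := GrothLib.EtBasicB.isOpenImmersion_section p₂ Δ hΔ
    have hclopen := GrothLib.EtBasicB.isClopen_range_section p₂ Δ hΔ
    let R : (pullback φ φ).Opens := ⟨(Set.range Δ)ᶜ, hclopen.1.isOpen_compl⟩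
    have hR : IsClosed (R : Set ↥(pullback φ φ)) := hclopen.2.isClosed_compl
    have hp₂ : FEt.prop p₂ := MorphismProperty.pullback_snd _ _ hφ
    have hr : FEt.prop (R.ι ≫ p₂) := FEt.prop.comp_mem _ _ (prop_ι R hR) hp₂
    have hdeg : ∀ x, (R.ι ≫ p₂).finrank x = d := fun x => by
      let ξ := geomPt X x
      let P : FEt.Cat X := MorphismProperty.Over.mk ⊤ p₂ hp₂
      let Q : FEt.Cat X := MorphismProperty.Over.mk ⊤ (R.ι ≫ p₂) hr
      let δ : FEt.fiberObj ξ P :=
        ⟨ξ ≫ Δ, (Category.assoc _ _ _).trans ((congrArg (ξ ≫ ·) hΔ).trans (Category.comp_id _))⟩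
      have hmem : ∀ t : FEt.fiberObj ξ P, t ≠ δ → Set.range t.1 ⊆ Set.range R.ι := fun t ht => by
        rw [Scheme.Opens.range_ι]
        refine range_point_subset t.1 fun hc => ht (Subtype.ext ?_)
        have hl := IsOpenImmersion.lift_fac Δ t.1 (range_point_subset t.1 hc)
        have : IsOpenImmersion.lift Δ t.1 (range_point_subset t.1 hc) = ξ := by
          rw [← Category.comp_id (IsOpenImmersion.lift Δ t.1 _), ← hΔ, ← Category.assoc, hl]
          exact t.2
        rw [this] at hl
        exact hl.symm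
      let eq : FEt.fiberObj ξ Q ≃ {t : FEt.fiberObj ξ P // t ≠ δ} :=
        { toFun := fun q => ⟨⟨q.1 ≫ R.ι, (Category.assoc _ _ _).trans q.2⟩, fun hc => by
            have h1 : (q.1 ≫ R.ι) default = (ξ ≫ Δ) default :=
              congrArg (fun g : Spec _ ⟶ pullback φ φ => g default) (congrArg Subtype.val hc)
            exact (q.1 default).2 ⟨ξ default, h1.symm⟩⟩
          invFun := fun t => ⟨IsOpenImmersion.lift R.ι t.1.1 (hmem t.1 t.2), by
            show _ ≫ R.ι ≫ p₂ = ξ
            rw [IsOpenImmersion.lift_fac_assoc]; exact t.1.2⟩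
          left_inv := fun q => Subtype.ext ((cancel_mono R.ι).1 (IsOpenImmersion.lift_fac _ _ _))
          right_inv := fun t => Subtype.ext (Subtype.ext (IsOpenImmersion.lift_fac _ _ _)) }
      have hP : Nat.card (FEt.fiberObj ξ P) = d + 1 := by
        rw [card_fiber ξ P]; exact (Scheme.Hom.finrank_pullback_snd φ φ _).trans (hd _)
      have hQ : Nat.card (FEt.fiberObj ξ Q) = (R.ι ≫ p₂).finrank x := by
        rw [card_fiber ξ Q, geomPt_default]; rfl
      haveI := finite_fiber ξ P
      haveI := Fintype.ofFinite (FEt.fiberObj ξ P)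
      classical
      rw [← hQ, Nat.card_congr eq, Nat.card_eq_fintype_card, Fintype.card_subtype_compl,
        Fintype.card_subtype_eq, ← Nat.card_eq_fintype_card, hP]
      omega
    obtain ⟨Y, ψ, hψ, hψd, t, ht, htd⟩ := exists_splitting d (R.ι ≫ p₂) hr hdeg
    haveI := hψ.1
    haveI := hψ.2
    refine ⟨Y, ψ ≫ φ, FEt.prop.comp_mem _ _ hψ hφ, fun s => ?_, ?_⟩
    · rw [finrank_comp ψ φ hψ hφ d.factorial (d + 1) hψd hd, Nat.factorial_succ]
    let M : pullback (R.ι ≫ p₂) ψ ⟶ pullback φ (ψ ≫ φ) :=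
      pullback.lift (pullback.fst _ _ ≫ R.ι ≫ pullback.fst φ φ) (pullback.snd _ _) (by
        rw [Category.assoc, Category.assoc, pullback.condition, ← pullback.condition_assoc]
        simp [p₂])
    let m : pullback φ (ψ ≫ φ) ⟶ pullback φ φ :=
      pullback.lift (pullback.fst _ _) (pullback.snd _ _ ≫ ψ) (by rw [Category.assoc, pullback.condition])
    have hMm : M ≫ m = pullback.fst _ _ ≫ R.ι := by
      apply pullback.hom_ext
      · simp [M, m]
      · simp only [M, m, Category.assoc, pullback.lift_snd, pullback.lift_snd_assoc]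
        exact pullback.condition.symm
    haveI : Mono M := ⟨fun a b h => pullback.hom_ext
      ((cancel_mono R.ι).1 (by rw [Category.assoc, Category.assoc, ← hMm, reassoc_of% h]))
      (by simpa [M] using congrArg (· ≫ pullback.snd _ _) h)⟩
    let q := pullback.snd φ (ψ ≫ φ)
    have hMq : M ≫ q = pullback.snd _ _ := pullback.lift_snd _ _ _
    haveI : Etale (M ≫ q) := by rw [hMq]; infer_instance
    haveI : Etale M := Etale.of_comp M q
    haveI : IsOpenImmersion M := IsOpenImmersion.of_flat_of_mono M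
    let s0 : Y ⟶ pullback φ (ψ ≫ φ) := pullback.lift ψ (𝟙 Y) (Category.id_comp _).symm
    have hs0 : s0 ≫ m = ψ ≫ Δ := by apply pullback.hom_ext <;> simp [s0, m, Δ]; exact Category.id_comp ψ
    refine ⟨Fin.cons s0 (fun i => t i ≫ M), fun i => ?_, fun i j hij => ?_⟩
    · induction i using Fin.cases with
      | zero => rw [Fin.cons_zero]; exact pullback.lift_snd _ _ _
      | succ i => rw [Fin.cons_succ, Category.assoc, hMq, ht i]
    · have h0 : ∀ i, Disjoint (Set.range s0) (Set.range (t i ≫ M)) := fun i => by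
        refine Set.disjoint_left.2 ?_
        rintro _ ⟨y, rfl⟩ ⟨y', h⟩
        have h1 := congrArg m h
        rw [← Scheme.Hom.comp_apply, ← Scheme.Hom.comp_apply, hs0, Category.assoc, hMm] at h1
        exact (pullback.fst (R.ι ≫ p₂) ψ (t i y')).2 ⟨ψ y, h1.symm⟩
      induction i using Fin.cases with
      | zero =>
        induction j using Fin.cases with
        | zero => exact absurd rfl hij
        | succ j => rw [Fin.cons_zero, Fin.cons_succ]; exact h0 j
      | succ i =>
        induction j using Fin.cases with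
        | zero => rw [Fin.cons_zero, Fin.cons_succ]; exact (h0 i).symm
        | succ j =>
          rw [Fin.cons_succ, Fin.cons_succ, Scheme.Hom.comp_base, Scheme.Hom.comp_base, TopCat.coe_comp,
            TopCat.coe_comp, Set.range_comp, Set.range_comp]
          exact Set.disjoint_image_of_injective M.isOpenEmbedding.injective
            (htd i j fun h => hij (congrArg Fin.succ h))

end GrothLib.FEt21
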