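import Groth.Agent.Lib.FEt21.Degree

/-!
# Finite locally free morphisms have locally free direct image
-/

set_option autoImplicit false
set_option backward.isDefEq.respectTransparency false
set_option linter.all false

universe u

open CategoryTheory CategoryTheory.Limits AlgebraicGeometry TopologicalSpace Opposite TensorProduct

namespace GrothLib.FEt21

variable {X Y : Scheme.{u}} (f : X ⟶ Y)

set_option maxHeartbeats 1000000 in
/-- A finite flat morphism of finite presentation has locally free direct image. -/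
theorem isFinLocFree_pushforward_structure [IsFinite f] [Flat f] [LocallyOfFinitePresentation f] :
    FlatMod.IsFinLocFree ((Scheme.Modules.pushforward f).obj (Coh.structureModule X)) := by
  classical
  intro y
  obtain ⟨W, hW, hyW, hfree⟩ := exists_free_affine f y
  letI := (f.app W).hom.toAlgebra
  haveI := hfree
  haveI : Module.Finite Γ(Y, W) Γ(X, f ⁻¹ᵁ W) := f.finite_app W hW
  haveI : Nontrivial Γ(Y, W) := PrimeSpectrum.nonempty_iff_nontrivial.1 ⟨hW.primeIdealOf ⟨y, hyW⟩⟩
  let n := Module.finrank Γ(Y, W) Γ(X, f ⁻¹ᵁ W)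
  let b : Module.Basis (Fin n) Γ(Y, W) Γ(X, f ⁻¹ᵁ W) := Module.finBasis _ _
  let M := (Scheme.Modules.pushforward f).obj (Coh.structureModule X)
  let e : Fin n → Γ(M, W) := fun i => b i
  refine ⟨W, n, hyW, ?_⟩
  let R := M.restrict W.ι
  have heW : W.ι ''ᵁ ⊤ ≤ W := by simp [Scheme.Opens.ι_image_top]
  let Φ : FlatMod.freeMod (↑W) n ⟶ R :=
    Sigma.desc fun i => GrothLib.FinCov.homOfSection (M.presheaf.map (homOfLE heW).op (e i))
  suffices IsIso Φ from ⟨(asIso Φ).symm⟩
  refine GrothLib.UnitsThick26.isIso_of_bijective_affine Φ fun O hO => ?_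
  let V : Y.Opens := W.ι ''ᵁ O
  have hV : IsAffineOpen V := hO.image_of_isOpenImmersion W.ι
  have hVW : V ≤ W := (Scheme.Hom.image_mono _ (le_top : O ≤ ⊤)).trans heW
  let F := FlatMod.freeMod (↑W) n
  let ιm : ∀ _ : Fin n, Coh.structureModule (↑W) ⟶ F := fun i =>
    Sigma.ι (fun _ : Fin n => Coh.structureModule (↑W)) i
  let C : Γ(F, O) → (Fin n → Γ(↑W, O)) := fun x i => (GrothLib.FinCov.proj _ n i).app O x
  have hC : Function.Bijective C := by
    refine Function.bijective_iff_has_inverse.2 ⟨fun c => ∑ i, (ιm i).app O (c i), fun x => ?_,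
      fun c => funext fun j => ?_⟩
    · show ∑ i, (GrothLib.FinCov.proj _ n i ≫ ιm i).app O x = x
      rw [← GrothLib.FinCov.sum_app, GrothLib.FinCov.sum_proj_ι]; rfl
    · show (GrothLib.FinCov.proj _ n j).app O (∑ i, (ιm i).app O (c i)) = c j
      rw [map_sum, Finset.sum_eq_single j]
      · show (ιm j ≫ GrothLib.FinCov.proj _ n j).app O (c j) = c j
        rw [GrothLib.FinCov.ι_proj, if_pos rfl]; rfl
      · intro i _ hi
        show (ιm i ≫ GrothLib.FinCov.proj _ n j).app O (c i) = 0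
        rw [GrothLib.FinCov.ι_proj, if_neg hi]; rfl
      · simp
  have hΦ : ∀ x, Φ.app O x = ∑ i, (show Γ(Y, V) from C x i) • M.presheaf.map (homOfLE hVW).op (e i) := by
    intro x
    have hx : x = ∑ i, (GrothLib.FinCov.proj _ n i ≫ ιm i).app O x := by
      rw [← GrothLib.FinCov.sum_app, GrothLib.FinCov.sum_proj_ι]; rfl
    conv_lhs => rw [hx]
    rw [map_sum]
    refine Finset.sum_congr rfl fun i _ => ?_
    have h1 : Φ.app O ((GrothLib.FinCov.proj _ n i ≫ ιm i).app O x) =
        (GrothLib.FinCov.homOfSection (M.presheaf.map (homOfLE heW).op (e i))).app O (C x i) := by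
      show ((GrothLib.FinCov.proj _ n i ≫ ιm i) ≫ Φ).app O x = _
      simp only [Φ, ιm, Category.assoc, Sigma.ι_desc]
      rfl
    rw [h1, ← GrothLib.FinCov.smul_one O (C x i), Scheme.Modules.Hom.app_smul,
      GrothLib.FinCov.homOfSection_one]
    show ((W.ι.appIso O).inv (C x i)) • (show Γ(M, V) from M.presheaf.map _ _) = _
    rw [Scheme.Opens.ι_appIso]
    congr 1
    · exact (GrothLib.FinCov.smul_one O (C x i)).symm
    · show M.presheaf.map _ (M.presheaf.map _ (e i)) = _
      rw [← ConcreteCategory.comp_apply, ← Functor.map_comp]; rfl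
  letI := (f.app V).hom.toAlgebra
  letI : Algebra Γ(Y, W) Γ(Y, V) := (Y.presheaf.map (homOfLE hVW).op).hom.toAlgebra
  letI : Algebra Γ(X, f ⁻¹ᵁ W) Γ(X, f ⁻¹ᵁ V) :=
    (X.presheaf.map (homOfLE (f.preimage_mono hVW)).op).hom.toAlgebra
  letI : Algebra Γ(Y, W) Γ(X, f ⁻¹ᵁ V) := ((Y.presheaf.map (homOfLE hVW).op) ≫ f.app V).hom.toAlgebra
  haveI : IsScalarTower Γ(Y, W) Γ(Y, V) Γ(X, f ⁻¹ᵁ V) := IsScalarTower.of_algebraMap_eq' rfl
  haveI : IsScalarTower Γ(Y, W) Γ(X, f ⁻¹ᵁ W) Γ(X, f ⁻¹ᵁ V) := IsScalarTower.of_algebraMap_eq' (by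
    exact congrArg CommRingCat.Hom.hom (isPushout_app f hW hV hVW).w.symm)
  haveI hpo : Algebra.IsPushout Γ(Y, W) Γ(Y, V) Γ(X, f ⁻¹ᵁ W) Γ(X, f ⁻¹ᵁ V) :=
    CommRingCat.isPushout_iff_isPushout.mp (isPushout_app f hW hV hVW).flip
  let bV : Module.Basis (Fin n) Γ(Y, V) Γ(X, f ⁻¹ᵁ V) := hpo.out.basis b
  have hbV : ∀ i, bV i = X.presheaf.map (homOfLE (f.preimage_mono hVW)).op (b i) := fun i =>
    hpo.out.basis_apply b i
  have hbij : Function.Bijective fun c : Fin n → Γ(Y, V) => ∑ i, c i • bV i := by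
    refine Eq.mpr (congrArg Function.Bijective (funext fun c => ?_)) bV.equivFun.symm.bijective
    exact (bV.equivFun_symm_apply c).symm
  refine Eq.mpr (congrArg Function.Bijective (funext hΦ)) ?_
  refine Eq.mpr (congrArg Function.Bijective (funext fun x => ?_)) (hbij.comp hC)
  exact Finset.sum_congr rfl fun i _ => by rw [hbV]; rfl

end GrothLib.FEt21
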