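import Groth.Prelude.Def_FEt
import Mathlib.CategoryTheory.Limits.MorphismProperty
import Mathlib.AlgebraicGeometry.Morphisms.FlatRank
import Mathlib.AlgebraicGeometry.Morphisms.Proper
import Mathlib.RingTheory.TotallySplit
import Mathlib.FieldTheory.IsAlgClosed.AlgebraicClosure

/-!
# Finite étale covers: geometric fibres

Cancellation, limits, the number of geometric points and the fibrewise criterion for isomorphisms.
-/

set_option autoImplicit false

universe u

open CategoryTheory CategoryTheory.Limits AlgebraicGeometry TopologicalSpace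

namespace GrothLib.FEt21

theorem prop_of_comp {X Y Z : Scheme.{u}} (f : X ⟶ Y) (g : Y ⟶ Z) (hg : FEt.prop g)
    (hfg : FEt.prop (f ≫ g)) : FEt.prop f := by
  have := hg.1; have := hg.2; have := hfg.1; have := hfg.2
  exact ⟨IsFinite.of_comp f g, Etale.of_comp f g⟩

instance : FEt.prop.{u}.HasOfPostcompProperty FEt.prop.{u} where
  of_postcomp f g hg hfg := prop_of_comp f g hg hfg

theorem prop_of {X Y : Scheme.{u}} (f : X ⟶ Y) [IsFinite f] [Etale f] : FEt.prop f :=
  ⟨inferInstance, inferInstance⟩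

variable {X : Scheme.{u}}

instance isFinite_hom (Y : FEt.Cat X) : IsFinite Y.hom := Y.prop.1
instance etale_hom (Y : FEt.Cat X) : Etale Y.hom := Y.prop.2

theorem prop_left {Y Y' : FEt.Cat X} (φ : Y ⟶ Y') : FEt.prop φ.left :=
  prop_of_comp φ.left Y'.hom Y'.prop (by rw [Over.w φ.hom]; exact Y.prop)

/-- A finite étale cover of a cover, as a cover. -/
noncomputable def mkOf {Z : Scheme.{u}} (Y : FEt.Cat X) (f : Z ⟶ Y.left) (hf : FEt.prop f) :
    FEt.Cat X :=
  MorphismProperty.Over.mk ⊤ (f ≫ Y.hom) (FEt.prop.comp_mem _ _ hf Y.prop)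

/-- The inclusion of a clopen subscheme is finite étale. -/
theorem prop_ι {Y : Scheme.{u}} (W : Y.Opens) (hW : IsClosed (W : Set Y)) : FEt.prop W.ι := by
  have : IsClosedImmersion W.ι := IsClosedImmersion.of_isPreimmersion _ (by simpa using hW)
  exact prop_of W.ι

section Points

variable {Ω : Type u} [Field Ω] (ξ : Spec (CommRingCat.of Ω) ⟶ X)

theorem fiber_map_val {Y Y' : FEt.Cat X} (φ : Y ⟶ Y') (s : FEt.fiberObj ξ Y) :
    (((FEt.fiber ξ).map φ) s : FEt.fiberObj ξ Y').1 = s.1 ≫ φ.left := rfl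

/-- The fibre is computed by a finite étale algebra over the field. -/
theorem exists_alg (Y : FEt.Cat X) :
    ∃ (B : Type u) (_ : CommRing B) (_ : Algebra Ω B) (_ : Algebra.Etale Ω B)
      (_ : Module.Finite Ω B),
      Module.finrank Ω B = Y.hom.finrank (ξ default) ∧
        Nonempty (FEt.fiberObj ξ Y ≃ (B →ₐ[Ω] Ω)) := by
  let P := pullback Y.hom ξ
  let snd' : P ⟶ Spec (CommRingCat.of Ω) := pullback.snd Y.hom ξ
  have : IsAffine P := isAffine_of_isAffineHom snd'
  obtain ⟨φ, hφ⟩ := Spec.map_surjective (P.isoSpec.inv ≫ snd')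
  have h1 : IsFinite (Spec.map φ) := by rw [hφ]; infer_instance
  have h2 : Etale (Spec.map φ) := by rw [hφ]; infer_instance
  rw [IsFinite.SpecMap_iff] at h1
  rw [HasRingHomProperty.Spec_iff (P := @Etale)] at h2
  algebraize [φ.hom]
  refine ⟨Γ(P, ⊤), inferInstance, inferInstance, inferInstance, inferInstance, ?_, ⟨?_⟩⟩
  · have := Scheme.Hom.finrank_SpecMap_algebraMap Ω Γ(P, ⊤) default
    rw [show CommRingCat.ofHom (algebraMap Ω Γ(P, ⊤)) = φ from rfl] at this
    rw [hφ, Scheme.Hom.finrank_comp_left_of_isIso, Scheme.Hom.finrank_pullback_snd] at this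
    exact ((congr_fun (Module.rankAtStalk_eq_finrank_of_free (R := Ω) (M := Γ(P, ⊤))) default).symm.trans
      this.symm).trans (congrArg (fun x => Y.hom.finrank (ξ x)) (Subsingleton.elim _ _))
  · let e1 : FEt.fiberObj ξ Y ≃ {s : Spec (CommRingCat.of Ω) ⟶ P // s ≫ snd' = 𝟙 _} :=
      { toFun := fun s => ⟨pullback.lift s.1 (𝟙 _) (by rw [s.2, Category.id_comp]),
          pullback.lift_snd _ _ _⟩
        invFun := fun t => ⟨t.1 ≫ pullback.fst Y.hom ξ, by
          rw [Category.assoc, pullback.condition, ← Category.assoc, t.2, Category.id_comp]⟩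
        left_inv := fun s => Subtype.ext (pullback.lift_fst _ _ _)
        right_inv := fun t => Subtype.ext (pullback.hom_ext (pullback.lift_fst _ _ _)
          ((pullback.lift_snd _ _ _).trans t.2.symm)) }
    let e2 : {s : Spec (CommRingCat.of Ω) ⟶ P // s ≫ snd' = 𝟙 _} ≃
        {g : Γ(P, ⊤) ⟶ CommRingCat.of Ω // φ ≫ g = 𝟙 _} :=
      ((Iso.homToEquiv P.isoSpec).trans Spec.homEquiv).subtypeEquiv fun s => by
        constructor
        · intro hs
          apply Spec.map_injective
          rw [Spec.map_comp, Spec.map_id]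
          change Spec.map (Spec.preimage (s ≫ P.isoSpec.hom)) ≫ Spec.map φ = _
          rw [Spec.map_preimage, hφ]
          simpa using hs
        · intro hs
          have := congr_arg Spec.map hs
          rw [Spec.map_comp, Spec.map_id] at this
          change Spec.map (Spec.preimage (s ≫ P.isoSpec.hom)) ≫ Spec.map φ = _ at this
          rw [Spec.map_preimage, hφ] at this
          simpa using this
    let e3 : {g : Γ(P, ⊤) ⟶ CommRingCat.of Ω // φ ≫ g = 𝟙 _} ≃ (Γ(P, ⊤) →ₐ[Ω] Ω) :=
      { toFun := fun g => { g.1.hom with commutes' := fun x => congr($(g.2).hom x) }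
        invFun := fun g => ⟨CommRingCat.ofHom g.toRingHom, CommRingCat.hom_ext (RingHom.ext g.commutes)⟩
        left_inv := fun g => rfl
        right_inv := fun g => rfl }
    exact e1.trans (e2.trans e3)

theorem finite_fiber (Y : FEt.Cat X) : Finite (FEt.fiberObj ξ Y) := by
  obtain ⟨B, _, _, _, _, -, ⟨e⟩⟩ := exists_alg ξ Y
  have : IsArtinianRing (TensorProduct Ω (AlgebraicClosure Ω) B) :=
    isArtinian_of_tower (AlgebraicClosure Ω) inferInstance
  have : Finite (B →ₐ[Ω] AlgebraicClosure Ω) :=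
    Finite.of_equiv _ ((Algebra.IsFiniteSplit.algHomEquivPrimeSpectrum (AlgebraicClosure Ω)
      (TensorProduct Ω (AlgebraicClosure Ω) B)).symm.trans
      (Algebra.TensorProduct.liftEquivRight Ω (AlgebraicClosure Ω) B (AlgebraicClosure Ω)).symm)
  have : Finite (B →ₐ[Ω] Ω) := Finite.of_injective
    (fun g => (Algebra.ofId Ω (AlgebraicClosure Ω)).comp g) fun g g' h => AlgHom.ext fun x =>
      (algebraMap Ω (AlgebraicClosure Ω)).injective congr($h x)
  exact Finite.of_equiv _ e.symm

instance finite_fiberObj (Y : FEt.Cat X) : Finite (FEt.fiberObj ξ Y) := finite_fiber ξ Y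

/-- The number of geometric points is the degree. -/
theorem card_fiber [IsAlgClosed Ω] (Y : FEt.Cat X) :
    Nat.card (FEt.fiberObj ξ Y) = Y.hom.finrank (ξ default) := by
  obtain ⟨B, _, _, _, _, hB, ⟨e⟩⟩ := exists_alg ξ Y
  obtain ⟨n, ⟨i⟩⟩ := Algebra.IsFiniteSplit.nonempty_algEquiv_fun Ω B
  rw [← hB, i.toLinearEquiv.finrank_eq, Module.finrank_fin_fun, Nat.card_congr e,
    Nat.card_congr (Algebra.IsFiniteSplit.algHomEquivPrimeSpectrum Ω B),
    Nat.card_congr (PrimeSpectrum.comapEquiv i.toRingEquiv).toEquiv,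
    Nat.card_congr (PrimeSpectrum.sigmaToPiHomeo fun _ : Fin n => Ω).symm.toEquiv]
  simp

end Points

/-- The geometric point attached to a point of a scheme. -/
noncomputable def geomPt (Y : Scheme.{u}) (y : Y) :
    Spec (CommRingCat.of (AlgebraicClosure (Y.residueField y))) ⟶ Y :=
  Spec.map (CommRingCat.ofHom (algebraMap (Y.residueField y) (AlgebraicClosure (Y.residueField y)))) ≫
    Y.fromSpecResidueField y

@[simp]
theorem geomPt_default (Y : Scheme.{u}) (y : Y) : geomPt Y y default = y := by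
  exact Scheme.fromSpecResidueField_apply y _

/-- The degree of a morphism of covers is computed by geometric points. -/
theorem finrank_eq_card {Y Y' : FEt.Cat X} (φ : Y ⟶ Y') {Ω : Type u} [Field Ω] [IsAlgClosed Ω]
    (ξ : Spec (CommRingCat.of Ω) ⟶ X) (s' : FEt.fiberObj ξ Y') :
    φ.left.finrank (s'.1 default) = Nat.card {s : FEt.fiberObj ξ Y // s.1 ≫ φ.left = s'.1} := by
  let Z : FEt.Cat Y'.left := MorphismProperty.Over.mk ⊤ φ.left (prop_left φ)
  refine (card_fiber s'.1 Z).symm.trans (Nat.card_congr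
    { toFun := fun t => ⟨⟨t.1, by
        exact ((congrArg (t.1 ≫ ·) (Over.w φ.hom).symm).trans (Category.assoc _ _ _).symm).trans
          ((congrArg (· ≫ Y'.hom) t.2).trans s'.2)⟩, t.2⟩
      invFun := fun t => ⟨t.1.1, t.2⟩
      left_inv := fun _ => rfl
      right_inv := fun _ => rfl })

theorem finrank_eq_one_of_bijective {Y Y' : FEt.Cat X} (φ : Y ⟶ Y') {Ω : Type u} [Field Ω]
    [IsAlgClosed Ω] (ξ : Spec (CommRingCat.of Ω) ⟶ X)
    (h : Function.Bijective ((FEt.fiber ξ).map φ)) (s' : FEt.fiberObj ξ Y') :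
    φ.left.finrank (s'.1 default) = 1 := by
  rw [finrank_eq_card φ ξ s', Nat.card_eq_one_iff_unique]
  obtain ⟨s, hs⟩ := h.2 s'
  refine ⟨⟨fun a b => Subtype.ext (h.1 (Subtype.ext ?_))⟩, ⟨⟨s, congr_arg Subtype.val hs⟩⟩⟩
  exact a.2.trans b.2.symm

theorem isIso_of_finrank {Y Y' : FEt.Cat X} (φ : Y ⟶ Y') (h : ∀ y, φ.left.finrank y = 1) :
    IsIso φ := by
  have := (prop_left φ).1
  have := (prop_left φ).2
  have : IsIso φ.left := (Scheme.Hom.isIso_iff_finrank_eq φ.left).2 (funext h)
  have : IsIso ((MorphismProperty.Over.forget FEt.prop ⊤ X).map φ) := by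
    have : IsIso ((CategoryTheory.Over.forget X).map
      ((MorphismProperty.Over.forget FEt.prop ⊤ X).map φ)) := this
    exact isIso_of_reflects_iso _ (CategoryTheory.Over.forget X)
  exact isIso_of_reflects_iso _ (MorphismProperty.Over.forget FEt.prop ⊤ X)

/-- A morphism bijective on all geometric fibres is an isomorphism. -/
theorem isIso_of_bijective {Y Y' : FEt.Cat X} (φ : Y ⟶ Y')
    (h : ∀ (Ω : Type u) [Field Ω] [IsAlgClosed Ω] (ξ : Spec (CommRingCat.of Ω) ⟶ X),
      Function.Bijective ((FEt.fiber ξ).map φ)) : IsIso φ := by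
  refine isIso_of_finrank φ fun y => ?_
  have := finrank_eq_one_of_bijective φ (geomPt Y'.left y ≫ Y'.hom) (h _ _) ⟨geomPt Y'.left y, rfl⟩
  simpa using this

theorem finrank_const [PreconnectedSpace X] (Y : FEt.Cat X) (x x' : X) :
    Y.hom.finrank x = Y.hom.finrank x' :=
  letI : PreconnectedSpace ((Functor.fromPUnit X).obj Y.right) := ‹PreconnectedSpace X›
  (Scheme.Hom.isLocallyConstant_finrank Y.hom).apply_eq_of_preconnectedSpace x x'

/-- Over a connected base a nonempty cover has points in every geometric fibre. -/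
theorem nonempty_fiber [PreconnectedSpace X] {Ω : Type u} [Field Ω] [IsAlgClosed Ω]
    (ξ : Spec (CommRingCat.of Ω) ⟶ X) (Y : FEt.Cat X) (y : Y.left) :
    Nonempty (FEt.fiberObj ξ Y) := by
  have h := card_fiber ξ Y
  rw [finrank_const Y _ (Y.hom y)] at h
  have := Scheme.Hom.one_le_finrank_map Y.hom y
  exact (Nat.card_pos_iff.1 (by omega)).1

/-- Over a connected base a morphism bijective on one geometric fibre is an isomorphism. -/
theorem isIso_of_bijective_connected [PreconnectedSpace X] {Y Y' : FEt.Cat X} (φ : Y ⟶ Y')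
    {Ω : Type u} [Field Ω] [IsAlgClosed Ω] (ξ : Spec (CommRingCat.of Ω) ⟶ X)
    (h : Function.Bijective ((FEt.fiber ξ).map φ)) : IsIso φ := by
  have := (prop_left φ).1
  have := (prop_left φ).2
  refine isIso_of_finrank φ fun y => ?_
  by_contra hy
  have hlc := Scheme.Hom.isLocallyConstant_finrank φ.left
  let W : Y'.left.Opens := ⟨{z | φ.left.finrank z ≠ 1}, hlc {n | n ≠ 1}⟩
  have hW : IsClosed (W : Set Y'.left) := ⟨hlc {n | ¬ n ≠ 1}⟩
  obtain ⟨t⟩ := nonempty_fiber ξ (mkOf Y' W.ι (prop_ι W hW)) ⟨y, hy⟩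
  have := finrank_eq_one_of_bijective φ ξ h ⟨t.1 ≫ W.ι, (Category.assoc _ _ _).trans t.2⟩
  exact (show φ.left.finrank (W.ι (t.1 default)) ≠ 1 from (t.1 default).2) this

end GrothLib.FEt21
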