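import Groth.Agent.Lib.FEt21.Coeq
import Mathlib.CategoryTheory.Limits.Types.Coproducts
import Mathlib.CategoryTheory.Limits.Constructions.FiniteProductsOfBinaryProducts
import Mathlib.CategoryTheory.Limits.Constructions.LimitsOfProductsAndEqualizers
import Mathlib.CategoryTheory.Limits.Preserves.Shapes.BinaryProducts
import Mathlib.CategoryTheory.Limits.Preserves.Shapes.Equalizers
import Mathlib.CategoryTheory.Limits.Preserves.Shapes.Terminal
import Mathlib.CategoryTheory.Limits.Yoneda
import Mathlib.CategoryTheory.Limits.Preserves.Finite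

/-!
# Finite limits and colimits of finite étale covers

They exist, and the geometric fibre functors preserve them.
-/

set_option autoImplicit false
set_option backward.isDefEq.respectTransparency false

universe u

open CategoryTheory CategoryTheory.Limits AlgebraicGeometry Opposite

namespace GrothLib.FEt21

variable {X : Scheme.{u}}

/-- The empty cover. -/
noncomputable def emptyCover (X : Scheme.{u}) : FEt.Cat X :=
  MorphismProperty.Over.mk ⊤ (Scheme.emptyTo X) (by
    have : IsClosedImmersion (Scheme.emptyTo X) :=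
      IsClosedImmersion.of_isPreimmersion _ (by simp [Set.range_eq_empty])
    exact prop_of _)

noncomputable def emptyCoverIsInitial : IsInitial (emptyCover X) :=
  IsInitial.ofUniqueHom
    (fun Z => MorphismProperty.Over.homMk (Scheme.emptyTo Z.left) (Scheme.empty_ext _ _))
    (fun Z m => MorphismProperty.Over.Hom.ext (Scheme.empty_ext _ _))

/-- The disjoint union of two covers. -/
noncomputable def sumCover (Y Y' : FEt.Cat X) : FEt.Cat X :=
  MorphismProperty.Over.mk ⊤ (coprod.desc Y.hom Y'.hom) (by
    have h : ∀ i, Etale ((coprodOpenCover.{u, 0} Y.left Y'.left).f i ≫ coprod.desc Y.hom Y'.hom) := by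
      rintro (i | i)
      · change Etale (coprod.inl ≫ coprod.desc Y.hom Y'.hom)
        rw [coprod.inl_desc]; infer_instance
      · change Etale (coprod.inr ≫ coprod.desc Y.hom Y'.hom)
        rw [coprod.inr_desc]; infer_instance
    exact ⟨inferInstance,
      (IsZariskiLocalAtSource.iff_of_openCover (coprodOpenCover.{u, 0} Y.left Y'.left)).2 h⟩)

noncomputable def sumCofan (Y Y' : FEt.Cat X) : BinaryCofan Y Y' :=
  BinaryCofan.mk (P := sumCover Y Y')
    (MorphismProperty.Over.homMk coprod.inl (coprod.inl_desc _ _))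
    (MorphismProperty.Over.homMk coprod.inr (coprod.inr_desc _ _))

noncomputable def sumCofanIsColimit (Y Y' : FEt.Cat X) : IsColimit (sumCofan Y Y') :=
  BinaryCofan.isColimitMk
    (fun s => MorphismProperty.Over.homMk (coprod.desc s.inl.left s.inr.left) (by
      refine coprod.hom_ext ?_ ?_
      · rw [coprod.inl_desc_assoc]; exact (Over.w s.inl.hom).trans (coprod.inl_desc _ _).symm
      · rw [coprod.inr_desc_assoc]; exact (Over.w s.inr.hom).trans (coprod.inr_desc _ _).symm))
    (fun s => MorphismProperty.Over.Hom.ext (coprod.inl_desc _ _))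
    (fun s => MorphismProperty.Over.Hom.ext (coprod.inr_desc _ _))
    (fun s m h₁ h₂ => MorphismProperty.Over.Hom.ext (coprod.hom_ext
      ((congr_arg (fun t => t.left) h₁).trans (coprod.inl_desc _ _).symm)
      ((congr_arg (fun t => t.left) h₂).trans (coprod.inr_desc _ _).symm)))

instance : HasInitial (FEt.Cat X) := emptyCoverIsInitial.hasInitial

instance : HasBinaryCoproducts (FEt.Cat X) :=
  haveI : ∀ {Y Y' : FEt.Cat X}, HasColimit (pair Y Y') := fun {Y Y'} =>
    HasColimit.mk ⟨_, sumCofanIsColimit Y Y'⟩
  hasBinaryCoproducts_of_hasColimit_pair _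

instance : HasFiniteCoproducts (FEt.Cat X) := hasFiniteCoproducts_of_has_binary_and_initial

instance : HasCoequalizers (FEt.Cat X) :=
  haveI : ∀ {Y' Y : FEt.Cat X} {u v : Y' ⟶ Y}, HasColimit (parallelPair u v) := fun {_ _ u v} => by
    obtain ⟨Z, q, w, ⟨h⟩, -⟩ := exists_isColimit_cofork u v
    exact HasColimit.mk ⟨_, h⟩
  hasCoequalizers_of_hasColimit_parallelPair _

theorem hasFiniteColimits : HasFiniteColimits (FEt.Cat X) :=
  hasFiniteColimits_of_hasCoequalizers_and_finite_coproducts

section Fibre

variable {Ω : Type u} [Field Ω] (ξ : Spec (CommRingCat.of Ω) ⟶ X)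

theorem isEmpty_fiber_emptyCover : IsEmpty (FEt.fiberObj ξ (emptyCover X)) :=
  ⟨fun s => isEmptyElim (α := (∅ : Scheme.{u})) (s.1 default)⟩

theorem sumCofan_fiber (Y Y' : FEt.Cat X) :
    Nonempty (IsColimit (BinaryCofan.mk ((FEt.fiber ξ).map (sumCofan Y Y').inl)
      ((FEt.fiber ξ).map (sumCofan Y Y').inr))) := by
  refine (Types.binaryCofan_isColimit_iff _).2 ⟨fun a b h => ?_, fun a b h => ?_, ?_⟩
  · exact Subtype.ext ((cancel_mono (coprod.inl : Y.left ⟶ Y.left ⨿ Y'.left)).1
      (congr_arg Subtype.val h))
  · exact Subtype.ext ((cancel_mono (coprod.inr : Y'.left ⟶ Y.left ⨿ Y'.left)).1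
      (congr_arg Subtype.val h))
  · refine isCompl_iff.2 ⟨Set.disjoint_left.2 ?_, ?_⟩
    · rintro t ⟨a, rfl⟩ ⟨b, hb⟩
      exact inl_ne_inr Y.left Y'.left (a.1 default) (b.1 default)
        (congr_arg (fun t : FEt.fiberObj ξ (sumCover Y Y') => t.1 default) hb).symm
    · refine codisjoint_iff.2 (Set.eq_univ_of_forall fun t => ?_)
      rcases le_or_lt_of_compl (t.1 default) with h | h
      · refine Or.inl ⟨⟨IsOpenImmersion.lift coprod.inl t.1 (range_subset t.1 h), ?_⟩,
          Subtype.ext (IsOpenImmersion.lift_fac _ _ _)⟩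
        change IsOpenImmersion.lift coprod.inl t.1 _ ≫ Y.hom = ξ
        refine (congrArg (_ ≫ ·) (coprod.inl_desc Y.hom Y'.hom).symm).trans
          ((IsOpenImmersion.lift_fac_assoc _ _ _ _).trans t.2)
      · refine Or.inr ⟨⟨IsOpenImmersion.lift coprod.inr t.1 (range_subset t.1 h), ?_⟩,
          Subtype.ext (IsOpenImmersion.lift_fac _ _ _)⟩
        change IsOpenImmersion.lift coprod.inr t.1 _ ≫ Y'.hom = ξ
        refine (congrArg (_ ≫ ·) (coprod.inr_desc Y.hom Y'.hom).symm).trans
          ((IsOpenImmersion.lift_fac_assoc _ _ _ _).trans t.2)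
where
  le_or_lt_of_compl {A B : Scheme.{u}} (p : (A ⨿ B : Scheme.{u})) :
      p ∈ Set.range (coprod.inl : A ⟶ A ⨿ B) ∨ p ∈ Set.range (coprod.inr : B ⟶ A ⨿ B) := by
    exact (isCompl_range_inl_inr A B).codisjoint.top_le (Set.mem_univ p)
  range_subset {A B : Scheme.{u}} {K : Type u} [Field K] {j : A ⟶ B}
      (t : Spec (CommRingCat.of K) ⟶ B) (h : t default ∈ Set.range j) :
      Set.range t ⊆ Set.range j := by
    rintro _ ⟨z, rfl⟩
    rwa [Subsingleton.elim z default]

theorem fiber_preserves_initial :
    PreservesColimitsOfShape (Discrete.{0} PEmpty) (FEt.fiber ξ) := by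
  have := isEmpty_fiber_emptyCover ξ
  have : PreservesColimit (Functor.empty.{0} (FEt.Cat X)) (FEt.fiber ξ) :=
    preservesColimit_of_preserves_colimit_cocone emptyCoverIsInitial
      ((isColimitMapCoconeEmptyCoconeEquiv _ _).symm
        ((Types.initial_iff_empty _).2 (isEmpty_fiber_emptyCover ξ)).some)
  exact preservesColimitsOfShape_pempty_of_preservesInitial _

theorem fiber_preserves_binary :
    PreservesColimitsOfShape (Discrete WalkingPair) (FEt.fiber ξ) where
  preservesColimit {K} := by
    have : PreservesColimit (pair (K.obj ⟨WalkingPair.left⟩) (K.obj ⟨WalkingPair.right⟩))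
        (FEt.fiber ξ) :=
      preservesColimit_of_preserves_colimit_cocone (sumCofanIsColimit _ _)
        ((isColimitMapCoconeBinaryCofanEquiv _ _ _).symm (sumCofan_fiber ξ _ _).some)
    exact preservesColimit_of_iso_diagram _ (diagramIsoPair K).symm

theorem fiber_preserves_finiteCoproducts : PreservesFiniteCoproducts (FEt.fiber ξ) :=
  haveI := fiber_preserves_initial ξ
  haveI := fiber_preserves_binary ξ
  ⟨fun _ => PreservesFiniteCoproducts.of_preserves_binary_and_initial _ _⟩

variable [IsAlgClosed Ω]

theorem fiber_preserves_coequalizers :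
    PreservesColimitsOfShape WalkingParallelPair (FEt.fiber ξ) where
  preservesColimit {K} := by
    obtain ⟨Z, q, w, ⟨h⟩, hq⟩ := exists_isColimit_cofork
      (K.map WalkingParallelPairHom.left) (K.map WalkingParallelPairHom.right)
    obtain ⟨hsurj, hrel⟩ := hq Ω ξ
    have : PreservesColimit (parallelPair (K.map WalkingParallelPairHom.left)
        (K.map WalkingParallelPairHom.right)) (FEt.fiber ξ) := by
      refine preservesColimit_of_preserves_colimit_cocone h
        ((isColimitMapCoconeCoforkEquiv _ w).symm (Cofork.IsColimit.ofExistsUnique fun s => ?_))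
      have hs : ∀ a b, (FEt.fiber ξ).map q a = (FEt.fiber ξ).map q b → s.π a = s.π b := fun a b hab => by
        have hr := hrel a b hab
        clear hab
        induction hr with
        | rel x y hxy =>
          obtain ⟨z, rfl, rfl⟩ := hxy
          exact congr($(s.condition) z)
        | refl x => rfl
        | symm x y _ ih => exact ih.symm
        | trans x y z _ _ ih ih' => exact ih.trans ih'
      refine ⟨TypeCat.ofHom fun z => s.π (Function.surjInv hsurj z),
        ConcreteCategory.hom_ext _ _ fun a => hs _ _ (Function.surjInv_eq hsurj _), fun m hm => ?_⟩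
      refine ConcreteCategory.hom_ext _ _ fun z => ?_
      obtain ⟨a, rfl⟩ := hsurj z
      exact (congr($hm a)).trans (hs _ _ (Function.surjInv_eq hsurj _)).symm
    exact preservesColimit_of_iso_diagram _ (diagramIsoParallelPair K).symm

theorem fiber_preservesFiniteColimits : PreservesFiniteColimits (FEt.fiber ξ) :=
  haveI := fiber_preserves_finiteCoproducts ξ
  haveI := fiber_preserves_coequalizers ξ
  preservesFiniteColimits_of_preservesCoequalizers_and_finiteCoproducts _

end Fibre

section Limits

variable {Ω : Type u} [Field Ω] (ξ : Spec (CommRingCat.of Ω) ⟶ X)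

/-- The fibre functor is corepresented in the category of schemes over the base. -/
noncomputable def fiberIsoCoyoneda :
    MorphismProperty.Over.forget FEt.prop ⊤ X ⋙ coyoneda.obj (op (CategoryTheory.Over.mk ξ)) ≅
      FEt.fiber ξ :=
  NatIso.ofComponents (fun Y => Equiv.toIso
    { toFun := fun φ => ⟨φ.left, Over.w φ⟩
      invFun := fun s => CategoryTheory.Over.homMk s.1 s.2
      left_inv := fun _ => rfl
      right_inv := fun _ => rfl })
    (fun _ => rfl)

theorem hasFiniteLimits : HasFiniteLimits (FEt.Cat X) := inferInstance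

theorem fiber_preservesFiniteLimits : PreservesFiniteLimits (FEt.fiber ξ) :=
  haveI : PreservesFiniteLimits (coyoneda.obj (op (CategoryTheory.Over.mk ξ))) :=
    ⟨fun _ _ _ => inferInstance⟩
  haveI := comp_preservesFiniteLimits (MorphismProperty.Over.forget FEt.prop ⊤ X)
    (coyoneda.obj (op (CategoryTheory.Over.mk ξ)))
  preservesFiniteLimits_of_natIso (fiberIsoCoyoneda ξ)

end Limits

end GrothLib.FEt21
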