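import Groth.Agent.Lib.FEt21.Galois

/-!
# Morphisms of finite étale covers through their graphs

Base change along `f` is fully faithful as soon as it is bijective on clopen subsets of every cover.
-/

set_option autoImplicit false
set_option backward.isDefEq.respectTransparency false

universe u

open CategoryTheory CategoryTheory.Limits AlgebraicGeometry

namespace GrothLib.FEt21

variable {X : Scheme.{u}}

/-- Two maps of covers agree exactly on a clopen set. -/
theorem exists_eqLocus {A B : FEt.Cat X} (u v : A ⟶ B) :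
    ∃ D : Set A.left, IsClopen D ∧ ∀ (Ω : Type u) [Field Ω] (ξ : Spec (CommRingCat.of Ω) ⟶ X)
      (s : FEt.fiberObj ξ A),
        s.1 default ∈ D ↔ (FEt.fiber ξ).map u s = (FEt.fiber ξ).map v s := by
  have := hasFiniteLimits (X := X)
  obtain ⟨ho, hc⟩ := isClosed_compl_range (equalizer.ι u v)
  refine ⟨_, ⟨hc, ho⟩, fun Ω _ ξ s => ?_⟩
  have := fiber_preservesFiniteLimits ξ
  constructor
  · rintro ⟨e, he⟩
    let Ω' := AlgebraicClosure Ω
    let ξ' : Spec (CommRingCat.of Ω') ⟶ X :=
      Spec.map (CommRingCat.ofHom (algebraMap Ω Ω')) ≫ ξ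
    let s' : FEt.fiberObj ξ' A := ⟨Spec.map (CommRingCat.ofHom (algebraMap Ω Ω')) ≫ s.1,
      (Category.assoc _ _ _).trans (congrArg (_ ≫ ·) s.2)⟩
    have hpt : (s'.1 default : A.left) = (equalizer.ι u v).left e := by
      rw [he]
      exact congrArg s.1 (Subsingleton.elim _ _)
    have := (prop_left (equalizer.ι u v)).1
    have := (prop_left (equalizer.ι u v)).2
    have h1 := Scheme.Hom.one_le_finrank_map (equalizer.ι u v).left e
    have hpos : 0 < Nat.card {t : FEt.fiberObj ξ' (equalizer u v) //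
        t.1 ≫ (equalizer.ι u v).left = s'.1} :=
      Nat.lt_of_lt_of_le Nat.zero_lt_one
        (((congrArg _ hpt.symm).trans (finrank_eq_card (equalizer.ι u v) ξ' s')) ▸ h1)
    obtain ⟨t, ht⟩ := (Nat.card_pos_iff.1 hpos).1
    have h2 : (equalizer.ι u v).left ≫ u.left = (equalizer.ι u v).left ≫ v.left :=
      congrArg (fun t => t.left) (equalizer.condition u v)
    have h3 : s'.1 ≫ u.left = s'.1 ≫ v.left := by
      rw [← ht, Category.assoc, Category.assoc, h2]
    have : Epi (Spec.map (CommRingCat.ofHom (algebraMap Ω Ω'))) := by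
      have : Surjective (Spec.map (CommRingCat.ofHom (algebraMap Ω Ω'))) :=
        ⟨fun x => ⟨default, Subsingleton.elim _ _⟩⟩
      exact Flat.epi_of_flat_of_surjective _
    refine Subtype.ext ((cancel_epi (Spec.map (CommRingCat.ofHom (algebraMap Ω Ω')))).1 ?_)
    exact ((Category.assoc _ _ _).symm.trans h3).trans (Category.assoc _ _ _)
  · intro h
    obtain ⟨a, ha, -⟩ := (Types.type_equalizer_iff_unique _ _).1
      ⟨isLimitOfHasEqualizerOfPreservesLimit (FEt.fiber ξ) u v⟩ s h
    exact ⟨a.1 default, congrArg (fun t : FEt.fiberObj ξ A => t.1 default) ha⟩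

/-- Maps of covers which agree on all geometric fibres are equal. -/
theorem hom_ext_fibres {A B : FEt.Cat X} (u v : A ⟶ B)
    (h : ∀ (Ω : Type u) [Field Ω] [IsAlgClosed Ω] (ξ : Spec (CommRingCat.of Ω) ⟶ X)
      (s : FEt.fiberObj ξ A), (FEt.fiber ξ).map u s = (FEt.fiber ξ).map v s) : u = v := by
  have := hasFiniteLimits (X := X)
  have : IsIso (equalizer.ι u v) := by
    refine isIso_of_bijective _ fun Ω _ _ ξ => ?_
    have := fiber_preservesFiniteLimits ξ
    refine ⟨(mono_iff_injective _).1 inferInstance, fun s => ?_⟩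
    obtain ⟨a, ha, -⟩ := (Types.type_equalizer_iff_unique _ _).1
      ⟨isLimitOfHasEqualizerOfPreservesLimit (FEt.fiber ξ) u v⟩ s (h Ω ξ s)
    exact ⟨a, ha⟩
  exact (cancel_epi (equalizer.ι u v)).1 (equalizer.condition u v)

variable {Y : Scheme.{u}} (f : X ⟶ Y)

/-- Pullback of clopen subsets of a cover is injective (only the empty set pulls back to it). -/
def ClopenInj (A : FEt.Cat Y) : Prop :=
  ∀ D : Set A.left, IsClopen D → (pullback.fst A.hom f) ⁻¹' D = ∅ → D = ∅

/-- Every clopen subset of the pullback of a cover comes from the cover. -/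
def ClopenSurj (A : FEt.Cat Y) : Prop :=
  ∀ C : Set (pullback A.hom f : Scheme.{u}), IsClopen C →
    ∃ D : Set A.left, IsClopen D ∧ (pullback.fst A.hom f) ⁻¹' D = C

theorem faithful_of_clopenInj (h : ∀ A, ClopenInj f A) : (FEt.restrict f).Faithful := by
  refine ⟨fun {A B u v} huv => ?_⟩
  obtain ⟨D, hD, hiff⟩ := exists_eqLocus u v
  have hempty : (pullback.fst A.hom f) ⁻¹' Dᶜ = ∅ := by
    refine Set.eq_empty_of_forall_notMem fun p hp => hp ?_
    let t := geomPt (pullback A.hom f) p
    let ξ := t ≫ pullback.snd A.hom f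
    let s : FEt.fiberObj ξ ((FEt.restrict f).obj A) := ⟨t, rfl⟩
    let s₀ : FEt.fiberObj (ξ ≫ f) A := (restrictFiberIso f ξ).hom.app A s
    have hs₀ : s₀.1 default = pullback.fst A.hom f p := by
      change pullback.fst A.hom f (t default) = _
      rw [geomPt_default]
    rw [← hs₀, hiff _ (ξ ≫ f) s₀]
    have h1 := congr($((restrictFiberIso f ξ).hom.naturality u) s)
    have h2 := congr($((restrictFiberIso f ξ).hom.naturality v) s)
    refine h1.symm.trans (Eq.trans ?_ h2)
    rw [Functor.comp_map, Functor.comp_map, huv]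
  have hu : Dᶜ = ∅ := h A _ hD.compl hempty
  refine hom_ext_fibres u v fun Ω _ _ ξ s => (hiff Ω ξ s).1 ?_
  rw [Set.compl_empty_iff.1 hu]
  exact Set.mem_univ _

theorem full_of_clopen (hi : ∀ A, ClopenInj f A) (hs : ∀ A, ClopenSurj f A) :
    (FEt.restrict f).Full := by
  refine ⟨fun {A B} ψ => ?_⟩
  let P : FEt.Cat Y := mkOf A (pullback.fst A.hom B.hom)
    (MorphismProperty.pullback_fst A.hom B.hom B.prop)
  let prA : P ⟶ A := MorphismProperty.Over.homMk (pullback.fst A.hom B.hom) rfl
  let prB : P ⟶ B := MorphismProperty.Over.homMk (pullback.snd A.hom B.hom) pullback.condition.symm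
  obtain ⟨C, hC, hiff⟩ := exists_eqLocus ((FEt.restrict f).map prA ≫ ψ) ((FEt.restrict f).map prB)
  obtain ⟨D, hD, rfl⟩ := hs P C hC
  let Do : P.left.Opens := ⟨D, hD.isOpen⟩
  let W : FEt.Cat Y := mkOf P Do.ι (prop_ι Do hD.isClosed)
  let j : W ⟶ P := MorphismProperty.Over.homMk Do.ι rfl
  let h : W ⟶ A := j ≫ prA
  have := (prop_left h).1
  have := (prop_left h).2
  -- over a point coming from `X`, the graph has one point
  have key : ∀ (Ω : Type u) [Field Ω] (ξ : Spec (CommRingCat.of Ω) ⟶ X)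
      (w : FEt.fiberObj (ξ ≫ f) P), w.1 default ∈ D ↔
        (restrictFiberIso f ξ).hom.app B
          ((FEt.fiber ξ).map ψ ((restrictFiberIso f ξ).inv.app A ((FEt.fiber (ξ ≫ f)).map prA w))) =
          (FEt.fiber (ξ ≫ f)).map prB w := by
    intro Ω _ ξ w
    let s : FEt.fiberObj ξ ((FEt.restrict f).obj P) := (restrictFiberIso f ξ).inv.app P w
    have hs0 : s.1 ≫ pullback.fst P.hom f = w.1 := pullback.lift_fst _ _ _
    have hmem : w.1 default ∈ D ↔ s.1 default ∈ (pullback.fst P.hom f) ⁻¹' D := by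
      rw [← hs0]; rfl
    rw [hmem, hiff Ω ξ s]
    have eA : (FEt.fiber ξ).map ((FEt.restrict f).map prA) s =
        (restrictFiberIso f ξ).inv.app A ((FEt.fiber (ξ ≫ f)).map prA w) :=
      congr($((restrictFiberIso f ξ).inv.naturality prA) w).symm
    have eB : (FEt.fiber ξ).map ((FEt.restrict f).map prB) s =
        (restrictFiberIso f ξ).inv.app B ((FEt.fiber (ξ ≫ f)).map prB w) :=
      congr($((restrictFiberIso f ξ).inv.naturality prB) w).symm
    rw [Functor.map_comp, ConcreteCategory.comp_apply, eA, eB]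
    constructor
    · intro e
      rw [e]
      exact congr($((restrictFiberIso f ξ).inv_hom_id_app B) _)
    · intro e
      rw [← e]
      exact (congr($((restrictFiberIso f ξ).hom_inv_id_app B) _)).symm
  let N : Set A.left := {a | h.left.finrank a ≠ 1}
  have hN : IsClopen N := (Scheme.Hom.isLocallyConstant_finrank h.left).isClopen_fiber 1 |>.compl
  have hempty : (pullback.fst A.hom f) ⁻¹' N = ∅ := by
    refine Set.eq_empty_of_forall_notMem fun p hp => hp ?_
    let t := geomPt (pullback A.hom f) p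
    let ξ := t ≫ pullback.snd A.hom f
    let s : FEt.fiberObj ξ ((FEt.restrict f).obj A) := ⟨t, rfl⟩
    let a : FEt.fiberObj (ξ ≫ f) A := (restrictFiberIso f ξ).hom.app A s
    have ha : a.1 default = pullback.fst A.hom f p := by
      change pullback.fst A.hom f (t default) = _
      rw [geomPt_default]
    rw [← ha, finrank_eq_card h (ξ ≫ f) a, Nat.card_eq_one_iff_unique]
    have hinv : (restrictFiberIso f ξ).inv.app A a = s :=
      congr($((restrictFiberIso f ξ).hom_inv_id_app A) s)
    let b : FEt.fiberObj (ξ ≫ f) B := (restrictFiberIso f ξ).hom.app B ((FEt.fiber ξ).map ψ s)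
    let w : FEt.fiberObj (ξ ≫ f) P := ⟨pullback.lift a.1 b.1 (a.2.trans b.2.symm),
      (Category.assoc _ _ _).symm.trans ((congrArg (· ≫ A.hom) (pullback.lift_fst _ _ _)).trans a.2)⟩
    have hwA : (FEt.fiber (ξ ≫ f)).map prA w = a := Subtype.ext (pullback.lift_fst _ _ _)
    have hwB : (FEt.fiber (ξ ≫ f)).map prB w = b := Subtype.ext (pullback.lift_snd _ _ _)
    have hwD : w.1 default ∈ D := by rw [key, hwA, hwB, hinv]
    have hsub : Set.range w.1 ⊆ Set.range Do.ι := by
      rintro _ ⟨z, rfl⟩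
      rw [Subsingleton.elim z default, Scheme.Opens.range_ι]
      exact hwD
    refine ⟨⟨fun w₁ w₂ => ?_⟩, ⟨⟨⟨IsOpenImmersion.lift Do.ι w.1 hsub,
      (IsOpenImmersion.lift_fac_assoc _ _ _ _).trans w.2⟩, ?_⟩⟩⟩
    · have hval : ∀ w₀ : {t : FEt.fiberObj (ξ ≫ f) W // t.1 ≫ h.left = a.1},
          (FEt.fiber (ξ ≫ f)).map prB ((FEt.fiber (ξ ≫ f)).map j w₀.1) = b := by
        intro w₀
        have e1 : (FEt.fiber (ξ ≫ f)).map prA ((FEt.fiber (ξ ≫ f)).map j w₀.1) = a :=
          Subtype.ext ((Category.assoc _ _ _).trans w₀.2)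
        rw [← (key _ ξ _).1 ((w₀.1.1 default).2), e1, hinv]
      refine Subtype.ext (Subtype.ext ((cancel_mono Do.ι).1 (pullback.hom_ext ?_ ?_)))
      · exact ((Category.assoc _ _ _).trans w₁.2).trans ((Category.assoc _ _ _).trans w₂.2).symm
      · exact congrArg Subtype.val ((hval w₁).trans (hval w₂).symm)
    · change IsOpenImmersion.lift Do.ι w.1 hsub ≫ Do.ι ≫ pullback.fst A.hom B.hom = a.1
      rw [IsOpenImmersion.lift_fac_assoc]
      exact pullback.lift_fst _ _ _
  have hiso : IsIso h := by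
    refine isIso_of_finrank h fun y => ?_
    by_contra hy
    have hy' : y ∈ N := hy
    rw [hi A N hN hempty] at hy'
    exact hy'
  refine ⟨inv h ≫ j ≫ prB, hom_ext_fibres _ _ fun Ω _ _ ξ s => ?_⟩
  let a : FEt.fiberObj (ξ ≫ f) A := (restrictFiberIso f ξ).hom.app A s
  let w₀ : FEt.fiberObj (ξ ≫ f) W := (FEt.fiber (ξ ≫ f)).map (inv h) a
  have e1 : (FEt.fiber (ξ ≫ f)).map prA ((FEt.fiber (ξ ≫ f)).map j w₀) = a := by
    rw [← ConcreteCategory.comp_apply, ← Functor.map_comp, ← ConcreteCategory.comp_apply,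
      ← Functor.map_comp]
    exact congr($(congrArg (FEt.fiber (ξ ≫ f)).map (IsIso.inv_hom_id h)) a).trans
      congr($((FEt.fiber (ξ ≫ f)).map_id A) a)
  have e2 := (key Ω ξ ((FEt.fiber (ξ ≫ f)).map j w₀)).1 ((w₀.1 default).2)
  rw [e1] at e2
  have e3 := congr($((restrictFiberIso f ξ).hom.naturality (inv h ≫ j ≫ prB)) s)
  apply ((restrictFiberIso f ξ).app B).toEquiv.injective
  refine e3.trans (Eq.trans ?_ (e2.symm.trans ?_))
  · simp only [Functor.map_comp]
    rfl
  · rw [show (restrictFiberIso f ξ).inv.app A a = s from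
      congr($((restrictFiberIso f ξ).hom_inv_id_app A) s)]
    rfl

theorem fullyFaithful_of_clopen (hi : ∀ A, ClopenInj f A) (hs : ∀ A, ClopenSurj f A) :
    (FEt.restrict f).Full ∧ (FEt.restrict f).Faithful :=
  ⟨full_of_clopen f hi hs, faithful_of_clopenInj f hi⟩

end GrothLib.FEt21
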