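import Groth.Prelude.Def_FlatMod2
import Groth.Agent.Lib.UnitsThick26.FlatIdeal
import Groth.Agent.Lib.FinCov.FrameFree
import Mathlib.AlgebraicGeometry.Morphisms.FlatRank
import Mathlib.RingTheory.Spectrum.Prime.FreeLocus
import Mathlib.RingTheory.TensorProduct.IsBaseChangeFree

/-!
# Finite locally free morphisms of constant degree have locally free direct image
-/

set_option autoImplicit false
set_option backward.isDefEq.respectTransparency false
set_option linter.style.haveILetI false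

universe u

open CategoryTheory CategoryTheory.Limits AlgebraicGeometry TopologicalSpace Opposite TensorProduct

namespace GrothLib.FEt21

variable {X Y : Scheme.{u}} (f : X ⟶ Y)

/-- Sections of a finite morphism over a smaller affine open are a base change. -/
theorem isPushout_app [IsAffineHom f] {W V : Y.Opens} (hW : IsAffineOpen W) (hV : IsAffineOpen V)
    (h : V ≤ W) :
    IsPushout (f.app W) (Y.presheaf.map (homOfLE h).op)
      (X.presheaf.map (homOfLE (f.preimage_mono h)).op) (f.app V) := by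
  have H : IsPullback (𝟙 X) f f (𝟙 Y) := IsPullback.of_horiz_isIso ⟨by simp⟩
  have eV : V ≤ (𝟙 Y : Y ⟶ Y) ⁻¹ᵁ W := h
  have hU : f ⁻¹ᵁ V = (𝟙 X : X ⟶ X) ⁻¹ᵁ (f ⁻¹ᵁ W) ⊓ f ⁻¹ᵁ V :=
    (inf_eq_right.2 (f.preimage_mono h)).symm
  haveI := isIso_pushoutSection_of_isAffineOpen H eV (le_refl (f ⁻¹ᵁ W)) hU hW hV (hW.preimage f)
  have := (isIso_pushoutSection_iff H eV (le_refl (f ⁻¹ᵁ W)) hU).1 inferInstance
  rw [Scheme.Hom.app_eq_appLE, Scheme.Hom.app_eq_appLE]
  convert this using 1 <;> simp [Scheme.Hom.appLE]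

theorem finrank_eq_finrank [IsFinite f] [Flat f] {W : Y.Opens} (hW : IsAffineOpen W) (p : Spec Γ(Y, W)) :
    letI := (f.app W).hom.toAlgebra
    f.finrank (hW.fromSpec p) = Module.rankAtStalk (R := Γ(Y, W)) Γ(X, f ⁻¹ᵁ W) p := by
  letI := (f.app W).hom.toAlgebra
  have sq : IsPullback ((hW.preimage f).fromSpec) (Spec.map (f.app W)) f hW.fromSpec := by
    refine (IsOpenImmersion.isPullback _ _ _ _ ?_ ?_).flip
    · rw [Scheme.Hom.app_eq_appLE]
      exact (IsAffineOpen.SpecMap_appLE_fromSpec f hW (hW.preimage f) le_rfl).symm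
    · rw [IsAffineOpen.opensRange_fromSpec, IsAffineOpen.opensRange_fromSpec]
  rw [← Scheme.Hom.finrank_of_isPullback _ _ _ _ sq p]
  haveI : Module.Finite Γ(Y, W) Γ(X, f ⁻¹ᵁ W) := f.finite_app W hW
  haveI : Module.Flat Γ(Y, W) Γ(X, f ⁻¹ᵁ W) := by
    have := f.flat_appLE hW (hW.preimage f) le_rfl
    rwa [← Scheme.Hom.app_eq_appLE] at this
  exact Scheme.Hom.finrank_SpecMap_algebraMap Γ(Y, W) Γ(X, f ⁻¹ᵁ W) p

theorem exists_free_affine [IsFinite f] [Flat f] [LocallyOfFinitePresentation f] (y : Y) :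
    ∃ (W : Y.Opens), IsAffineOpen W ∧ y ∈ W ∧
      letI := (f.app W).hom.toAlgebra
      Module.Free Γ(Y, W) Γ(X, f ⁻¹ᵁ W) := by
  obtain ⟨_, ⟨W, hW, rfl⟩, hyW, -⟩ :=
    Y.isBasis_affineOpens.exists_subset_of_mem_open (Set.mem_univ y) isOpen_univ
  replace hW : IsAffineOpen W := hW
  letI := (f.app W).hom.toAlgebra
  haveI : Module.Finite Γ(Y, W) Γ(X, f ⁻¹ᵁ W) := f.finite_app W hW
  haveI : Module.Flat Γ(Y, W) Γ(X, f ⁻¹ᵁ W) := by
    have := f.flat_appLE hW (hW.preimage f) le_rfl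
    rwa [← Scheme.Hom.app_eq_appLE] at this
  haveI : Algebra.FinitePresentation Γ(Y, W) Γ(X, f ⁻¹ᵁ W) := by
    have := f.finitePresentation_appLE hW (hW.preimage f) le_rfl
    rwa [← Scheme.Hom.app_eq_appLE] at this
  haveI : Module.FinitePresentation Γ(Y, W) Γ(X, f ⁻¹ᵁ W) :=
    Module.FinitePresentation.of_finite_of_finitePresentation _ _
  let p := hW.primeIdealOf ⟨y, hyW⟩
  have hp : p ∈ Module.freeLocus Γ(Y, W) Γ(X, f ⁻¹ᵁ W) := by rw [Module.freeLocus_eq_univ]; trivial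
  haveI : Module.Free (Localization.AtPrime p.asIdeal)
      (LocalizedModule p.asIdeal.primeCompl Γ(X, f ⁻¹ᵁ W)) := hp
  obtain ⟨a, ha, hfa, -⟩ := Module.FinitePresentation.exists_free_localizedModule_powers
    p.asIdeal.primeCompl (LocalizedModule.mkLinearMap p.asIdeal.primeCompl Γ(X, f ⁻¹ᵁ W))
    (Localization.AtPrime p.asIdeal)
  have hpa : p ∈ PrimeSpectrum.basicOpen a := ha
  haveI := hfa
  let V := Y.basicOpen a
  have hV : IsAffineOpen V := hW.basicOpen a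
  have hVW : V ≤ W := Y.basicOpen_le a
  refine ⟨V, hV, ?_, ?_⟩
  · have : p ∈ hW.fromSpec ⁻¹ᵁ V := by rw [hW.fromSpec_preimage_basicOpen]; exact hpa
    rw [Scheme.Hom.mem_preimage, show hW.fromSpec p = y from hW.fromSpec_primeIdealOf ⟨y, hyW⟩] at this
    exact this
  letI := (f.app V).hom.toAlgebra
  letI : Algebra Γ(Y, W) Γ(Y, V) := (Y.presheaf.map (homOfLE hVW).op).hom.toAlgebra
  letI : Algebra Γ(X, f ⁻¹ᵁ W) Γ(X, f ⁻¹ᵁ V) :=
    (X.presheaf.map (homOfLE (f.preimage_mono hVW)).op).hom.toAlgebra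
  letI : Algebra Γ(Y, W) Γ(X, f ⁻¹ᵁ V) := ((Y.presheaf.map (homOfLE hVW).op) ≫ f.app V).hom.toAlgebra
  haveI : IsScalarTower Γ(Y, W) Γ(Y, V) Γ(X, f ⁻¹ᵁ V) := IsScalarTower.of_algebraMap_eq' rfl
  haveI : IsScalarTower Γ(Y, W) Γ(X, f ⁻¹ᵁ W) Γ(X, f ⁻¹ᵁ V) := IsScalarTower.of_algebraMap_eq' (by
    exact congrArg CommRingCat.Hom.hom (isPushout_app f hW hV hVW).w.symm)
  haveI hpo : Algebra.IsPushout Γ(Y, W) Γ(Y, V) Γ(X, f ⁻¹ᵁ W) Γ(X, f ⁻¹ᵁ V) :=
    CommRingCat.isPushout_iff_isPushout.mp (isPushout_app f hW hV hVW).flip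
  let φ : Localization.Away a →+* Γ(Y, V) := IsLocalization.Away.lift a (g := algebraMap Γ(Y, W) Γ(Y, V))
    (RingedSpace.isUnit_res_basicOpen _ a)
  letI : Algebra (Localization.Away a) Γ(Y, V) := φ.toAlgebra
  haveI : IsScalarTower Γ(Y, W) (Localization.Away a) Γ(Y, V) :=
    IsScalarTower.of_algebraMap_eq' (IsLocalization.Away.lift_comp a _).symm
  haveI : Module.Free (Localization.Away a) (Localization.Away a ⊗[Γ(Y, W)] Γ(X, f ⁻¹ᵁ W)) :=
    Module.Free.of_equiv (LocalizedModule.equivTensorProduct (Submonoid.powers a) Γ(X, f ⁻¹ᵁ W))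
  haveI : Module.Free Γ(Y, V) (Γ(Y, V) ⊗[Γ(Y, W)] Γ(X, f ⁻¹ᵁ W)) :=
    Module.Free.of_equiv (AlgebraTensorModule.cancelBaseChange Γ(Y, W) (Localization.Away a) Γ(Y, V) Γ(Y, V)
      Γ(X, f ⁻¹ᵁ W))
  exact Module.Free.of_equiv hpo.out.equiv

set_option maxHeartbeats 1000000 in
/-- A finite flat morphism of constant degree `n` has direct image locally free of rank `n`. -/
theorem isFinLocFreeOfRank_of_finrank [IsFinite f] [Flat f] [LocallyOfFinitePresentation f] (n : ℕ)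
    (h : ∀ y, f.finrank y = n) :
    FlatMod.IsFinLocFreeOfRank n ((Scheme.Modules.pushforward f).obj (Coh.structureModule X)) := by
  classical
  intro y
  obtain ⟨W, hW, hyW, hfree⟩ := exists_free_affine f y
  letI := (f.app W).hom.toAlgebra
  haveI := hfree
  haveI : Module.Finite Γ(Y, W) Γ(X, f ⁻¹ᵁ W) := f.finite_app W hW
  let p := hW.primeIdealOf ⟨y, hyW⟩
  haveI : Nontrivial Γ(Y, W) := PrimeSpectrum.nonempty_iff_nontrivial.1 ⟨p⟩
  have hrk : Module.finrank Γ(Y, W) Γ(X, f ⁻¹ᵁ W) = n := by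
    rw [← h (hW.fromSpec p), finrank_eq_finrank f hW p]
    exact (congrFun (Module.rankAtStalk_eq_finrank_of_free (R := Γ(Y, W)) (M := Γ(X, f ⁻¹ᵁ W))) p).symm
  let b : Module.Basis (Fin n) Γ(Y, W) Γ(X, f ⁻¹ᵁ W) := Module.finBasisOfFinrankEq _ _ hrk
  let M := (Scheme.Modules.pushforward f).obj (Coh.structureModule X)
  let e : Fin n → Γ(M, W) := fun i => b i
  refine ⟨W, hyW, ?_⟩
  let R := M.restrict W.ι
  have heW : W.ι ''ᵁ ⊤ ≤ W := by simp [Scheme.Opens.ι_image_top]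
  let Φ : FlatMod.freeMod (↑W) n ⟶ R :=
    Sigma.desc fun i => GrothLib.FinCov.homOfSection (M.presheaf.map (homOfLE heW).op (e i))
  suffices IsIso Φ from ⟨(asIso Φ).symm⟩
  refine GrothLib.UnitsThick26.isIso_of_bijective_affine Φ fun O hO => ?_
  let V : Y.Opens := W.ι ''ᵁ O
  have hV : IsAffineOpen V := hO.image_of_isOpenImmersion W.ι
  have hVW : V ≤ W := (Scheme.Hom.image_mono _ (le_top : O ≤ ⊤)).trans heW
  let F := FlatMod.freeMod (↑W) n
  let ιm : ∀ _ : Fin n, Coh.structureModule (↑W) ⟶ F := fun i =>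
    Sigma.ι (fun _ : Fin n => Coh.structureModule (↑W)) i
  let C : Γ(F, O) → (Fin n → Γ(↑W, O)) := fun x i => (GrothLib.FinCov.proj _ n i).app O x
  have hC : Function.Bijective C := by
    refine Function.bijective_iff_has_inverse.2 ⟨fun c => ∑ i, (ιm i).app O (c i), fun x => ?_,
      fun c => funext fun j => ?_⟩
    · show ∑ i, (GrothLib.FinCov.proj _ n i ≫ ιm i).app O x = x
      rw [← GrothLib.FinCov.sum_app, GrothLib.FinCov.sum_proj_ι]; rfl
    · show (GrothLib.FinCov.proj _ n j).app O (∑ i, (ιm i).app O (c i)) = c j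
      rw [map_sum, Finset.sum_eq_single j]
      · show (ιm j ≫ GrothLib.FinCov.proj _ n j).app O (c j) = c j
        rw [GrothLib.FinCov.ι_proj, if_pos rfl]; rfl
      · intro i _ hi
        show (ιm i ≫ GrothLib.FinCov.proj _ n j).app O (c i) = 0
        rw [GrothLib.FinCov.ι_proj, if_neg hi]; rfl
      · simp
  have hΦ : ∀ x, Φ.app O x = ∑ i, (show Γ(Y, V) from C x i) • M.presheaf.map (homOfLE hVW).op (e i) := by
    intro x
    have hx : x = ∑ i, (GrothLib.FinCov.proj _ n i ≫ ιm i).app O x := by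
      rw [← GrothLib.FinCov.sum_app, GrothLib.FinCov.sum_proj_ι]; rfl
    conv_lhs => rw [hx]
    rw [map_sum]
    refine Finset.sum_congr rfl fun i _ => ?_
    have h1 : Φ.app O ((GrothLib.FinCov.proj _ n i ≫ ιm i).app O x) =
        (GrothLib.FinCov.homOfSection (M.presheaf.map (homOfLE heW).op (e i))).app O (C x i) := by
      show ((GrothLib.FinCov.proj _ n i ≫ ιm i) ≫ Φ).app O x = _
      simp only [Φ, ιm, Category.assoc, Sigma.ι_desc]
      rfl
    rw [h1, ← GrothLib.FinCov.smul_one O (C x i), Scheme.Modules.Hom.app_smul,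
      GrothLib.FinCov.homOfSection_one]
    show ((W.ι.appIso O).inv (C x i)) • (show Γ(M, V) from M.presheaf.map _ _) = _
    rw [Scheme.Opens.ι_appIso]
    congr 1
    · exact (GrothLib.FinCov.smul_one O (C x i)).symm
    · show M.presheaf.map _ (M.presheaf.map _ (e i)) = _
      rw [← ConcreteCategory.comp_apply, ← Functor.map_comp]; rfl
  letI := (f.app V).hom.toAlgebra
  letI : Algebra Γ(Y, W) Γ(Y, V) := (Y.presheaf.map (homOfLE hVW).op).hom.toAlgebra
  letI : Algebra Γ(X, f ⁻¹ᵁ W) Γ(X, f ⁻¹ᵁ V) :=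
    (X.presheaf.map (homOfLE (f.preimage_mono hVW)).op).hom.toAlgebra
  letI : Algebra Γ(Y, W) Γ(X, f ⁻¹ᵁ V) := ((Y.presheaf.map (homOfLE hVW).op) ≫ f.app V).hom.toAlgebra
  haveI : IsScalarTower Γ(Y, W) Γ(Y, V) Γ(X, f ⁻¹ᵁ V) := IsScalarTower.of_algebraMap_eq' rfl
  haveI : IsScalarTower Γ(Y, W) Γ(X, f ⁻¹ᵁ W) Γ(X, f ⁻¹ᵁ V) := IsScalarTower.of_algebraMap_eq' (by
    exact congrArg CommRingCat.Hom.hom (isPushout_app f hW hV hVW).w.symm)
  haveI hpo : Algebra.IsPushout Γ(Y, W) Γ(Y, V) Γ(X, f ⁻¹ᵁ W) Γ(X, f ⁻¹ᵁ V) :=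
    CommRingCat.isPushout_iff_isPushout.mp (isPushout_app f hW hV hVW).flip
  let bV : Module.Basis (Fin n) Γ(Y, V) Γ(X, f ⁻¹ᵁ V) := hpo.out.basis b
  have hbV : ∀ i, bV i = X.presheaf.map (homOfLE (f.preimage_mono hVW)).op (b i) := fun i =>
    hpo.out.basis_apply b i
  have hbij : Function.Bijective fun c : Fin n → Γ(Y, V) => ∑ i, c i • bV i := by
    refine Eq.mpr (congrArg Function.Bijective (funext fun c => ?_)) bV.equivFun.symm.bijective
    exact (bV.equivFun_symm_apply c).symm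
  refine Eq.mpr (congrArg Function.Bijective (funext hΦ)) ?_
  refine Eq.mpr (congrArg Function.Bijective (funext fun x => ?_)) (hbij.comp hC)
  exact Finset.sum_congr rfl fun i _ => by rw [hbV]; rfl

end GrothLib.FEt21
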