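import Groth.Agent.Lib.FEt21.Clopen
import Groth.Agent.Lib.FEt21.Affine
import Mathlib.AlgebraicGeometry.Morphisms.Flat

/-!
# Restriction along morphisms with `O_S = f_* O_X` is fully faithful

For a finite étale cover `V` of `S` the global sections of `X ×_S V` are computed by coefficients
with respect to a dual basis of the sections of `V`, so that clopen subsets descend.
-/

set_option autoImplicit false
set_option backward.isDefEq.respectTransparency false

universe u

open CategoryTheory CategoryTheory.Limits AlgebraicGeometry TopologicalSpace Opposite TensorProduct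

namespace GrothLib.FEt21

/-- Coefficients in a base change with respect to a dual basis. -/
theorem existsUnique_coeff {A B R S : CommRingCat.{u}} {f1 : A ⟶ R} {g1 : A ⟶ B} {p : R ⟶ S}
    {q : B ⟶ S} (H : IsPushout f1 g1 p q) {n : ℕ} (b : Fin n → B) (φ : Fin n → B → A)
    (hadd : ∀ k x y, φ k (x + y) = φ k x + φ k y)
    (hsmul : ∀ k a x, φ k (g1.hom a * x) = a * φ k x)
    (hb : ∀ x, x = ∑ j, g1.hom (φ j x) * b j) (s : S) :
    ∃! c : Fin n → R, (∀ k, c k = ∑ j, c j * f1.hom (φ k (b j))) ∧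
      s = ∑ j, p.hom (c j) * q.hom (b j) := by
  algebraize [f1.hom, g1.hom]
  have H' : IsPushout f1 g1 (CommRingCat.ofHom (S := R ⊗[A] B) Algebra.TensorProduct.includeLeftRingHom)
      (CommRingCat.ofHom (S := R ⊗[A] B) Algebra.TensorProduct.includeRight.toRingHom) :=
    CommRingCat.isPushout_tensorProduct A R B
  let e := H'.isoIsPushout _ _ H
  have hel : ∀ r : R, e.hom.hom (r ⊗ₜ[A] 1) = p.hom r := fun r =>
    congr($(H'.inl_isoIsPushout_hom _ _ H).hom r)
  have her : ∀ x : B, e.hom.hom (1 ⊗ₜ[A] x) = q.hom x := fun x =>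
    congr($(H'.inr_isoIsPushout_hom _ _ H).hom x)
  have hpq : ∀ (r : R) (x : B), e.hom.hom (r ⊗ₜ[A] x) = p.hom r * q.hom x := fun r x => by
    rw [← hel, ← her, ← map_mul, Algebra.TensorProduct.tmul_mul_tmul, mul_one, one_mul]
  let φl : Fin n → (B →ₗ[A] A) := fun k =>
    { toFun := φ k, map_add' := hadd k, map_smul' := fun a x => by
        show φ k (a • x) = a * φ k x
        rw [Algebra.smul_def]; exact hsmul k a x }
  let Φ : Fin n → (R ⊗[A] B →ₗ[A] R) := fun k =>
    (TensorProduct.rid A R).toLinearMap ∘ₗ (φl k).lTensor R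
  have hΦ : ∀ k (r : R) (x : B), Φ k (r ⊗ₜ[A] x) = r * f1.hom (φ k x) := fun k r x => by
    show (φ k x) • r = _
    rw [Algebra.smul_def, mul_comm]; rfl
  have hdec : ∀ t : R ⊗[A] B, t = ∑ j, Φ j t ⊗ₜ[A] b j := fun t => by
    induction t using TensorProduct.induction_on with
    | zero => simp
    | tmul r x =>
      conv_lhs => rw [hb x]
      rw [TensorProduct.tmul_sum]
      refine Finset.sum_congr rfl fun j _ => ?_
      rw [hΦ, show g1.hom (φ j x) * b j = (φ j x) • b j from (Algebra.smul_def _ _).symm,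
        ← TensorProduct.smul_tmul, Algebra.smul_def, mul_comm]
      rfl
    | add x y hx hy =>
      simp only [map_add, TensorProduct.add_tmul, Finset.sum_add_distrib]
      rw [← hx, ← hy]
  obtain ⟨t, rfl⟩ := (ConcreteCategory.bijective_of_isIso e.hom).2 s
  refine ⟨fun k => Φ k t, ⟨fun k => ?_, ?_⟩, ?_⟩
  · conv_lhs => rw [hdec t]
    simp [hΦ]
  · conv_lhs => rw [hdec t]
    simp [hpq]
  · rintro c ⟨hc, hs⟩
    have ht : t = ∑ j, c j ⊗ₜ[A] b j := (ConcreteCategory.bijective_of_isIso e.hom).1 (by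
      rw [map_sum]; simpa [hpq] using hs)
    funext k
    rw [hc k]
    show _ = Φ k t
    simp [ht, hΦ]

variable {X S V P : Scheme.{u}} {f : X ⟶ S} {g : V ⟶ S} {fst : P ⟶ V} {snd : P ⟶ X}

/-- Sections over a finite étale cover are unchanged by base change along `f` with `O_S = f_* O_X`. -/
theorem app_bijective_of_isPullback [IsFinite g] [Etale g] (H : IsPullback fst snd g f)
    (hf : ∀ U : S.Opens, Function.Bijective (f.app U)) {U : S.Opens} (hU : IsAffineOpen U) :
    Function.Bijective (fst.app (g ⁻¹ᵁ U)) := by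
  letI := (g.app U).hom.toAlgebra
  have := finite_app_algebra g hU
  have := etale_app_algebra g hU
  haveI : Module.FinitePresentation Γ(S, U) Γ(V, g ⁻¹ᵁ U) :=
    Module.FinitePresentation.of_finite_of_finitePresentation _ _
  haveI : Module.Projective Γ(S, U) Γ(V, g ⁻¹ᵁ U) := Module.Flat.projective_of_finitePresentation
  obtain ⟨n, π, σ, -, -, hπσ⟩ := Module.Finite.exists_comp_eq_id_of_projective Γ(S, U) Γ(V, g ⁻¹ᵁ U)
  let b : Fin n → Γ(V, g ⁻¹ᵁ U) := fun j => π (Pi.single j 1)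
  let φ : Fin n → Γ(V, g ⁻¹ᵁ U) → Γ(S, U) := fun j x => σ x j
  have hb : ∀ x, x = ∑ j, (g.app U).hom (φ j x) * b j := fun x => by
    conv_lhs => rw [← LinearMap.id_apply (R := Γ(S, U)) x, ← hπσ, LinearMap.comp_apply,
      pi_eq_sum_univ' (σ x), map_sum]
    refine Finset.sum_congr rfl fun j _ => ?_
    rw [map_smul, Algebra.smul_def]
    rfl
  have hle : fst ⁻¹ᵁ (g ⁻¹ᵁ U) = snd ⁻¹ᵁ (f ⁻¹ᵁ U) := by
    rw [← Scheme.Hom.comp_preimage, ← Scheme.Hom.comp_preimage, H.w]
  let W : {W : X.Opens // IsAffineOpen W ∧ W ≤ f ⁻¹ᵁ U} → X.Opens := Subtype.val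
  have hcovW : f ⁻¹ᵁ U ≤ iSup W := fun x hx => by
    obtain ⟨_, ⟨W', hW', rfl⟩, hxW, hW'le⟩ :=
      X.isBasis_affineOpens.exists_subset_of_mem_open hx (f ⁻¹ᵁ U).isOpen
    exact Opens.mem_iSup.2 ⟨⟨W', hW', hW'le⟩, hxW⟩
  let ρ : ∀ i, Γ(S, U) ⟶ Γ(X, W i) := fun i => f.appLE U (W i) i.2.2
  let p : ∀ i, Γ(X, W i) ⟶ Γ(P, snd ⁻¹ᵁ W i) := fun i => snd.app (W i)
  let q : ∀ i, Γ(V, g ⁻¹ᵁ U) ⟶ Γ(P, snd ⁻¹ᵁ W i) := fun i =>
    fst.appLE _ _ (by rw [hle]; exact snd.preimage_mono i.2.2)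
  have hpo : ∀ i, IsPushout (ρ i) (g.app U) (p i) (q i) := fun i => by
    have hUY : snd ⁻¹ᵁ W i = fst ⁻¹ᵁ (g ⁻¹ᵁ U) ⊓ snd ⁻¹ᵁ W i :=
      (inf_eq_right.2 (by rw [hle]; exact snd.preimage_mono i.2.2)).symm
    have := (isIso_pushoutSection_iff H i.2.2 (le_refl (g ⁻¹ᵁ U)) hUY).1
      (isIso_pushoutSection_of_isAffineOpen H i.2.2 (le_refl (g ⁻¹ᵁ U)) hUY hU i.2.1 (hU.preimage g))
    rw [Scheme.Hom.appLE_eq_app, Scheme.Hom.appLE_eq_app] at this
    exact this.flip
  have hu := fun i => existsUnique_coeff (hpo i) b φ (fun k x y => by simp [φ])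
    (fun k a x => by
      show σ (a • x) k = _
      simp [φ]) hb
  have hcovP : ∀ z ∈ fst ⁻¹ᵁ (g ⁻¹ᵁ U), ∃ i, z ∈ snd ⁻¹ᵁ W i := fun z hz => by
    rw [hle] at hz
    obtain ⟨i, hi⟩ := Opens.mem_iSup.1 (hcovW hz : snd z ∈ iSup W)
    exact ⟨i, hi⟩
  refine ⟨(injective_iff_map_eq_zero _).2 fun x hx => ?_, fun s => ?_⟩
  · have hzero : ∀ j, φ j x = 0 := fun j => (hf U).1 (by
      rw [map_zero]
      refine X.sheaf.eq_of_locally_eq' W (f ⁻¹ᵁ U) (fun i => homOfLE i.2.2) hcovW _ _ fun i => ?_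
      rw [map_zero]
      show ρ i (φ j x) = 0
      have hqx : q i x = 0 := by
        show (P.presheaf.map _) ((fst.app _).hom x) = 0
        rw [hx, map_zero]
      refine congrFun ((hu i 0).unique (y₁ := fun j => ρ i (φ j x)) (y₂ := 0) ⟨fun k => ?_, ?_⟩
        ⟨by simp, by simp⟩) j
      · conv_lhs => rw [hb x]
        simp only [φ, map_sum, Finset.sum_apply]
        refine Finset.sum_congr rfl fun l _ => ?_
        rw [← map_mul]
        show ρ i (σ (σ x l • b l) k) = _
        rw [map_smul]; rfl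
      · refine hqx.symm.trans ?_
        conv_lhs => rw [hb x]
        simp only [map_sum, map_mul]
        refine Finset.sum_congr rfl fun l _ => ?_
        congr 1
        exact congr($((hpo i).w.symm).hom (φ l x)))
    rw [hb x]
    simp [hzero]
  · let ii : ∀ i, snd ⁻¹ᵁ W i ⟶ fst ⁻¹ᵁ (g ⁻¹ᵁ U) := fun i =>
      homOfLE (by rw [hle]; exact snd.preimage_mono i.2.2)
    choose c hc hcu using fun i => hu i ((P.presheaf.map (ii i).op).hom s)
    have hres : ∀ {i k} (hki : W k ≤ W i) j, (X.presheaf.map (homOfLE hki).op).hom (c i j) = c k j := by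
      intro i k hki j
      refine congrFun (hcu k (fun j => (X.presheaf.map (homOfLE hki).op).hom (c i j)) ⟨fun l => ?_, ?_⟩) j
      · beta_reduce
        conv_lhs => rw [(hc i).1 l]
        simp only [map_sum, map_mul]
        refine Finset.sum_congr rfl fun m _ => ?_
        congr 1
        exact congr($(Scheme.Hom.appLE_map f i.2.2 (homOfLE hki).op).hom (φ l (b m)))
      · have h2 := congrArg (P.presheaf.map (homOfLE (snd.preimage_mono hki)).op).hom (hc i).2
        simp only [map_sum, map_mul] at h2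
        refine Eq.trans ?_ (h2.trans (Finset.sum_congr rfl fun m _ => ?_))
        · rw [← CommRingCat.comp_apply, ← Functor.map_comp]; rfl
        · congr 1
          · exact congr($((snd.naturality (homOfLE hki).op).symm).hom (c i m))
          · exact congr($(Scheme.Hom.appLE_map fst _ (homOfLE (snd.preimage_mono hki)).op).hom (b m))
    have hcompat : ∀ j, TopCat.Presheaf.IsCompatible X.sheaf.1 W (fun i => c i j) := by
      intro j i k
      let J := {l : {W : X.Opens // IsAffineOpen W ∧ W ≤ f ⁻¹ᵁ U} // W l ≤ W i ⊓ W k}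
      refine X.sheaf.eq_of_locally_eq' (fun l : J => W l.1) _ (fun l => homOfLE l.2) (fun x hx => ?_)
        _ _ fun l => ?_
      · obtain ⟨_, ⟨W', hW', rfl⟩, hxW, hW'le⟩ :=
          X.isBasis_affineOpens.exists_subset_of_mem_open hx (W i ⊓ W k).isOpen
        exact Opens.mem_iSup.2 ⟨⟨⟨W', hW', le_trans hW'le (inf_le_left.trans i.2.2)⟩, hW'le⟩, hxW⟩
      · change (X.presheaf.map _).hom ((X.presheaf.map _).hom (c i j)) =
          (X.presheaf.map _).hom ((X.presheaf.map _).hom (c k j))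
        rw [← CommRingCat.comp_apply, ← Functor.map_comp, ← CommRingCat.comp_apply, ← Functor.map_comp]
        exact (hres (l.2.trans inf_le_left) j).trans (hres (l.2.trans inf_le_right) j).symm
    choose C hC hCu using fun j =>
      X.sheaf.existsUnique_gluing' W (f ⁻¹ᵁ U) (fun i => homOfLE i.2.2) hcovW _ (hcompat j)
    choose a ha using fun j => (hf U).2 (C j)
    refine ⟨∑ j, (g.app U).hom (a j) * b j, ?_⟩
    refine P.sheaf.eq_of_locally_eq' (fun i => snd ⁻¹ᵁ W i) _ ii
      (fun z hz => Opens.mem_iSup.2 (hcovP z hz)) _ _ fun i => ?_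
    show q i (∑ j, (g.app U).hom (a j) * b j) = (P.presheaf.map (ii i).op).hom s
    rw [(hc i).2]
    simp only [map_sum, map_mul]
    refine Finset.sum_congr rfl fun m _ => ?_
    congr 1
    refine (congr($((hpo i).w.symm).hom (a m))).trans (congrArg (p i).hom ?_)
    rw [← hC m i, ← ha m]
    rfl

theorem denseRange_of_app_bijective {X Y : Scheme.{u}} (f : X ⟶ Y)
    (hf : ∀ U : Y.Opens, Function.Bijective (f.app U)) : DenseRange f := by
  intro y
  rw [mem_closure_iff]
  intro o ho hy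
  by_contra h
  let U : Y.Opens := ⟨o, ho⟩
  have he : f ⁻¹ᵁ U = ⊥ := Opens.ext (Set.eq_empty_of_forall_notMem fun x hx => h ⟨f x, hx, x, rfl⟩)
  haveI : Subsingleton Γ(X, f ⁻¹ᵁ U) := by
    rw [he]; exact CommRingCat.subsingleton_of_isTerminal X.sheaf.isTerminalOfEmpty
  have h1 : (1 : Γ(Y, U)) = 0 := (hf U).1 (Subsingleton.elim _ _)
  have := Y.basicOpen_of_isUnit (U := U) (f := (0 : Γ(Y, U))) (by rw [← h1]; exact isUnit_one)
  rw [Scheme.basicOpen_zero] at this
  exact (this.ge hy : y ∈ (⊥ : Y.Opens))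

/-- The indicator section of a clopen subset and its complement. -/
theorem exists_indicator {X : Scheme.{u}} (C : Set X) (hC : IsClopen C) (W : X.Opens) :
    ∃ e : Γ(X, W), e * (1 - e) = 0 ∧ (X.basicOpen e : Set X) = C ∩ W ∧
      (X.basicOpen (1 - e) : Set X) = Cᶜ ∩ W := by
  let U : Bool → X.Opens := fun b => W ⊓ cond b ⟨C, hC.isOpen⟩ ⟨Cᶜ, hC.compl.isOpen⟩
  let sf : ∀ b, Γ(X, U b) := fun b => cond b 1 0
  have hsub : ∀ a b, a ≠ b → Subsingleton Γ(X, U a ⊓ U b) := fun a b hab => by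
    have : U a ⊓ U b = ⊥ := by
      ext z
      cases a <;> cases b <;> simp_all [U]
    rw [this]
    exact CommRingCat.subsingleton_of_isTerminal X.sheaf.isTerminalOfEmpty
  have hcompat : TopCat.Presheaf.IsCompatible X.sheaf.1 U sf := by
    intro a b
    by_cases hab : a = b
    · subst hab; rfl
    · haveI := hsub a b hab
      exact @Subsingleton.elim Γ(X, U a ⊓ U b) _ _ _
  have hcov : W ≤ iSup U := fun x hx => by
    by_cases h : x ∈ C
    · exact Opens.mem_iSup.2 ⟨true, hx, h⟩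
    · exact Opens.mem_iSup.2 ⟨false, hx, h⟩
  obtain ⟨(e : Γ(X, W)), he, -⟩ := X.sheaf.existsUnique_gluing' U W (fun b => homOfLE inf_le_left) hcov sf hcompat
  have he' : ∀ b, (X.presheaf.map (homOfLE (inf_le_left : U b ≤ W)).op).hom e = sf b := he
  have hb : ∀ (t : Γ(X, W)) (b : Bool),
      (X.presheaf.map (homOfLE (inf_le_left : U b ≤ W)).op).hom t = 1 → ∀ x ∈ U b, x ∈ X.basicOpen t := by
    intro t b ht x hx
    have h1 := X.basicOpen_res t (homOfLE (inf_le_left : U b ≤ W)).op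
    rw [ht, Scheme.basicOpen_of_isUnit _ isUnit_one] at h1
    exact (h1.le hx).2
  have hz : ∀ (t : Γ(X, W)) (b : Bool),
      (X.presheaf.map (homOfLE (inf_le_left : U b ≤ W)).op).hom t = 0 → ∀ x ∈ U b, x ∉ X.basicOpen t := by
    intro t b ht x hx hxt
    have h1 := X.basicOpen_res t (homOfLE (inf_le_left : U b ≤ W)).op
    rw [ht, Scheme.basicOpen_zero] at h1
    exact (h1.ge ⟨hx, hxt⟩ : x ∈ (⊥ : X.Opens))
  refine ⟨e, X.sheaf.eq_of_locally_eq' U W (fun b => homOfLE inf_le_left) hcov _ _ fun b => ?_, ?_, ?_⟩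
  · rw [map_mul, map_sub, map_one, map_zero]
    rw [show (X.sheaf.1.map (homOfLE (inf_le_left : U b ≤ W)).op).hom e = sf b from he' b]
    cases b <;> simp [sf]
  · refine Set.Subset.antisymm (fun x hx => ⟨by_contra fun h => hz e false (he' false) x
      ⟨X.basicOpen_le e hx, h⟩ hx, X.basicOpen_le e hx⟩) fun x hx => hb e true (he' true) x ⟨hx.2, hx.1⟩
  · refine Set.Subset.antisymm (fun x hx => ⟨fun h => hz (1 - e) true ?_ x
      ⟨X.basicOpen_le _ hx, h⟩ hx, X.basicOpen_le _ hx⟩) fun x hx => hb (1 - e) false ?_ x ⟨hx.2, hx.1⟩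
    · rw [map_sub, map_one, he']; simp [sf]
    · rw [map_sub, map_one, he']; simp [sf]

theorem clopenSurj_of_app_bijective {X Y : Scheme.{u}} (f : X ⟶ Y)
    (hf : ∀ U : Y.Opens, Function.Bijective (f.app U)) (A : FEt.Cat Y) : ClopenSurj f A := by
  intro D hD
  let fst := pullback.fst A.hom f
  have hdense : DenseRange fst := by
    have : DenseRange f := denseRange_of_app_bijective f hf
    intro v
    rw [mem_closure_iff]
    intro o ho hv
    obtain ⟨_, ⟨d, hd, rfl⟩, x, hx⟩ := mem_closure_iff.1 (this (A.hom v)) (A.hom '' o)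
      (A.hom.isOpenMap _ ho) ⟨v, hv, rfl⟩
    obtain ⟨p, hp, -⟩ := Scheme.Pullback.exists_preimage_pullback (f := A.hom) (g := f) d x hx.symm
    exact ⟨fst p, by rwa [show fst p = d from hp], p, rfl⟩
  -- every point of the cover has a neighbourhood meeting the image of only one of `D`, `Dᶜ`
  have key : ∀ v : A.left, ∃ o : Set A.left, IsOpen o ∧ v ∈ o ∧
      (fst ⁻¹' o ⊆ D ∨ fst ⁻¹' o ⊆ Dᶜ) := by
    intro v
    obtain ⟨_, ⟨U, hU, rfl⟩, hvU, -⟩ := Y.isBasis_affineOpens.exists_subset_of_mem_open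
      (Set.mem_univ (A.hom v)) isOpen_univ
    have hbij := app_bijective_of_isPullback (IsPullback.of_hasPullback A.hom f) hf hU
    obtain ⟨e, he, he1, he2⟩ := exists_indicator D hD (fst ⁻¹ᵁ (A.hom ⁻¹ᵁ U))
    obtain ⟨(e' : Γ(A.left, A.hom ⁻¹ᵁ U)), rfl⟩ := hbij.2 e
    have hid : IsIdempotentElem e' := hbij.1 (by
      rw [map_mul]
      have := he
      rw [mul_sub, mul_one, sub_eq_zero] at this
      exact this.symm)
    rw [← Scheme.preimage_basicOpen] at he1
    rw [← map_one (fst.app (A.hom ⁻¹ᵁ U)).hom, ← map_sub, ← Scheme.preimage_basicOpen] at he2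
    have hor : v ∈ A.left.basicOpen e' ∨ v ∈ A.left.basicOpen (1 - e') := by
      have h1 : IsUnit (A.left.presheaf.germ (A.hom ⁻¹ᵁ U) v hvU e') ∨
          IsUnit (A.left.presheaf.germ (A.hom ⁻¹ᵁ U) v hvU (1 - e')) :=
        IsLocalRing.isUnit_or_isUnit_of_isUnit_add (by rw [← map_add, add_sub_cancel, map_one]; exact isUnit_one)
      exact h1.imp (A.left.mem_basicOpen e' v hvU).2 (A.left.mem_basicOpen (1 - e') v hvU).2
    rcases hor with h | h
    · exact ⟨_, (A.left.basicOpen e').isOpen, h, Or.inl fun p hp => (he1.le hp).1⟩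
    · exact ⟨_, (A.left.basicOpen (1 - e')).isOpen, h, Or.inr fun p hp => (he2.le hp).1⟩
  choose o ho hvo hoD using key
  refine ⟨{v | fst ⁻¹' (o v) ⊆ D}, ?_, ?_⟩
  · have hmeet : ∀ v w, w ∈ o v → (fst ⁻¹' o v ⊆ D ↔ fst ⁻¹' o w ⊆ D) := by
      intro v w hw
      obtain ⟨_, hp, p, rfl⟩ := mem_closure_iff.1 (hdense w) (o v ∩ o w)
        ((ho v).inter (ho w)) ⟨hw, hvo w⟩
      rcases hoD v with hv | hv <;> rcases hoD w with hw' | hw'
      · exact iff_of_true hv hw'
      · exact absurd (hv hp.1) (hw' hp.2)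
      · exact absurd (hw' hp.2) (hv hp.1)
      · exact ⟨fun h => absurd (h hp.1) (hv hp.1), fun h => absurd (h hp.2) (hw' hp.2)⟩
    refine ⟨isOpen_compl_iff.1 (isOpen_iff_forall_mem_open.2 fun v hv =>
      ⟨o v, fun w hw h => hv ((hmeet v w hw).2 h), ho v, hvo v⟩),
      isOpen_iff_forall_mem_open.2 fun v hv =>
      ⟨o v, fun w hw => (hmeet v w hw).1 hv, ho v, hvo v⟩⟩
  · ext p
    refine ⟨fun h => h (hvo (fst p)), fun hp => ?_⟩
    rcases hoD (fst p) with h | h
    · exact h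
    · exact absurd hp (h (hvo (fst p)))

end GrothLib.FEt21
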