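import Groth.Agent.Lib.Purity.Normal
import Groth.Agent.Lib.LocProp.AtPrime
import Groth.Agent.Lib.EtBasicB.LocalRings
import Mathlib.RingTheory.Etale.QuasiFinite

/-!
# Purity of the branch locus at a quasi-finite point
-/

set_option autoImplicit false
set_option linter.style.haveILetI false
set_option linter.unusedSectionVars false

universe u

open IsLocalRing TensorProduct

namespace GrothLib.FEt21

/-- Flatness descends along a faithfully flat extension. -/
theorem flat_of_faithfullyFlat_tower (R A B : Type u) [CommRing R] [CommRing A] [CommRing B]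
    [Algebra R A] [Algebra A B] [Algebra R B] [IsScalarTower R A B] [Module.Flat R B]
    [Module.FaithfullyFlat A B] : Module.Flat R A := by
  rw [Module.Flat.iff_lTensor_injectiveₛ]
  intro P _ _ N
  let ι : ∀ (M : Type u) [AddCommMonoid M] [Module R M], A ⊗[R] M →ₗ[R] B ⊗[R] M := fun M _ _ =>
    (IsScalarTower.toAlgHom R A B).toLinearMap.rTensor M
  have hι : ∀ (M : Type u) [AddCommGroup M] [Module R M], Function.Injective (ι M) := by
    intro M _ _
    have h := Module.FaithfullyFlat.tensorProduct_mk_injective (A := A) (B := B) (A ⊗[R] M)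
    have he : ∀ x : A ⊗[R] M, ι M x =
        TensorProduct.AlgebraTensorModule.cancelBaseChange R A A B M ((1 : B) ⊗ₜ[A] x) := fun x => by
      induction x using TensorProduct.induction_on with
      | zero => simp [ι]
      | tmul a m => simp [ι, Algebra.smul_def]
      | add a b ha hb => rw [map_add, TensorProduct.tmul_add, map_add, ha, hb]
    intro a b hab
    rw [he, he] at hab
    exact h ((TensorProduct.AlgebraTensorModule.cancelBaseChange R A A B M).injective hab)
  letI : AddCommGroup P := Module.addCommMonoidToAddCommGroup R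
  letI : AddCommGroup N := Module.addCommMonoidToAddCommGroup R
  intro a b hab
  refine hι N ?_
  refine Module.Flat.lTensor_preserves_injective_linearMap (M := B) N.subtype N.injective_subtype ?_
  have hc : ∀ x, (N.subtype.lTensor B) (ι N x) = ι P (N.subtype.lTensor A x) := fun x => by
    induction x using TensorProduct.induction_on with
    | zero => simp
    | tmul a m => simp [ι]
    | add a b ha hb => simp only [map_add, ha, hb]
  rw [hc, hc]
  exact congrArg _ hab

/-- Below a prime of height at least one there is a prime of height exactly one. -/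
theorem exists_height_one_le {S : Type u} [CommRing S] [IsNoetherianRing S] (q : Ideal S) [q.IsPrime]
    (h1 : 1 ≤ q.height) : ∃ Q : Ideal S, Q.IsPrime ∧ Q ≤ q ∧ Q.height = 1 := by
  obtain ⟨n, hn⟩ := ENat.ne_top_iff_exists.1 (Ideal.height_ne_top (I := q) Ideal.IsPrime.ne_top')
  have hn' : Order.height (⟨q, ‹_›⟩ : PrimeSpectrum S) = n := by
    rw [← PrimeSpectrum.height_eq_orderHeight]; exact hn.symm
  obtain ⟨l, hl, hlen⟩ := Order.exists_series_of_height_eq_coe _ hn'
  have h1' : 1 ≤ n := by rw [← hn] at h1; exact_mod_cast h1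
  let i : Fin (l.length + 1) := ⟨1, by omega⟩
  refine ⟨(l i).asIdeal, (l i).2, ?_, ?_⟩
  · have : l i ≤ l.last := l.monotone (Fin.le_last i)
    rw [hl] at this
    exact this
  · rw [PrimeSpectrum.height_eq_orderHeight, Order.height_eq_index_of_length_eq_height_last
      (by rw [hlen, hl, hn']) i]
    simp [i]

theorem dim_le_of_finite_of_injective {R A : Type u} [CommRing R] [CommRing A] (φ : R →+* A)
    (hφ : φ.IsIntegral) : ringKrullDim A ≤ ringKrullDim R := by
  letI := φ.toAlgebra
  haveI : Algebra.IsIntegral R A := ⟨hφ⟩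
  refine Order.krullDim_le_of_strictMono (PrimeSpectrum.comap φ) fun I J hIJ => ?_
  obtain ⟨hle, x, hxJ, hxI⟩ := SetLike.lt_iff_le_and_exists.mp (show I.asIdeal < J.asIdeal from hIJ)
  exact Ideal.comap_lt_comap_of_integral_mem_sdiff (R := R) hle ⟨hxJ, hxI⟩ (Algebra.IsIntegral.isIntegral x)

/-- **Purity of the branch locus**, local algebraic form. -/
theorem isEtaleAt_of_branch {R₀ S : Type u} [CommRing R₀] [IsNoetherianRing R₀] [CommRing S]
    [Algebra R₀ S] [Algebra.FiniteType R₀ S] (p : Ideal R₀) [p.IsPrime] (q : Ideal S) [q.IsPrime]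
    [q.LiesOver p] [Algebra.QuasiFiniteAt R₀ q] [IsDomain (Localization.AtPrime q)]
    [IsIntegrallyClosed (Localization.AtPrime q)] [IsRegularLocalRing (Localization.AtPrime p)]
    (hdim : q.height = p.height) (h1 : 1 ≤ q.height)
    (hunr : ∀ (Q : Ideal S) (_ : Q.IsPrime), Q ≤ q → Q.height = 1 → Algebra.IsUnramifiedAt R₀ Q) :
    Algebra.IsEtaleAt R₀ q := by
  classical
  haveI : IsNoetherianRing S := Algebra.FiniteType.isNoetherianRing R₀ S
  haveI : Algebra.FinitePresentation R₀ S := Algebra.FinitePresentation.of_finiteType.mp inferInstance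
  obtain ⟨R', _, _, _, P, _, _, e, he, P', _, _, hP'q, heP', -, _, huniq⟩ :=
    Algebra.exists_etale_isIdempotentElem_forall_liesOver_eq (R := R₀) p q
  haveI : IsNoetherianRing R' := Algebra.FiniteType.isNoetherianRing R₀ R'
  let T := R' ⊗[R₀] S
  letI : Algebra S T := Algebra.TensorProduct.rightAlgebra
  haveI : IsScalarTower R₀ S T := IsScalarTower.of_algebraMap_eq fun r => by
    show _ = (1 : R') ⊗ₜ[R₀] algebraMap R₀ S r
    rw [Algebra.TensorProduct.algebraMap_apply, Algebra.algebraMap_eq_smul_one,
      Algebra.algebraMap_eq_smul_one, TensorProduct.smul_tmul]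
  haveI : Algebra.IsPushout R₀ R' S T := inferInstance
  haveI : Algebra.Etale S T := Algebra.Etale.of_equiv
    (Algebra.IsPushout.equiv R₀ S R' T : S ⊗[R₀] R' ≃ₐ[S] T)
  let Ae := Localization.Away e
  let M := Algebra.algebraMapSubmonoid Ae P.primeCompl
  let A := Localization M
  let Rp := Localization.AtPrime P
  haveI : IsLocalization (P.primeCompl.map (algebraMap R' Ae)) A := inferInstanceAs (IsLocalization M A)
  letI : Algebra Rp A := localizationAlgebra P.primeCompl Ae
  haveI : IsScalarTower R' Rp A := IsScalarTower.of_algebraMap_eq fun r => by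
    rw [IsScalarTower.algebraMap_apply R' Ae A]
    exact (IsLocalization.map_eq _ r).symm
  haveI : Module.Finite Rp A := Module.Finite.of_isLocalization R' Ae P.primeCompl
  -- the algebra is the local ring at the chosen prime
  haveI : IsLocalization (IsLocalization.localizationLocalizationSubmodule (Submonoid.powers e) M) A :=
    IsLocalization.localization_localization_isLocalization (Submonoid.powers e) M A
  have hzero : (0 : Ae) ∉ M := by
    rintro ⟨s, hs, h0⟩
    rw [IsScalarTower.algebraMap_apply R' T Ae] at h0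
    obtain ⟨⟨_, k, rfl⟩, hk⟩ := (IsLocalization.map_eq_zero_iff (Submonoid.powers e) Ae _).1 h0
    have hmem : e ^ k * algebraMap R' T s ∈ P' := hk ▸ P'.zero_mem
    rcases (inferInstance : P'.IsPrime).mem_or_mem hmem with h | h
    · exact heP' ((inferInstance : P'.IsPrime).mem_of_pow_mem k h)
    · exact hs (by rw [(Ideal.LiesOver.over : P = P'.under R')]; exact h)
  haveI : Nontrivial A := by
    refine (subsingleton_or_nontrivial A).resolve_left fun h => hzero ?_
    obtain ⟨c, hc⟩ := (IsLocalization.map_eq_zero_iff M A (1 : Ae)).1 (Subsingleton.elim _ _)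
    rw [mul_one] at hc
    exact hc ▸ c.2
  have hmax : ∀ m : Ideal A, m.IsMaximal → m.comap (algebraMap T A) = P' := by
    intro m hm
    haveI : (m.comap (algebraMap T A)).IsPrime := Ideal.IsPrime.comap _
    refine huniq _ inferInstance ⟨?_⟩ fun hem => hm.ne_top (Ideal.eq_top_of_isUnit_mem _ hem ?_)
    · show P = (m.comap (algebraMap T A)).comap (algebraMap R' T)
      rw [Ideal.comap_comap, ← IsScalarTower.algebraMap_eq R' T A, IsScalarTower.algebraMap_eq R' Rp A,
        ← Ideal.comap_comap]
      haveI : (m.comap (algebraMap Rp A)).IsMaximal := Ideal.isMaximal_comap_of_isIntegral_of_isMaximal m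
      rw [IsLocalRing.eq_maximalIdeal ‹(m.comap (algebraMap Rp A)).IsMaximal›]
      exact (IsLocalization.AtPrime.under_maximalIdeal Rp P).symm
    · rw [IsScalarTower.algebraMap_apply T Ae A]
      exact (IsLocalization.Away.algebraMap_isUnit e).map _
  obtain ⟨m₀, hm₀⟩ := Ideal.exists_maximal A
  haveI : IsLocalization.AtPrime A P' := by
    refine IsLocalization.of_le (IsLocalization.localizationLocalizationSubmodule (Submonoid.powers e) M)
      P'.primeCompl (fun n hn hnP => ?_) fun r hr => ?_
    · have hu : IsUnit (algebraMap T A n) :=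
        IsLocalization.map_units A (⟨n, hn⟩ : IsLocalization.localizationLocalizationSubmodule (Submonoid.powers e) M)
      exact hm₀.ne_top (Ideal.eq_top_of_isUnit_mem _ (show algebraMap T A n ∈ m₀ by
        rw [← Ideal.mem_comap, hmax m₀ hm₀]; exact hnP) hu)
    · by_contra hnu
      obtain ⟨m, hm, hrm⟩ := exists_max_ideal_of_mem_nonunits hnu
      exact hr (by rw [← hmax m hm]; exact hrm)
  haveI : IsLocalRing A := IsLocalization.AtPrime.isLocalRing A P'
  haveI : IsNoetherianRing A := IsLocalization.isNoetherianRing P'.primeCompl A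
    (Algebra.FiniteType.isNoetherianRing S T)
  haveI : Algebra.FormallyEtale T A := Algebra.FormallyEtale.of_isLocalization P'.primeCompl
  haveI : Algebra.FormallyEtale S A := Algebra.FormallyEtale.comp S T A
  -- the local ring is étale over the local ring at `q`
  let Sq := Localization.AtPrime q
  have hP'q' : P'.under S = q := hP'q
  have hu : ∀ s : q.primeCompl, IsUnit (algebraMap S A s) := fun s => by
    rw [IsScalarTower.algebraMap_apply S T A]
    refine IsLocalization.map_units A (⟨algebraMap S T s, fun h => s.2 ?_⟩ : P'.primeCompl)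
    exact hP'q'.le h
  letI : Algebra Sq A := (IsLocalization.lift (M := q.primeCompl) (S := Sq) hu).toAlgebra
  haveI : IsScalarTower S Sq A := IsScalarTower.of_algebraMap_eq fun s =>
    (IsLocalization.lift_eq hu s).symm
  haveI : Algebra.FormallyEtale S Sq := Algebra.FormallyEtale.of_isLocalization q.primeCompl
  haveI : Algebra.FormallyEtale Sq A := Algebra.FormallyEtale.of_restrictScalars (R := S)
  haveI : Module.Flat T A := IsLocalization.flat A P'.primeCompl
  haveI : Module.Flat S A := Module.Flat.trans S T A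
  haveI : Module.Flat Sq A := (Module.flat_iff_of_isLocalization Sq q.primeCompl A).mpr inferInstance
  haveI : IsLocalHom (algebraMap Sq A) := ⟨fun x hx => by
    obtain ⟨a, s, rfl⟩ := IsLocalization.exists_mk'_eq q.primeCompl x
    refine (IsLocalization.AtPrime.isUnit_mk'_iff Sq q a s).2 fun ha => ?_
    have h1 : algebraMap Sq A (algebraMap S Sq a) = algebraMap T A (algebraMap S T a) := by
      rw [← IsScalarTower.algebraMap_apply, ← IsScalarTower.algebraMap_apply]
    have h2 : IsUnit (algebraMap Sq A (algebraMap S Sq a)) := by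
      rw [← IsLocalization.mk'_spec Sq a s, map_mul]
      exact hx.mul ((IsLocalization.map_units Sq s).map _)
    rw [h1] at h2
    exact (IsLocalization.AtPrime.isUnit_to_map_iff A P' _).1 h2 (hP'q'.ge ha)⟩
  haveI : Algebra.EssFiniteType T A := .of_isLocalization _ P'.primeCompl
  haveI : Algebra.EssFiniteType S A := .comp _ T _
  haveI : Algebra.EssFiniteType Sq A := .of_comp S _ _
  haveI : IsNoetherianRing Sq := IsLocalization.isNoetherianRing q.primeCompl Sq inferInstance
  obtain ⟨_, _⟩ := GrothLib.EtBasicB.normal_of_normal Sq A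
  -- the target is regular of the same dimension
  let R₀p := Localization.AtPrime p
  letI : Algebra R₀p Rp := Localization.AtPrime.algebraOfLiesOver p P
  haveI : Algebra.FormallyEtale R₀ Rp := by
    haveI : Algebra.FormallyEtale R' Rp := Algebra.FormallyEtale.of_isLocalization P.primeCompl
    exact Algebra.FormallyEtale.comp R₀ R' Rp
  haveI : Algebra.FormallyUnramified R₀p Rp := Algebra.FormallyUnramified.of_restrictScalars R₀ _ _
  haveI : Algebra.EssFiniteType R' Rp := .of_isLocalization _ P.primeCompl
  haveI : Algebra.EssFiniteType R₀ Rp := .comp _ R' _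
  haveI : Algebra.EssFiniteType R₀p Rp := .of_comp R₀ _ _
  haveI : Module.Flat R' Rp := IsLocalization.flat Rp P.primeCompl
  haveI : Module.Flat R₀ Rp := Module.Flat.trans R₀ R' Rp
  haveI : Module.Flat R₀p Rp := (Module.flat_iff_of_isLocalization R₀p p.primeCompl Rp).mpr inferInstance
  haveI : IsNoetherianRing R₀p := IsLocalization.isNoetherianRing p.primeCompl R₀p inferInstance
  haveI : IsRegularLocalRing Rp := (GrothLib.EtBasicB.isRegularLocalRing_iff_of_unramified R₀p Rp).2 inferInstance
  haveI := GrothLib.CMFree.isDomain_of_isRegularLocalRing Rp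
  have hdimA : ringKrullDim A = ringKrullDim Rp := by
    rw [GrothLib.EtBasicB.ringKrullDim_eq Sq A, GrothLib.EtBasicB.ringKrullDim_eq R₀p Rp,
      IsLocalization.AtPrime.ringKrullDim_eq_height q Sq, IsLocalization.AtPrime.ringKrullDim_eq_height p R₀p,
      hdim]
  haveI : Algebra.IsIntegral Rp A := inferInstance
  haveI : FaithfulSMul Rp A := by
    rw [faithfulSMul_iff_algebraMap_injective, injective_iff_map_eq_zero]
    intro r hr
    by_contra hr0
    have hker : Ideal.span {r} ≤ RingHom.ker (algebraMap Rp A) := by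
      rwa [Ideal.span_singleton_le_iff_mem, RingHom.mem_ker]
    let φ : Rp ⧸ Ideal.span {r} →+* A := Ideal.Quotient.lift _ (algebraMap Rp A) fun x hx => hker hx
    have hφ : φ.IsIntegral := fun x => by
      refine RingHom.IsIntegralElem.of_comp (f := Ideal.Quotient.mk (Ideal.span {r})) ?_
      show RingHom.IsIntegralElem (φ.comp (Ideal.Quotient.mk (Ideal.span {r}))) x
      simp only [φ, Ideal.Quotient.lift_comp_mk]
      exact Algebra.IsIntegral.isIntegral x
    have h2 := (add_le_add_left (dim_le_of_finite_of_injective φ hφ) 1).trans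
      (ringKrullDim_quotient_succ_le_of_nonZeroDivisor (mem_nonZeroDivisors_of_ne_zero hr0))
    rw [hdimA] at h2
    obtain ⟨k, hk⟩ : ∃ k : ℕ, ringKrullDim Rp = k := by
      obtain ⟨k, hk, -⟩ := GrothLib.RegLoc.exists_dim_eq (R := Rp)
      exact ⟨k, hk⟩
    rw [hk] at h2
    have h3 : k + 1 ≤ k := by exact_mod_cast h2
    omega
  obtain ⟨n, hn, -⟩ := GrothLib.RegLoc.exists_dim_eq (R := Rp)
  haveI : Algebra.Etale Rp A := by
    refine GrothLib.Purity.purity_of_finite_normal n Rp hn.le A fun Q _ hQ => ?_
    let Q₀ := Q.under S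
    haveI : Q.LiesOver Q₀ := ⟨rfl⟩
    have hle : Q₀ ≤ q := by
      intro s hs
      by_contra hsq
      exact (inferInstance : Q.IsPrime).ne_top (Ideal.eq_top_of_isUnit_mem _ hs (hu ⟨s, hsq⟩))
    have hQ₀ : Q₀.height ≤ 1 := by
      refine le_trans ?_ hQ
      rw [Ideal.height_eq_height_add_of_liesOver_of_hasGoingDown Q₀ Q]
      exact le_self_add
    haveI : Algebra.IsUnramifiedAt R₀ Q₀ := by
      rcases hQ₀.lt_or_eq with h0 | h0
      · obtain ⟨Q₁, hQ₁p, hQ₁q, hQ₁⟩ := exists_height_one_le q h1
        have h0' : Q₀.height = 0 := by simpa using h0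
        have hsub : Q₀ ≤ Q₁ := by
          -- the smallest prime below `q`
          haveI := hQ₁p
          let mn : Ideal S := (⊥ : Ideal Sq).comap (algebraMap S Sq)
          haveI : mn.IsPrime := Ideal.IsPrime.comap _
          have hmn : ∀ (I : Ideal S), I.IsPrime → I ≤ q → mn ≤ I := fun I hI hIq s hs => by
            obtain ⟨t, ht⟩ := (IsLocalization.map_eq_zero_iff q.primeCompl Sq s).1 hs
            exact (hI.mem_or_mem (ht ▸ I.zero_mem : (t : S) * s ∈ I)).resolve_left fun h => t.2 (hIq h)
          have hQm : Q₀ = mn := by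
            refine le_antisymm ?_ (hmn Q₀ inferInstance hle)
            by_contra hne
            have hlt : mn < Q₀ := lt_of_le_not_ge (hmn Q₀ inferInstance hle) hne
            have := Ideal.height_strict_mono_of_isPrime_of_isPrime hlt
            rw [h0'] at this
            exact not_lt_bot this
          rw [hQm]
          exact hmn Q₁ hQ₁p hQ₁q
        have hmem : (⟨Q₁, hQ₁p⟩ : PrimeSpectrum S) ∈ Algebra.unramifiedLocus R₀ S :=
          hunr Q₁ hQ₁p hQ₁q hQ₁
        exact Algebra.isOpen_unramifiedLocus.stableUnderGeneralization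
          (show (⟨Q₀, inferInstance⟩ : PrimeSpectrum S) ⤳ ⟨Q₁, hQ₁p⟩ from
            (PrimeSpectrum.le_iff_specializes _ _).1 hsub) hmem
      · exact hunr Q₀ inferInstance hle h0
    haveI : Algebra.IsUnramifiedAt S Q := by
      haveI : Algebra.FormallyUnramified A (Localization.AtPrime Q) :=
        Algebra.FormallyUnramified.of_isLocalization Q.primeCompl
      exact Algebra.FormallyUnramified.comp S A (Localization.AtPrime Q)
    haveI : IsScalarTower R₀ Rp A := IsScalarTower.to₁₃₄ R₀ R' Rp A
    haveI : Algebra.IsUnramifiedAt R₀ Q := Algebra.IsUnramifiedAt.comp Q₀ Q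
    exact Algebra.IsUnramifiedAt.of_restrictScalars R₀ Q
  haveI : IsScalarTower R₀ Rp A := IsScalarTower.to₁₃₄ R₀ R' Rp A
  haveI : Algebra.FormallyEtale R₀ A := Algebra.FormallyEtale.comp R₀ Rp A
  haveI : Module.Flat R₀ A := Module.Flat.trans R₀ Rp A
  haveI : Module.FaithfullyFlat Sq A := Module.FaithfullyFlat.of_flat_of_isLocalHom
  haveI : IsScalarTower R₀ Sq A := IsScalarTower.to₁₃₄ R₀ S Sq A
  haveI : Module.Flat R₀ Sq := flat_of_faithfullyFlat_tower R₀ Sq A
  letI : Algebra R₀p Sq := Localization.AtPrime.algebraOfLiesOver p q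
  haveI : Module.Flat R₀p Sq := (Module.flat_iff_of_isLocalization R₀p p.primeCompl Sq).mpr inferInstance
  haveI : Algebra.IsUnramifiedAt R₀ q := by
    show Algebra.FormallyUnramified R₀ Sq
    refine ⟨?_⟩
    haveI : Subsingleton (A ⊗[Sq] Ω[Sq⁄R₀]) :=
      (KaehlerDifferential.tensorKaehlerEquivOfFormallyEtale R₀ Sq A).toEquiv.subsingleton
    exact (Module.FaithfullyFlat.subsingleton_tensorProduct_iff_right Sq A).1 inferInstance
  exact GrothLib.LocProp.isEtaleAt_of_isUnramifiedAt_of_flat p q

end GrothLib.FEt21
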