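import Groth.Agent.Lib.FEt21.Affine

/-!
# Coequalisers of finite étale covers

They exist and the geometric fibre functors send them to coequalisers.
-/

set_option autoImplicit false
set_option backward.isDefEq.respectTransparency false

universe u

open CategoryTheory CategoryTheory.Limits AlgebraicGeometry Opposite

namespace GrothLib.FEt21

variable {X : Scheme.{u}} {Y Y' : FEt.Cat X} (u v : Y' ⟶ Y)

theorem app_comp_appLE {Z Z' : Scheme.{u}} {g : Z ⟶ X} {g' : Z' ⟶ X} (w : Z' ⟶ Z) (hw : w ≫ g = g')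
    (U : X.Opens) :
    g.app U ≫ w.appLE (g ⁻¹ᵁ U) (g' ⁻¹ᵁ U) (preimage_le_preimage hw U) = g'.app U := by
  subst hw
  simp only [Scheme.Hom.app_eq_appLE, Scheme.Hom.appLE_comp_appLE]

/-- A map of covers as a map of algebras on sections over an open of the base. -/
noncomputable def appHom {Z Z' : Scheme.{u}} {g : Z ⟶ X} {g' : Z' ⟶ X} (w : Z' ⟶ Z)
    (hw : w ≫ g = g') (U : X.Opens) :
    letI := (g.app U).hom.toAlgebra
    letI := (g'.app U).hom.toAlgebra
    Γ(Z, g ⁻¹ᵁ U) →ₐ[Γ(X, U)] Γ(Z', g' ⁻¹ᵁ U) :=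
  letI := (g.app U).hom.toAlgebra
  letI := (g'.app U).hom.toAlgebra
  { (w.appLE (g ⁻¹ᵁ U) (g' ⁻¹ᵁ U) (preimage_le_preimage hw U)).hom with
    commutes' := fun r => congr($(app_comp_appLE w hw U).hom r) }

theorem morphismRestrict_eq_SpecMap {Z : Scheme.{u}} (g : Z ⟶ X) {U : X.Opens} (hU : IsAffineOpen U) :
    g ∣_ U = (g ⁻¹ᵁ U).toSpecΓ ≫ Spec.map (g.app U) ≫ hU.isoSpec.inv := by
  rw [Scheme.Opens.toSpecΓ_naturality_assoc, IsAffineOpen.toSpecΓ_isoSpec_inv, Category.comp_id]

theorem prop_morphismRestrict {Z : Scheme.{u}} (g : Z ⟶ X) [IsAffineHom g] {U : X.Opens}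
    (hU : IsAffineOpen U) (hf : (g.app U).hom.Finite) (he : (g.app U).hom.Etale) :
    IsFinite (g ∣_ U) ∧ Etale (g ∣_ U) := by
  have h1 : IsFinite (Spec.map (g.app U)) := (IsFinite.SpecMap_iff _).2 hf
  have h2 : Etale (Spec.map (g.app U)) := HasRingHomProperty.Spec_iff.2 he
  have : IsIso (g ⁻¹ᵁ U).toSpecΓ := (hU.preimage g).isoSpec_hom ▸ inferInstance
  rw [morphismRestrict_eq_SpecMap g hU]
  exact ⟨inferInstance, inferInstance⟩

/-- The fibrewise conditions for a coequaliser. -/
def IsFibreCoeq {Z : FEt.Cat X} (q : Y ⟶ Z) : Prop :=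
  ∀ (Ω : Type u) [Field Ω] [IsAlgClosed Ω] (ξ : Spec (CommRingCat.of Ω) ⟶ X),
    Function.Surjective ((FEt.fiber ξ).map q) ∧
      ∀ a b, (FEt.fiber ξ).map q a = (FEt.fiber ξ).map q b →
        Relation.EqvGen (fun a b => ∃ w, (FEt.fiber ξ).map u w = a ∧ (FEt.fiber ξ).map v w = b) a b

theorem exists_isColimit_cofork :
    ∃ (Z : FEt.Cat X) (q : Y ⟶ Z) (w : u ≫ q = v ≫ q),
      Nonempty (IsColimit (Cofork.ofπ q w)) ∧ IsFibreCoeq u v q := by
  let f : Y.left ⟶ X := Y.hom
  let f' : Y'.left ⟶ X := Y'.hom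
  haveI : IsFinite f := Y.prop.1
  haveI : Etale f := Y.prop.2
  haveI : IsFinite f' := Y'.prop.1
  haveI : Etale f' := Y'.prop.2
  have hu : u.left ≫ f = f' := Over.w u.hom
  have hv : v.left ≫ f = f' := Over.w v.hom
  obtain ⟨Z, g, _, q, hq, hw, hsec⟩ := exists_coequaliser f f' u.left v.left hu hv
  -- the algebraic description over a good affine open
  have good : ∀ (U : X.Opens) (hU : IsAffineOpen U),
      letI := (g.app U).hom.toAlgebra
      letI := (f.app U).hom.toAlgebra
      letI := (f'.app U).hom.toAlgebra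
      ∃ e : Γ(Z, g ⁻¹ᵁ U) ≃ₐ[Γ(X, U)]
          AlgHom.equalizer (appHom u.left hu U) (appHom v.left hv U),
        ∀ z, (e z : Γ(Y.left, f ⁻¹ᵁ U)) = appHom q hq U z := by
    intro U hU
    letI := (g.app U).hom.toAlgebra
    letI := (f.app U).hom.toAlgebra
    letI := (f'.app U).hom.toAlgebra
    obtain ⟨hinj, hrange⟩ := hsec U hU
    refine ⟨AlgEquiv.ofBijective ((appHom q hq U).codRestrict
      (AlgHom.equalizer (appHom u.left hu U) (appHom v.left hv U)) fun z => (hrange _).2 ⟨z, rfl⟩)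
      ⟨fun a b h => hinj (congr_arg Subtype.val h), fun s => ?_⟩, fun z => rfl⟩
    obtain ⟨z, hz⟩ := (hrange s.1).1 s.2
    exact ⟨z, Subtype.ext hz⟩
  -- finite étale
  have hg : FEt.prop g := by
    choose U hU n m hxU hn hm using fun x => exists_affine_const f f' (X := X) x
    have hcov : iSup U = ⊤ := top_le_iff.1 fun x _ => TopologicalSpace.Opens.mem_iSup.2 ⟨x, hxU x⟩
    have key : ∀ x, IsFinite (g ∣_ U x) ∧ Etale (g ∣_ U x) := by
      intro x
      letI := (g.app (U x)).hom.toAlgebra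
      letI := (f.app (U x)).hom.toAlgebra
      letI := (f'.app (U x)).hom.toAlgebra
      have := finite_app_algebra f (hU x)
      have := etale_app_algebra f (hU x)
      have := finite_app_algebra f' (hU x)
      have := etale_app_algebra f' (hU x)
      obtain ⟨e, -⟩ := good (U x) (hU x)
      obtain ⟨_, _⟩ := etale_equalizer (appHom u.left hu (U x)) (appHom v.left hv (U x)) (hn x) (hm x)
      refine prop_morphismRestrict g (hU x) ?_ ?_
      · exact RingHom.finite_algebraMap.2 (Module.Finite.equiv e.symm.toLinearEquiv)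
      · exact RingHom.etale_algebraMap.2 (Algebra.Etale.of_equiv e.symm)
    exact ⟨(IsZariskiLocalAtTarget.iff_of_iSup_eq_top U hcov).2 fun x => (key x).1,
      (IsZariskiLocalAtTarget.iff_of_iSup_eq_top U hcov).2 fun x => (key x).2⟩
  let ZC : FEt.Cat X := MorphismProperty.Over.mk ⊤ g hg
  let qC : Y ⟶ ZC := MorphismProperty.Over.homMk q hq
  refine ⟨ZC, qC, MorphismProperty.Over.Hom.ext hw, ⟨?_⟩, fun Ω _ _ ξ => ?_⟩
  · refine Cofork.IsColimit.ofExistsUnique fun s => ?_
    have hs : s.π.left ≫ s.pt.hom = f := Over.w s.π.hom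
    have hc : u.left ≫ s.π.left = v.left ≫ s.π.left := congr_arg (fun t => t.left) s.condition
    have hmem : ∀ (U : X.affineOpens) (x : Γ(s.pt.left, s.pt.hom ⁻¹ᵁ U.1)),
        s.π.left.appLE _ (f ⁻¹ᵁ U.1) (preimage_le_preimage hs U.1) x ∈
          Set.range (q.appLE (g ⁻¹ᵁ U.1) (f ⁻¹ᵁ U.1) (preimage_le_preimage hq U.1)) := by
      intro U x
      refine ((hsec U.1 U.2).2 _).1 ?_
      rw [mem_eqSec]
      change (s.π.left.appLE _ _ _ ≫ u.left.appLE _ _ _) x =
        (s.π.left.appLE _ _ _ ≫ v.left.appLE _ _ _) x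
      rw [Scheme.Hom.appLE_comp_appLE, Scheme.Hom.appLE_comp_appLE]
      simp only [hc]
    let φ : ∀ U : X.affineOpens, Γ(s.pt.left, s.pt.hom ⁻¹ᵁ U.1) ⟶ Γ(Z, g ⁻¹ᵁ U.1) := fun U =>
      CommRingCat.ofHom
        { toFun := fun x => (hmem U x).choose
          map_one' := (hsec U.1 U.2).1 (by rw [(hmem U 1).choose_spec, map_one, map_one])
          map_mul' := fun a b => (hsec U.1 U.2).1 (by
            rw [(hmem U _).choose_spec, map_mul, map_mul, (hmem U a).choose_spec,
              (hmem U b).choose_spec])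
          map_zero' := (hsec U.1 U.2).1 (by rw [(hmem U 0).choose_spec, map_zero, map_zero])
          map_add' := fun a b => (hsec U.1 U.2).1 (by
            rw [(hmem U _).choose_spec, map_add, map_add, (hmem U a).choose_spec,
              (hmem U b).choose_spec]) }
    have hφspec : ∀ (U : X.affineOpens) x,
        q.appLE (g ⁻¹ᵁ U.1) (f ⁻¹ᵁ U.1) (preimage_le_preimage hq U.1) (φ U x) =
          s.π.left.appLE _ (f ⁻¹ᵁ U.1) (preimage_le_preimage hs U.1) x :=
      fun U x => (hmem U x).choose_spec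
    obtain ⟨h, hh, hhU⟩ := exists_hom (f := g) (g := s.pt.hom) φ
      (fun U => by
        ext r
        refine (hsec U.1 U.2).1 ?_
        change q.appLE _ _ _ (φ U _) = _
        rw [hφspec]
        exact (congr($(app_comp_appLE s.π.left hs U.1).hom r)).trans
          congr($(app_comp_appLE q hq U.1).hom r).symm)
      (fun U V i => by
        refine CommRingCat.hom_ext (RingHom.ext fun x => ?_)
        refine (hsec V.1 V.2).1 ?_
        change q.appLE _ _ _ (φ V _) = q.appLE _ _ _ (Z.presheaf.map _ _)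
        rw [hφspec, appLE_res g f hq i]
        exact (appLE_res s.pt.hom f hs i x).trans (congr_arg _ (hφspec U x).symm))
    have hqh : q ≫ h = s.π.left := by
      refine hom_ext_affine (f := f) (g := s.pt.hom) _ _ (by rw [Category.assoc, hh, hq]) hs
        fun U hU => ?_
      rw [← Scheme.Hom.appLE_comp_appLE q h _ (g ⁻¹ᵁ U) _ (preimage_le_preimage hh U)
        (preimage_le_preimage hq U), hhU ⟨U, hU⟩]
      ext x
      exact hφspec ⟨U, hU⟩ x
    refine ⟨MorphismProperty.Over.homMk h hh, MorphismProperty.Over.Hom.ext hqh, fun m hm => ?_⟩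
    refine MorphismProperty.Over.Hom.ext ?_
    have hm' : q ≫ m.left = q ≫ h := (congr_arg (fun t => t.left) hm).trans hqh.symm
    have hmw : m.left ≫ s.pt.hom = g := Over.w m.hom
    refine hom_ext_affine (f := g) (g := s.pt.hom) m.left h hmw hh fun U hU => ?_
    ext x
    refine (hsec U hU).1 ?_
    change (m.left.appLE _ _ _ ≫ q.appLE _ _ _) x = (h.appLE _ _ _ ≫ q.appLE _ _ _) x
    rw [Scheme.Hom.appLE_comp_appLE, Scheme.Hom.appLE_comp_appLE]
    simp only [hm']
    rfl
  · obtain ⟨U, hU, n, m, hξ, hn, hm⟩ := exists_affine_const f f' (X := X) (ξ default)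
    letI := (g.app U).hom.toAlgebra
    letI := (f.app U).hom.toAlgebra
    letI := (f'.app U).hom.toAlgebra
    letI : Algebra Γ(X, U) Ω := (evalHom ξ hξ).hom.toAlgebra
    have := finite_app_algebra f hU
    have := etale_app_algebra f hU
    have := finite_app_algebra f' hU
    have := etale_app_algebra f' hU
    obtain ⟨hext, hconn⟩ := points_equalizer (appHom u.left hu U) (appHom v.left hv U) hn hm Ω
    obtain ⟨e, he⟩ := good U hU
    let pt : (Γ(Y.left, f ⁻¹ᵁ U) →ₐ[Γ(X, U)] Ω) → FEt.fiberObj ξ Y := fun x =>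
      ⟨Spec.map (CommRingCat.ofHom x.toRingHom) ≫ (hU.preimage f).fromSpec,
        SpecMap_fromSpec_comp f ξ hU hξ _ (CommRingCat.hom_ext (RingHom.ext x.commutes))⟩
    refine ⟨fun t => ?_, fun a b hab => ?_⟩
    · obtain ⟨ψ, hψ, ht⟩ := exists_point_eq g ξ hU hξ t.1 t.2
      let χ : Γ(Z, g ⁻¹ᵁ U) →ₐ[Γ(X, U)] Ω :=
        { ψ.hom with commutes' := fun r => congr($(hψ).hom r) }
      obtain ⟨x, hx⟩ := hext (χ.comp e.symm.toAlgHom)
      refine ⟨pt x, Subtype.ext ?_⟩
      refine (point_comp f g q hq hU _).trans (Eq.trans ?_ ht.symm)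
      congr 1
      refine congr_arg Spec.map (CommRingCat.hom_ext (RingHom.ext fun z => ?_))
      change x (appHom q hq U z) = ψ z
      rw [← he z]
      exact (congr($hx (e z))).trans (congr_arg χ (e.symm_apply_apply z))
    · obtain ⟨ψa, hψa, ha⟩ := exists_point_eq f ξ hU hξ a.1 a.2
      obtain ⟨ψb, hψb, hb⟩ := exists_point_eq f ξ hU hξ b.1 b.2
      let xa : Γ(Y.left, f ⁻¹ᵁ U) →ₐ[Γ(X, U)] Ω :=
        { ψa.hom with commutes' := fun r => congr($(hψa).hom r) }
      let xb : Γ(Y.left, f ⁻¹ᵁ U) →ₐ[Γ(X, U)] Ω :=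
        { ψb.hom with commutes' := fun r => congr($(hψb).hom r) }
      have ea : pt xa = a := Subtype.ext ha.symm
      have eb : pt xb = b := Subtype.ext hb.symm
      have h1 : a.1 ≫ q = b.1 ≫ q := congr_arg Subtype.val hab
      rw [ha, hb, point_comp f g q hq hU, point_comp f g q hq hU] at h1
      have h2 := point_injective g hU h1
      have h3 : xa.comp (AlgHom.equalizer (appHom u.left hu U) (appHom v.left hv U)).val =
          xb.comp (AlgHom.equalizer (appHom u.left hu U) (appHom v.left hv U)).val := by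
        refine AlgHom.ext fun s => ?_
        obtain ⟨z, rfl⟩ := e.surjective s
        change xa (e z).1 = xb (e z).1
        rw [he]
        exact congr($(h2).hom z)
      rw [← ea, ← eb]
      refine (Relation.EqvGen.rec (motive := fun x y _ => Relation.EqvGen _ (pt x) (pt y))
        ?_ (fun x => Relation.EqvGen.refl _) (fun x y _ ih => Relation.EqvGen.symm _ _ ih)
        (fun x y z _ _ ih ih' => Relation.EqvGen.trans _ _ _ ih ih') (hconn xa xb h3))
      rintro x y ⟨w, rfl, rfl⟩
      refine Relation.EqvGen.rel _ _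
        ⟨⟨Spec.map (CommRingCat.ofHom w.toRingHom) ≫ (hU.preimage f').fromSpec,
          SpecMap_fromSpec_comp f' ξ hU hξ _ (CommRingCat.hom_ext (RingHom.ext w.commutes))⟩,
          Subtype.ext (point_comp f' f u.left hu hU _),
          Subtype.ext (point_comp f' f v.left hv hU _)⟩

end GrothLib.FEt21
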