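import Mathlib.AlgebraicGeometry.Morphisms.Flat
import Mathlib.AlgebraicGeometry.Morphisms.Proper
import Mathlib.Algebra.Category.Ring.Constructions
import Mathlib.AlgebraicGeometry.PullbackCarrier

/-!
# Connectedness of flat base changes when `O_Y = f_* O_X`
-/

set_option autoImplicit false
set_option backward.isDefEq.respectTransparency false

universe u

open CategoryTheory CategoryTheory.Limits AlgebraicGeometry TopologicalSpace Opposite

namespace GrothLib.FEt21

/-- A clopen subset is the locus where some section is invertible. -/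
theorem exists_basicOpen_eq_inf {X : Scheme.{u}} (C : Set X) (hC : IsClopen C) (W : X.Opens) :
    ∃ e : Γ(X, W), (X.basicOpen e : Set X) = C ∩ W := by
  let U : Bool → X.Opens := fun b => W ⊓ cond b ⟨C, hC.isOpen⟩ ⟨Cᶜ, hC.compl.isOpen⟩
  let sf : ∀ b, Γ(X, U b) := fun b => cond b 1 0
  have hsub : ∀ a b, a ≠ b → Subsingleton Γ(X, U a ⊓ U b) := fun a b hab => by
    have : U a ⊓ U b = ⊥ := by
      ext z
      cases a <;> cases b <;> simp_all [U]
    rw [this]
    exact CommRingCat.subsingleton_of_isTerminal X.sheaf.isTerminalOfEmpty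
  have hcompat : TopCat.Presheaf.IsCompatible X.sheaf.1 U sf := by
    intro a b
    by_cases hab : a = b
    · subst hab; rfl
    · haveI := hsub a b hab
      exact @Subsingleton.elim Γ(X, U a ⊓ U b) _ _ _
  obtain ⟨e, he, -⟩ := X.sheaf.existsUnique_gluing' U W (fun b => homOfLE inf_le_left)
    (fun x hx => by
      by_cases h : x ∈ C
      · exact Opens.mem_iSup.2 ⟨true, hx, h⟩
      · exact Opens.mem_iSup.2 ⟨false, hx, h⟩) sf hcompat
  refine ⟨e, Set.Subset.antisymm (fun x hx => ⟨by_contra fun hxC => ?_, X.basicOpen_le e hx⟩) fun x hx => ?_⟩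
  · have h0 := X.basicOpen_res e (homOfLE (inf_le_left : U false ≤ W)).op
    rw [show (X.presheaf.map (homOfLE (inf_le_left : U false ≤ W)).op).hom e = 0 from he false] at h0
    have hmem : x ∈ U false ⊓ X.basicOpen e := ⟨⟨X.basicOpen_le e hx, hxC⟩, hx⟩
    rw [← h0, Scheme.basicOpen_zero] at hmem
    exact hmem
  · have h1 := X.basicOpen_res e (homOfLE (inf_le_left : U true ≤ W)).op
    rw [show (X.presheaf.map (homOfLE (inf_le_left : U true ≤ W)).op).hom e = 1 from he true,
      Scheme.basicOpen_of_isUnit _ isUnit_one] at h1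
    exact (h1.le ⟨hx.2, hx.1⟩).2

variable {X Y Y' : Scheme.{u}} (f : X ⟶ Y) [IsProper f] (hf : ∀ U : Y.Opens, Function.Bijective (f.app U))
include hf

theorem surjective_of_app_bijective : Function.Surjective f := by
  intro y
  by_contra h
  have hcl : IsClosed (Set.range f) := f.isClosedMap.isClosed_range
  let U : Y.Opens := ⟨(Set.range f)ᶜ, hcl.isOpen_compl⟩
  have hU : y ∈ U := fun ⟨x, hx⟩ => h ⟨x, hx⟩
  have he : f ⁻¹ᵁ U = ⊥ := Opens.ext (Set.eq_empty_of_forall_notMem fun x hx => hx ⟨x, rfl⟩)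
  haveI : Subsingleton Γ(X, f ⁻¹ᵁ U) := by
    rw [he]; exact CommRingCat.subsingleton_of_isTerminal X.sheaf.isTerminalOfEmpty
  have h1 : (1 : Γ(Y, U)) = 0 := (hf U).1 (Subsingleton.elim _ _)
  have := Y.basicOpen_of_isUnit (U := U) (f := (0 : Γ(Y, U))) (by rw [← h1]; exact isUnit_one)
  rw [Scheme.basicOpen_zero] at this
  rw [← this] at hU
  exact hU

/-- Flat affine base changes of a proper morphism with `O_Y = f_* O_X` have connected source. -/
theorem connectedSpace_pullback (g : Y' ⟶ Y) [Flat g] [IsAffineHom g] [ConnectedSpace Y'] :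
    ConnectedSpace ↥(pullback f g) := by
  haveI : Surjective f := ⟨surjective_of_app_bijective f hf⟩
  let π := pullback.snd f g
  haveI : Nonempty ↥(pullback f g) := by
    obtain ⟨x, hx⟩ := π.surjective (Classical.arbitrary Y')
    exact ⟨x⟩
  refine { toPreconnectedSpace := preconnectedSpace_iff_clopen.2 fun C hC => ?_, toNonempty := ‹_› }
  have hsat : ∀ p p', π p = π p' → p ∈ C → p' ∈ C := by
    intro p p' hpp hp
    obtain ⟨_, ⟨V, hV, rfl⟩, hxV, -⟩ := Y.isBasis_affineOpens.exists_subset_of_mem_open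
      (Set.mem_univ (g (π p))) isOpen_univ
    let W := g ⁻¹ᵁ V
    have hW : IsAffineOpen W := hV.preimage g
    have hle2 : π ⁻¹ᵁ W ≤ pullback.fst f g ⁻¹ᵁ (f ⁻¹ᵁ V) := by
      rw [← Scheme.Hom.comp_preimage, ← Scheme.Hom.comp_preimage, pullback.condition]
    have hUY : π ⁻¹ᵁ W = pullback.fst f g ⁻¹ᵁ (f ⁻¹ᵁ V) ⊓ π ⁻¹ᵁ W := (inf_eq_right.2 hle2).symm
    have hQ : IsQuasiSeparated (α := X) (f ⁻¹ᵁ V) :=
      f.isQuasiSeparated_preimage hV.isQuasiSeparated
    haveI := isIso_pushoutSection_of_isQuasiSeparated_of_flat_right (IsPullback.of_hasPullback f g)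
      (le_refl W) (le_refl (f ⁻¹ᵁ V)) hUY hV hW (f.isCompact_preimage hV.isCompact) hQ
    have hpo := (isIso_pushoutSection_iff (IsPullback.of_hasPullback f g) (le_refl W)
      (le_refl (f ⁻¹ᵁ V)) hUY).1 ‹_›
    rw [Scheme.Hom.appLE_eq_app, Scheme.Hom.appLE_eq_app] at hpo
    haveI : IsIso (f.app V) := (ConcreteCategory.isIso_iff_bijective _).2 (hf V)
    have hiso : IsIso ((pullback.snd f g).appLE W (π ⁻¹ᵁ W) le_rfl) := hpo.isIso_inr_of_isIso
    obtain ⟨e, he⟩ := exists_basicOpen_eq_inf C hC (π ⁻¹ᵁ W)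
    obtain ⟨e', rfl⟩ := (ConcreteCategory.bijective_of_isIso ((pullback.snd f g).appLE W (π ⁻¹ᵁ W) le_rfl)).2 e
    rw [Scheme.Hom.appLE_eq_app] at he
    change (Scheme.basicOpen _ ((π.app W).hom e') : Set ↥(pullback f g)) = _ at he
    rw [← Scheme.preimage_basicOpen] at he
    have h1 : p ∈ (π ⁻¹ᵁ Y'.basicOpen e') := he.ge ⟨hp, hxV⟩
    have h2 : p' ∈ (π ⁻¹ᵁ Y'.basicOpen e') := by
      show π p' ∈ Y'.basicOpen e'
      rw [← hpp]; exact h1
    exact (he.le h2).1
  have hsurj : Function.Surjective π := π.surjective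
  have himg : IsClopen (π '' C) := by
    refine ⟨π.isClosedMap _ hC.1, ?_⟩
    have : (π '' C)ᶜ = π '' Cᶜ := by
      ext z
      obtain ⟨p, rfl⟩ := hsurj z
      constructor
      · exact fun hz => ⟨p, fun hp => hz ⟨p, hp, rfl⟩, rfl⟩
      · rintro ⟨q, hq, hqp⟩ ⟨r, hr, hrp⟩
        exact hq (hsat r q (hrp.trans hqp.symm) hr)
    rw [← isClosed_compl_iff, this]
    exact π.isClosedMap _ hC.compl.1
  rcases isClopen_iff.1 himg with h | h
  · exact Or.inl (Set.image_eq_empty.1 h)
  · refine Or.inr (Set.eq_univ_of_forall fun p => ?_)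
    obtain ⟨q, hq, hqp⟩ : π p ∈ π '' C := h ▸ Set.mem_univ _
    exact hsat q p hqp hq

end GrothLib.FEt21
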