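import Groth.Agent.Lib.TraceEtale.Basic
import Mathlib.RingTheory.Unramified.Locus
import Mathlib.RingTheory.Ideal.KrullsHeightTheorem
import Mathlib.RingTheory.Ideal.GoingUp

/-!
# A finite free algebra which is unramified in codimension one is unramified
-/

set_option autoImplicit false
set_option linter.style.haveILetI false

universe u

open TensorProduct

namespace GrothLib.FEt21

/-- Along an integral algebra the height of a prime is at most that of the prime below. -/
theorem height_le_under {R A : Type u} [CommRing R] [CommRing A] [Algebra R A] [Algebra.IsIntegral R A]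
    (Q : Ideal A) [Q.IsPrime] : Q.height ≤ (Q.under R).height := by
  show (PrimeSpectrum.asIdeal (⟨Q, ‹_›⟩ : PrimeSpectrum A)).height ≤ (PrimeSpectrum.asIdeal (⟨Q.under R, inferInstance⟩ : PrimeSpectrum R)).height
  rw [PrimeSpectrum.height_eq_orderHeight, PrimeSpectrum.height_eq_orderHeight]
  refine Order.height_le_height_apply_of_strictMono (PrimeSpectrum.comap (algebraMap R A)) (fun I J hIJ => ?_)
    ⟨Q, ‹_›⟩
  obtain ⟨hle, x, hxJ, hxI⟩ := SetLike.lt_iff_le_and_exists.mp (show I.asIdeal < J.asIdeal from hIJ)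
  exact Ideal.comap_lt_comap_of_integral_mem_sdiff (R := R) hle ⟨hxJ, hxI⟩ (Algebra.IsIntegral.isIntegral x)

/-- In a Noetherian ring every non-unit of a prime of positive height lies in a prime of height exactly one. -/
theorem exists_height_one_mem {R : Type u} [CommRing R] [IsNoetherianRing R] (δ : R) :
    ∀ (n : ℕ) (q : Ideal R) (_ : q.IsPrime), q.height = ((n + 1 : ℕ) : ℕ∞) → δ ∈ q →
      ∃ P : Ideal R, P.IsPrime ∧ P.height = 1 ∧ δ ∈ P := by
  intro n
  induction n with
  | zero => exact fun q hq h hδ => ⟨q, hq, by simpa using h, hδ⟩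
  | succ n ih =>
    intro q hq hh hδ
    let x : PrimeSpectrum R := ⟨q, hq⟩
    have hx : Order.height x = ((n + 1 + 1 : ℕ) : ℕ∞) := by
      rw [← PrimeSpectrum.height_eq_orderHeight]; exact hh
    obtain ⟨l, hl, hlen⟩ := Order.exists_series_of_height_eq_coe _ hx
    have hidx : ∀ i : Fin (l.length + 1), (l i).asIdeal.height = ((i : ℕ) : ℕ∞) := fun i => by
      rw [PrimeSpectrum.height_eq_orderHeight, Order.height_eq_index_of_length_eq_height_last
        (by rw [hlen, hl, hx]) i]
    let i₀ : Fin (l.length + 1) := ⟨n, by omega⟩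
    let i₁ : Fin (l.length + 1) := ⟨n + 1, by omega⟩
    have h01 : (l i₀).asIdeal < (l i₁).asIdeal := l.strictMono (show i₀ < i₁ from Nat.lt_succ_self n)
    have h1q : (l i₁).asIdeal < q := by
      have h := l.strictMono (show i₁ < Fin.last _ from show n + 1 < l.length by omega)
      rwa [show l (Fin.last _) = l.last from rfl, hl] at h
    haveI := (l i₀).isPrime
    haveI := (l i₁).isPrime
    by_cases hδ0 : δ ∈ (l i₀).asIdeal
    · exact ih _ inferInstance (hidx i₁) (h01.le hδ0)
    let q₀ := (l i₀).asIdeal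
    have hle : q₀ ⊔ Ideal.span {δ} ≤ q :=
      sup_le (h01.le.trans h1q.le) ((Ideal.span_singleton_le_iff_mem q).2 hδ)
    obtain ⟨P, hP, hPq⟩ := Ideal.exists_minimalPrimes_le hle
    haveI := hP.1.1
    have hP1 : q₀ < P := lt_of_le_of_ne (le_sup_left.trans hP.1.2)
      fun h => hδ0 (by rw [show (l i₀).asIdeal = P from h]; exact hP.1.2 (Ideal.mem_sup_right (Ideal.mem_span_singleton_self δ)))
    have hP2 : P < q := by
      refine lt_of_le_of_ne hPq fun h => ?_
      let f := Ideal.Quotient.mk q₀
      have hsurj : Function.Surjective f := Ideal.Quotient.mk_surjective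
      have hmin : P.map f ∈ ((Ideal.span {δ}).map f).minimalPrimes := by
        have hker : RingHom.ker f = q₀ := Ideal.mk_ker
        refine ⟨⟨Ideal.map_isPrime_of_surjective hsurj (hker.le.trans hP1.le),
          Ideal.map_mono (le_sup_right.trans hP.1.2)⟩, fun J hJ hJP => ?_⟩
        haveI := hJ.1
        have h1 : P ≤ J.comap f := hP.2 ⟨inferInstance, sup_le (hker.ge.trans (Ideal.comap_mono bot_le))
          (Ideal.map_le_iff_le_comap.1 hJ.2)⟩ (fun a ha => by
            have h2 : a ∈ (P.map f).comap f := hJP ha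
            rwa [Ideal.comap_map_of_surjective' f hsurj, hker, sup_eq_left.2 hP1.le] at h2)
        exact Ideal.map_le_iff_le_comap.2 h1
      haveI : ((Ideal.span {δ}).map f).IsPrincipal := by
        rw [Ideal.map_span, Set.image_singleton]; exact ⟨⟨_, rfl⟩⟩
      have h1 := Ideal.height_le_one_of_isPrincipal_of_mem_minimalPrimes _ (P.map f) hmin
      -- but `q₀ < q₁ < q` maps to a chain of length two
      subst h
      haveI : (P.map f).IsPrime := hmin.1.1
      haveI : ((l i₁).asIdeal.map f).IsPrime :=
        Ideal.map_isPrime_of_surjective hsurj (Ideal.mk_ker.le.trans h01.le)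
      have hc : ∀ {I : Ideal R}, q₀ ≤ I → (I.map f).comap f = I := fun {I} hI => by
        rw [Ideal.comap_map_of_surjective' f hsurj, Ideal.mk_ker, sup_eq_left.2 hI]
      have h2 : (⊥ : Ideal (R ⧸ q₀)) < (l i₁).asIdeal.map f := bot_lt_iff_ne_bot.2 fun h0 => by
        have := hc h01.le
        rw [h0, ← RingHom.ker_eq_comap_bot, Ideal.mk_ker] at this
        exact h01.ne this
      have h3 : (l i₁).asIdeal.map f < P.map f := lt_of_le_of_ne (Ideal.map_mono h1q.le) fun h0 => by
        have := congrArg (Ideal.comap f) h0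
        rw [hc h01.le, hc hP1.le] at this
        exact h1q.ne this
      haveI : (⊥ : Ideal (R ⧸ q₀)).IsPrime := Ideal.isPrime_bot
      have h4 := Ideal.height_strict_mono_of_isPrime_of_isPrime h2
      have h5 := Ideal.height_strict_mono_of_isPrime_of_isPrime h3
      exact absurd (lt_of_lt_of_le (lt_of_le_of_lt (Order.one_le_iff_ne_zero.2 h4.ne_bot) h5) h1) (lt_irrefl _)
    have h5 := Ideal.height_strict_mono_of_isPrime_of_isPrime hP1
    have h6 := Ideal.height_strict_mono_of_isPrime_of_isPrime hP2
    rw [hidx i₀] at h5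
    rw [hh] at h6
    obtain ⟨m, hm⟩ := ENat.ne_top_iff_exists.1 h6.ne_top
    rw [← hm] at h5 h6
    refine ih P inferInstance ?_ (hP.1.2 (Ideal.mem_sup_right (Ideal.mem_span_singleton_self δ)))
    rw [← hm]
    have h5' : n < m := by exact_mod_cast h5
    have h6' : m < n + 1 + 1 := by exact_mod_cast h6
    exact_mod_cast (by omega : m = n + 1)

/-- A finite free algebra over a Noetherian local ring of positive dimension, unramified at all primes of
height one, is unramified. -/
theorem formallyUnramified_of_height_one {R A : Type u} [CommRing R] [IsNoetherianRing R] [IsLocalRing R]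
    [CommRing A] [Algebra R A] [Module.Finite R A] [Module.Free R A]
    (hdim : 1 ≤ (IsLocalRing.maximalIdeal R).height)
    (h : ∀ Q : Ideal A, ∀ _ : Q.IsPrime, Q.height = 1 → Algebra.IsUnramifiedAt R Q) :
    Algebra.FormallyUnramified R A := by
  classical
  let b := Module.Free.chooseBasis R A
  refine (GrothLib.TraceEtale.formallyUnramified_iff_isUnit_det b).mpr ?_
  by_contra hu
  set δ := (Algebra.traceMatrix R b).det
  obtain ⟨N, hN⟩ := ENat.ne_top_iff_exists.1
    (Ideal.height_ne_top (I := IsLocalRing.maximalIdeal R) Ideal.IsPrime.ne_top')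
  obtain ⟨N', rfl⟩ : ∃ N', N = N' + 1 := ⟨N - 1, by
    rw [← hN] at hdim
    have : 1 ≤ N := by exact_mod_cast hdim
    omega⟩
  obtain ⟨P, hP', hP1, hδP⟩ :=
    exists_height_one_mem δ N' (IsLocalRing.maximalIdeal R) inferInstance hN.symm hu
  haveI := hP'
  let RP := Localization.AtPrime P
  haveI : Algebra.FiniteType R A := inferInstance
  haveI : IsNoetherianRing A := IsNoetherianRing.of_finite R A
  haveI : Module.Finite A Ω[A⁄R] := inferInstance
  obtain ⟨s, hsP, hs⟩ : ∃ s ∈ P.primeCompl, algebraMap R A s ∈ Module.annihilator A Ω[A⁄R] := by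
    by_contra! hc
    obtain ⟨Q, hQ, hle, hdis⟩ := Ideal.exists_le_prime_disjoint (Module.annihilator A Ω[A⁄R])
      (Algebra.algebraMapSubmonoid A P.primeCompl) (Set.disjoint_left.2 fun x hx hxs => by
        obtain ⟨s, hs, rfl⟩ := hxs
        exact hc s hs hx)
    haveI := hQ
    have hQP : Q.under R ≤ P := fun r hr => by
      by_contra hrP
      exact Set.disjoint_left.1 hdis hr ⟨r, hrP, rfl⟩
    obtain ⟨Q₁, hQQ₁, hQ₁, hQ₁P⟩ := Ideal.exists_ideal_over_prime_of_isIntegral P Q hQP
    haveI := hQ₁
    haveI : Q₁.LiesOver P := ⟨hQ₁P.symm⟩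
    have h1 : Q₁.height = 1 := by
      refine le_antisymm ((height_le_under (R := R) Q₁).trans (le_of_eq ?_)) ?_
      · rw [show Q₁.under R = P from hQ₁P, hP1]
      · rw [Ideal.height_eq_height_add_of_liesOver_of_hasGoingDown P Q₁, hP1]
        exact le_self_add
    have h2 : (⟨Q, hQ⟩ : PrimeSpectrum A) ∈ Algebra.unramifiedLocus R A :=
      Algebra.isOpen_unramifiedLocus.stableUnderGeneralization
        (show (⟨Q, hQ⟩ : PrimeSpectrum A) ⤳ ⟨Q₁, hQ₁⟩ from (PrimeSpectrum.le_iff_specializes _ _).1 hQQ₁)
        (h Q₁ hQ₁ h1)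
    rw [Algebra.unramifiedLocus_eq_compl_support, Module.support_eq_zeroLocus] at h2
    exact h2 hle
  have hur : Algebra.FormallyUnramified RP (RP ⊗[R] A) := by
    letI : Algebra A (RP ⊗[R] A) := Algebra.TensorProduct.rightAlgebra
    haveI : Subsingleton (RP ⊗[R] Ω[A⁄R]) := by
      refine subsingleton_of_forall_eq 0 fun z => ?_
      obtain ⟨v, hv⟩ := (IsLocalization.map_units RP (⟨s, hsP⟩ : P.primeCompl)).exists_left_inv
      induction z using TensorProduct.induction_on with
      | zero => rfl
      | tmul c w =>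
        rw [← one_mul c, ← hv, mul_assoc, mul_comm (algebraMap R RP s) c, ← mul_assoc, mul_comm (v * c),
          ← Algebra.smul_def, TensorProduct.smul_tmul,
          show s • w = 0 from (algebra_compatible_smul A s w).trans (Module.mem_annihilator.mp hs w),
          TensorProduct.tmul_zero]
      | add a b ha hb => rw [ha, hb, add_zero]
    exact Algebra.formallyUnramified_iff _ _ |>.mpr
      ((KaehlerDifferential.tensorKaehlerEquivBase R RP A (RP ⊗[R] A)).symm.toEquiv.subsingleton)
  have h3 := (GrothLib.TraceEtale.formallyUnramified_iff_isUnit_det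
    (Algebra.TensorProduct.basis RP b)).mp hur
  rw [GrothLib.TraceEtale.traceMatrix_baseChange, ← RingHom.mapMatrix_apply, ← RingHom.map_det] at h3
  exact (IsLocalization.AtPrime.isUnit_to_map_iff RP P δ).1 h3 hδP

end GrothLib.FEt21
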