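import Groth.Agent.Lib.FEt21.BranchLocus
import Groth.Agent.Lib.FEt21.FreeCodimOne
import Mathlib.RingTheory.Unramified.LocalStructure
import Mathlib.RingTheory.LocalRing.Module

/-!
# Purity of the branch locus of a flat quasi-finite morphism
-/

set_option autoImplicit false
set_option linter.style.haveILetI false
set_option linter.unusedSectionVars false

universe u

open IsLocalRing TensorProduct

namespace GrothLib.FEt21

/-- **Purity of the branch locus for flat morphisms**, local algebraic form. -/
theorem isEtaleAt_of_flat_branch {R₀ S : Type u} [CommRing R₀] [IsNoetherianRing R₀] [CommRing S]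
    [Algebra R₀ S] [Algebra.FiniteType R₀ S] (p : Ideal R₀) [p.IsPrime] (q : Ideal S) [q.IsPrime]
    [q.LiesOver p] [Algebra.QuasiFiniteAt R₀ q] [Module.Flat R₀ S] (h1 : 1 ≤ q.height)
    (hunr : ∀ (Q : Ideal S) (_ : Q.IsPrime), Q ≤ q → Q.height = 1 → Algebra.IsUnramifiedAt R₀ Q) :
    Algebra.IsEtaleAt R₀ q := by
  classical
  haveI : IsNoetherianRing S := Algebra.FiniteType.isNoetherianRing R₀ S
  haveI : Algebra.FinitePresentation R₀ S := Algebra.FinitePresentation.of_finiteType.mp inferInstance
  obtain ⟨R', _, _, _, P, _, _, e, he, P', _, _, hP'q, heP', -, _, huniq⟩ :=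
    Algebra.exists_etale_isIdempotentElem_forall_liesOver_eq (R := R₀) p q
  haveI : IsNoetherianRing R' := Algebra.FiniteType.isNoetherianRing R₀ R'
  let T := R' ⊗[R₀] S
  letI : Algebra S T := Algebra.TensorProduct.rightAlgebra
  haveI : IsScalarTower R₀ S T := IsScalarTower.of_algebraMap_eq fun r => by
    show _ = (1 : R') ⊗ₜ[R₀] algebraMap R₀ S r
    rw [Algebra.TensorProduct.algebraMap_apply, Algebra.algebraMap_eq_smul_one,
      Algebra.algebraMap_eq_smul_one, TensorProduct.smul_tmul]
  haveI : Algebra.IsPushout R₀ R' S T := inferInstance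
  haveI : Algebra.Etale S T := Algebra.Etale.of_equiv
    (Algebra.IsPushout.equiv R₀ S R' T : S ⊗[R₀] R' ≃ₐ[S] T)
  let Ae := Localization.Away e
  let M := Algebra.algebraMapSubmonoid Ae P.primeCompl
  let A := Localization M
  let Rp := Localization.AtPrime P
  haveI : IsLocalization (P.primeCompl.map (algebraMap R' Ae)) A := inferInstanceAs (IsLocalization M A)
  letI : Algebra Rp A := localizationAlgebra P.primeCompl Ae
  haveI : IsScalarTower R' Rp A := IsScalarTower.of_algebraMap_eq fun r => by
    rw [IsScalarTower.algebraMap_apply R' Ae A]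
    exact (IsLocalization.map_eq _ r).symm
  haveI : Module.Finite Rp A := Module.Finite.of_isLocalization R' Ae P.primeCompl
  -- the algebra is the local ring at the chosen prime
  haveI : IsLocalization (IsLocalization.localizationLocalizationSubmodule (Submonoid.powers e) M) A :=
    IsLocalization.localization_localization_isLocalization (Submonoid.powers e) M A
  have hzero : (0 : Ae) ∉ M := by
    rintro ⟨s, hs, h0⟩
    rw [IsScalarTower.algebraMap_apply R' T Ae] at h0
    obtain ⟨⟨_, k, rfl⟩, hk⟩ := (IsLocalization.map_eq_zero_iff (Submonoid.powers e) Ae _).1 h0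
    have hmem : e ^ k * algebraMap R' T s ∈ P' := hk ▸ P'.zero_mem
    rcases (inferInstance : P'.IsPrime).mem_or_mem hmem with h | h
    · exact heP' ((inferInstance : P'.IsPrime).mem_of_pow_mem k h)
    · exact hs (by rw [(Ideal.LiesOver.over : P = P'.under R')]; exact h)
  haveI : Nontrivial A := by
    refine (subsingleton_or_nontrivial A).resolve_left fun h => hzero ?_
    obtain ⟨c, hc⟩ := (IsLocalization.map_eq_zero_iff M A (1 : Ae)).1 (Subsingleton.elim _ _)
    rw [mul_one] at hc
    exact hc ▸ c.2
  have hmax : ∀ m : Ideal A, m.IsMaximal → m.comap (algebraMap T A) = P' := by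
    intro m hm
    haveI : (m.comap (algebraMap T A)).IsPrime := Ideal.IsPrime.comap _
    refine huniq _ inferInstance ⟨?_⟩ fun hem => hm.ne_top (Ideal.eq_top_of_isUnit_mem _ hem ?_)
    · show P = (m.comap (algebraMap T A)).comap (algebraMap R' T)
      rw [Ideal.comap_comap, ← IsScalarTower.algebraMap_eq R' T A, IsScalarTower.algebraMap_eq R' Rp A,
        ← Ideal.comap_comap]
      haveI : (m.comap (algebraMap Rp A)).IsMaximal := Ideal.isMaximal_comap_of_isIntegral_of_isMaximal m
      rw [IsLocalRing.eq_maximalIdeal ‹(m.comap (algebraMap Rp A)).IsMaximal›]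
      exact (IsLocalization.AtPrime.under_maximalIdeal Rp P).symm
    · rw [IsScalarTower.algebraMap_apply T Ae A]
      exact (IsLocalization.Away.algebraMap_isUnit e).map _
  obtain ⟨m₀, hm₀⟩ := Ideal.exists_maximal A
  haveI : IsLocalization.AtPrime A P' := by
    refine IsLocalization.of_le (IsLocalization.localizationLocalizationSubmodule (Submonoid.powers e) M)
      P'.primeCompl (fun n hn hnP => ?_) fun r hr => ?_
    · have hu : IsUnit (algebraMap T A n) :=
        IsLocalization.map_units A (⟨n, hn⟩ : IsLocalization.localizationLocalizationSubmodule (Submonoid.powers e) M)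
      exact hm₀.ne_top (Ideal.eq_top_of_isUnit_mem _ (show algebraMap T A n ∈ m₀ by
        rw [← Ideal.mem_comap, hmax m₀ hm₀]; exact hnP) hu)
    · by_contra hnu
      obtain ⟨m, hm, hrm⟩ := exists_max_ideal_of_mem_nonunits hnu
      exact hr (by rw [← hmax m hm]; exact hrm)
  haveI : IsLocalRing A := IsLocalization.AtPrime.isLocalRing A P'
  haveI : IsNoetherianRing A := IsLocalization.isNoetherianRing P'.primeCompl A
    (Algebra.FiniteType.isNoetherianRing S T)
  haveI : Algebra.FormallyEtale T A := Algebra.FormallyEtale.of_isLocalization P'.primeCompl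
  haveI : Algebra.FormallyEtale S A := Algebra.FormallyEtale.comp S T A
  -- the local ring is étale over the local ring at `q`
  let Sq := Localization.AtPrime q
  have hP'q' : P'.under S = q := hP'q
  have hu : ∀ s : q.primeCompl, IsUnit (algebraMap S A s) := fun s => by
    rw [IsScalarTower.algebraMap_apply S T A]
    refine IsLocalization.map_units A (⟨algebraMap S T s, fun h => s.2 ?_⟩ : P'.primeCompl)
    exact hP'q'.le h
  letI : Algebra Sq A := (IsLocalization.lift (M := q.primeCompl) (S := Sq) hu).toAlgebra
  haveI : IsScalarTower S Sq A := IsScalarTower.of_algebraMap_eq fun s =>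
    (IsLocalization.lift_eq hu s).symm
  haveI : Algebra.FormallyEtale S Sq := Algebra.FormallyEtale.of_isLocalization q.primeCompl
  haveI : Algebra.FormallyEtale Sq A := Algebra.FormallyEtale.of_restrictScalars (R := S)
  haveI : Module.Flat T A := IsLocalization.flat A P'.primeCompl
  haveI : Module.Flat S A := Module.Flat.trans S T A
  haveI : Module.Flat Sq A := (Module.flat_iff_of_isLocalization Sq q.primeCompl A).mpr inferInstance
  haveI : IsLocalHom (algebraMap Sq A) := ⟨fun x hx => by
    obtain ⟨a, s, rfl⟩ := IsLocalization.exists_mk'_eq q.primeCompl x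
    refine (IsLocalization.AtPrime.isUnit_mk'_iff Sq q a s).2 fun ha => ?_
    have h1 : algebraMap Sq A (algebraMap S Sq a) = algebraMap T A (algebraMap S T a) := by
      rw [← IsScalarTower.algebraMap_apply, ← IsScalarTower.algebraMap_apply]
    have h2 : IsUnit (algebraMap Sq A (algebraMap S Sq a)) := by
      rw [← IsLocalization.mk'_spec Sq a s, map_mul]
      exact hx.mul ((IsLocalization.map_units Sq s).map _)
    rw [h1] at h2
    exact (IsLocalization.AtPrime.isUnit_to_map_iff A P' _).1 h2 (hP'q'.ge ha)⟩
  haveI : Algebra.EssFiniteType T A := .of_isLocalization _ P'.primeCompl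
  haveI : Algebra.EssFiniteType S A := .comp _ T _
  haveI : Algebra.EssFiniteType Sq A := .of_comp S _ _
  haveI : IsNoetherianRing Sq := IsLocalization.isNoetherianRing q.primeCompl Sq inferInstance
  -- the local ring upstairs is free over the target
  let R₀p := Localization.AtPrime p
  letI : Algebra R₀p Rp := Localization.AtPrime.algebraOfLiesOver p P
  haveI : Algebra.FormallyEtale R₀ Rp := by
    haveI : Algebra.FormallyEtale R' Rp := Algebra.FormallyEtale.of_isLocalization P.primeCompl
    exact Algebra.FormallyEtale.comp R₀ R' Rp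
  haveI : Algebra.FormallyUnramified R₀p Rp := Algebra.FormallyUnramified.of_restrictScalars R₀ _ _
  haveI : Algebra.EssFiniteType R' Rp := .of_isLocalization _ P.primeCompl
  haveI : Algebra.EssFiniteType R₀ Rp := .comp _ R' _
  haveI : Algebra.EssFiniteType R₀p Rp := .of_comp R₀ _ _
  haveI : Module.Flat R' Rp := IsLocalization.flat Rp P.primeCompl
  haveI : Module.Flat R₀ Rp := Module.Flat.trans R₀ R' Rp
  haveI : Module.Flat R₀p Rp := (Module.flat_iff_of_isLocalization R₀p p.primeCompl Rp).mpr inferInstance
  haveI : IsNoetherianRing R₀p := IsLocalization.isNoetherianRing p.primeCompl R₀p inferInstance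
  haveI : IsNoetherianRing Rp := IsLocalization.isNoetherianRing P.primeCompl Rp inferInstance
  haveI : Module.Flat R' T := inferInstance
  haveI : Module.Flat R' A := Module.Flat.trans R' T A
  haveI : Module.Flat Rp A := (Module.flat_iff_of_isLocalization Rp P.primeCompl A).mpr inferInstance
  haveI : Module.Free Rp A := Module.free_of_flat_of_isLocalRing
  haveI : Algebra.Etale Rp A := by
    haveI : Algebra.FinitePresentation Rp A := Algebra.FinitePresentation.of_finiteType.mp inferInstance
    haveI : Algebra.FormallyUnramified Rp A := ?_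
    · exact Algebra.Etale.of_formallyUnramified_of_flat
    have hdimR : 1 ≤ (IsLocalRing.maximalIdeal Rp).height := by
      have h2 : ringKrullDim A = q.height := by
        rw [GrothLib.EtBasicB.ringKrullDim_eq Sq A, IsLocalization.AtPrime.ringKrullDim_eq_height q Sq]
      rw [← IsLocalRing.maximalIdeal_height_eq_ringKrullDim] at h2
      refine le_trans ?_ ((height_le_under (R := Rp) (IsLocalRing.maximalIdeal A)).trans
        (Ideal.height_mono (IsLocalRing.le_maximalIdeal Ideal.IsPrime.ne_top')))
      rw [WithBot.coe_inj.1 h2]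
      exact h1
    refine formallyUnramified_of_height_one hdimR fun Q _ hQ => ?_
    let Q₀ := Q.under S
    haveI : Q.LiesOver Q₀ := ⟨rfl⟩
    have hle : Q₀ ≤ q := by
      intro s hs
      by_contra hsq
      exact (inferInstance : Q.IsPrime).ne_top (Ideal.eq_top_of_isUnit_mem _ hs (hu ⟨s, hsq⟩))
    have hQ₀ : Q₀.height = 1 := by
      haveI : Algebra.QuasiFinite S A := inferInstance
      refine le_antisymm ?_ ?_
      · rw [← hQ, Ideal.height_eq_height_add_of_liesOver_of_hasGoingDown Q₀ Q]
        exact le_self_add
      · rw [← hQ]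
        show (PrimeSpectrum.asIdeal (⟨Q, inferInstance⟩ : PrimeSpectrum A)).height ≤
          (PrimeSpectrum.asIdeal (⟨Q₀, inferInstance⟩ : PrimeSpectrum S)).height
        rw [PrimeSpectrum.height_eq_orderHeight, PrimeSpectrum.height_eq_orderHeight]
        refine Order.height_le_height_apply_of_strictMono (PrimeSpectrum.comap (algebraMap S A))
          (fun I J hIJ => lt_of_le_of_ne (Ideal.comap_mono hIJ.le) fun hc => hIJ.ne ?_) ⟨Q, inferInstance⟩
        exact PrimeSpectrum.ext (Algebra.QuasiFinite.eq_of_le_of_under_eq (R := S) I.asIdeal J.asIdeal hIJ.le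
          (congrArg PrimeSpectrum.asIdeal hc))
    haveI : Algebra.IsUnramifiedAt R₀ Q₀ := hunr Q₀ inferInstance hle hQ₀
    haveI : Algebra.IsUnramifiedAt S Q := by
      haveI : Algebra.FormallyUnramified A (Localization.AtPrime Q) :=
        Algebra.FormallyUnramified.of_isLocalization Q.primeCompl
      exact Algebra.FormallyUnramified.comp S A (Localization.AtPrime Q)
    haveI : IsScalarTower R₀ Rp A := IsScalarTower.to₁₃₄ R₀ R' Rp A
    haveI : Algebra.IsUnramifiedAt R₀ Q := Algebra.IsUnramifiedAt.comp Q₀ Q
    exact Algebra.IsUnramifiedAt.of_restrictScalars R₀ Q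
  haveI : IsScalarTower R₀ Rp A := IsScalarTower.to₁₃₄ R₀ R' Rp A
  haveI : Algebra.FormallyEtale R₀ A := Algebra.FormallyEtale.comp R₀ Rp A
  haveI : Module.Flat R₀ A := Module.Flat.trans R₀ Rp A
  haveI : Module.FaithfullyFlat Sq A := Module.FaithfullyFlat.of_flat_of_isLocalHom
  haveI : IsScalarTower R₀ Sq A := IsScalarTower.to₁₃₄ R₀ S Sq A
  haveI : Module.Flat R₀ Sq := flat_of_faithfullyFlat_tower R₀ Sq A
  letI : Algebra R₀p Sq := Localization.AtPrime.algebraOfLiesOver p q
  haveI : Module.Flat R₀p Sq := (Module.flat_iff_of_isLocalization R₀p p.primeCompl Sq).mpr inferInstance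
  haveI : Algebra.IsUnramifiedAt R₀ q := by
    show Algebra.FormallyUnramified R₀ Sq
    refine ⟨?_⟩
    haveI : Subsingleton (A ⊗[Sq] Ω[Sq⁄R₀]) :=
      (KaehlerDifferential.tensorKaehlerEquivOfFormallyEtale R₀ Sq A).toEquiv.subsingleton
    exact (Module.FaithfullyFlat.subsingleton_tensorProduct_iff_right Sq A).1 inferInstance
  exact GrothLib.LocProp.isEtaleAt_of_isUnramifiedAt_of_flat p q

end GrothLib.FEt21
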