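import Groth.Agent.Lib.FEt21.Affine
import Groth.Agent.Lib.FEt21.Degree
import Groth.Agent.Lib.TraceEtale.Basic
import Groth.Agent.Lib.CMFree.FiniteFlat
import Groth.Agent.Lib.Depth.Hartogs
import Mathlib.RingTheory.Ideal.KrullsHeightTheorem

/-!
# A finite flat morphism étale away from points of depth at least two is étale
-/

set_option autoImplicit false
set_option backward.isDefEq.respectTransparency false
set_option linter.style.haveILetI false

universe u

open CategoryTheory CategoryTheory.Limits AlgebraicGeometry TopologicalSpace TensorProduct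

namespace GrothLib.FEt21

variable {X Y : Scheme.{u}} (f : Y ⟶ X)

theorem etale_snd_comp {S T : Scheme.{u}} (i : S ⟶ X) (j : T ⟶ S) [Etale (pullback.snd f i)] :
    Etale (pullback.snd f (j ≫ i)) := by
  rw [← pullbackLeftPullbackSndIso_inv_snd_snd f i j]
  infer_instance

theorem etale_snd_ι_iff [IsAffineHom f] {W : X.Opens} (hW : IsAffineOpen W) :
    Etale (pullback.snd f W.ι) ↔ (f.app W).hom.Etale := by
  have key : Etale (pullback.snd f hW.fromSpec) ↔ (f.app W).hom.Etale := by
    rw [← HasRingHomProperty.Spec_iff (P := @Etale)]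
    have sq := (isPullback_app f hW)
    constructor
    · intro h
      rw [← sq.isoPullback_hom_snd]
      infer_instance
    · intro h
      rw [← sq.isoPullback_inv_snd]
      infer_instance
  rw [← key]
  constructor
  · intro h
    exact etale_snd_comp f W.ι hW.isoSpec.inv
  · intro h
    have := etale_snd_comp f hW.fromSpec hW.isoSpec.hom
    rwa [IsAffineOpen.isoSpec_hom, hW.toSpecΓ_fromSpec] at this

/-- Formal unramifiedness of a finite free cover over a smaller affine is invertibility of the discriminant. -/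
theorem formallyUnramified_app_iff [IsAffineHom f] {V D : X.Opens} (hV : IsAffineOpen V)
    (hD : IsAffineOpen D) (h : D ≤ V) {ι : Type*} [Fintype ι] [DecidableEq ι]
    (b : letI := (f.app V).hom.toAlgebra; Module.Basis ι Γ(X, V) Γ(Y, f ⁻¹ᵁ V)) :
    (f.app D).hom.FormallyUnramified ↔
      IsUnit (X.presheaf.map (homOfLE h).op
        (letI := (f.app V).hom.toAlgebra; (Algebra.traceMatrix Γ(X, V) b).det)) := by
  classical
  letI := (f.app V).hom.toAlgebra
  letI := (f.app D).hom.toAlgebra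
  letI : Algebra Γ(X, V) Γ(X, D) := (X.presheaf.map (homOfLE h).op).hom.toAlgebra
  letI : Algebra Γ(Y, f ⁻¹ᵁ V) Γ(Y, f ⁻¹ᵁ D) :=
    (Y.presheaf.map (homOfLE (f.preimage_mono h)).op).hom.toAlgebra
  letI : Algebra Γ(X, V) Γ(Y, f ⁻¹ᵁ D) := ((X.presheaf.map (homOfLE h).op) ≫ f.app D).hom.toAlgebra
  haveI : IsScalarTower Γ(X, V) Γ(X, D) Γ(Y, f ⁻¹ᵁ D) := IsScalarTower.of_algebraMap_eq' rfl
  haveI : IsScalarTower Γ(X, V) Γ(Y, f ⁻¹ᵁ V) Γ(Y, f ⁻¹ᵁ D) := IsScalarTower.of_algebraMap_eq' (by
    exact congrArg CommRingCat.Hom.hom (isPushout_app f hV hD h).w.symm)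
  haveI hpo : Algebra.IsPushout Γ(X, V) Γ(X, D) Γ(Y, f ⁻¹ᵁ V) Γ(Y, f ⁻¹ᵁ D) :=
    CommRingCat.isPushout_iff_isPushout.mp (isPushout_app f hV hD h).flip
  let e := Algebra.IsPushout.equiv Γ(X, V) Γ(X, D) Γ(Y, f ⁻¹ᵁ V) Γ(Y, f ⁻¹ᵁ D)
  have h1 : Algebra.FormallyUnramified Γ(X, D) (Γ(X, D) ⊗[Γ(X, V)] Γ(Y, f ⁻¹ᵁ V)) ↔
      Algebra.FormallyUnramified Γ(X, D) Γ(Y, f ⁻¹ᵁ D) :=
    ⟨fun _ => Algebra.FormallyUnramified.of_equiv e, fun _ => Algebra.FormallyUnramified.of_equiv e.symm⟩
  rw [GrothLib.TraceEtale.formallyUnramified_iff_isUnit_det (Algebra.TensorProduct.basis Γ(X, D) b),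
    GrothLib.TraceEtale.traceMatrix_baseChange, ← RingHom.mapMatrix_apply, ← RingHom.map_det] at h1
  exact h1.symm

/-- A finite flat morphism which is étale away from points where the base has depth at least two is étale. -/
theorem etale_of_flat_of_depth_two [IsLocallyNoetherian X] (U : X.Opens)
    (hU : ∀ x : X, x ∉ U → (2 : ℕ∞) ≤ LocCoh.depth (X.presheaf.stalk x) (X.presheaf.stalk x))
    [IsFinite f] [Flat f] [Etale (pullback.snd f U.ι)] : Etale f := by
  classical
  haveI : LocallyOfFinitePresentation f := inferInstance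
  let C : Set X := {x | ¬ ∃ W : X.Opens, x ∈ W ∧ Etale (pullback.snd f W.ι)}
  have hC : IsClosed C := by
    refine ⟨?_⟩
    rw [isOpen_iff_forall_mem_open]
    intro x hx
    obtain ⟨W, hxW, hW⟩ := not_not.mp hx
    exact ⟨W, fun z hz h => h ⟨W, hz, hW⟩, W.2, hxW⟩
  suffices hempty : ∀ x, x ∉ C by
    choose W hxW hW using fun x => not_not.mp (hempty x)
    refine IsZariskiLocalAtTarget.of_iSup_eq_top (P := @Etale) W
      (top_unique fun x _ => Opens.mem_iSup.2 ⟨x, hxW x⟩) fun x => ?_
    haveI := hW x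
    rw [morphismRestrict]
    infer_instance
  intro x₀ hx₀
  obtain ⟨x, hx, -, hmax⟩ := GrothLib.Depth.exists_maximal_generalization hC hx₀
  have hxU : x ∉ U := fun h => hx ⟨U, h, inferInstance⟩
  obtain ⟨V, hV, hxV, hfree⟩ := exists_free_affine f x
  letI := (f.app V).hom.toAlgebra
  haveI := hfree
  haveI : Module.Finite Γ(X, V) Γ(Y, f ⁻¹ᵁ V) := f.finite_app V hV
  haveI : IsNoetherianRing Γ(X, V) := IsLocallyNoetherian.component_noetherian ⟨V, hV⟩
  let b := Module.Free.chooseBasis Γ(X, V) Γ(Y, f ⁻¹ᵁ V)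
  set δ := (Algebra.traceMatrix Γ(X, V) b).det with hδ
  let p := hV.primeIdealOf ⟨x, hxV⟩
  by_cases hδp : δ ∈ p.asIdeal
  · obtain ⟨P, hP, hPp⟩ := Ideal.exists_minimalPrimes_le
      ((Ideal.span_singleton_le_iff_mem _).mpr hδp)
    haveI := hP.1.1
    have hP1 := Ideal.height_le_one_of_isPrincipal_of_mem_minimalPrimes _ P hP
    have hp2 : 2 ≤ p.asIdeal.height := by
      letI : Algebra Γ(X, V) (X.presheaf.stalk x) := (X.presheaf.germ V x hxV).hom.toAlgebra
      haveI : IsLocalization.AtPrime (X.presheaf.stalk x) p.asIdeal := hV.isLocalization_stalk ⟨x, hxV⟩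
      have h1 := GrothLib.CMFree.depth_le_ringKrullDim (X.presheaf.stalk x)
      rw [IsLocalization.AtPrime.ringKrullDim_eq_height p.asIdeal (X.presheaf.stalk x)] at h1
      exact (hU x hxU).trans (WithBot.coe_le_coe.mp h1)
    have hne : P ≠ p.asIdeal := fun e => by
      rw [e] at hP1
      exact absurd (hp2.trans hP1) (by norm_num)
    let P' : PrimeSpectrum Γ(X, V) := ⟨P, inferInstance⟩
    let z : X := hV.fromSpec P'
    have hzx : z ⤳ x := by
      have h2 := ((PrimeSpectrum.le_iff_specializes P' p).1 hPp).map hV.fromSpec.continuous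
      rwa [hV.fromSpec_primeIdealOf] at h2
    have hzne : z ≠ x := fun e => hne (congrArg PrimeSpectrum.asIdeal (hV.fromSpec.isOpenEmbedding.injective
      (e.trans (hV.fromSpec_primeIdealOf ⟨x, hxV⟩).symm) : P' = p))
    obtain ⟨W, hzW, hW⟩ := not_not.mp (fun h => hzne (hmax z h hzx))
    have hzV : z ∈ V := hV.range_fromSpec.subset ⟨P', rfl⟩
    obtain ⟨g, hgle, hzg⟩ := hV.exists_basicOpen_le ⟨z, hzW⟩ hzV
    haveI : Etale (pullback.snd f (X.basicOpen g).ι) := by
      rw [← X.homOfLE_ι hgle]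
      exact etale_snd_comp f W.ι _
    have hu := (formallyUnramified_app_iff f hV (hV.basicOpen g) (X.basicOpen_le g) b).mp (by
      have h3 := (etale_snd_ι_iff f (hV.basicOpen g)).mp inferInstance
      exact h3.formallyUnramified)
    have hzδ : z ∈ X.basicOpen δ := by
      have h5 : X.basicOpen g ≤ X.basicOpen δ := by
        have h6 := X.basicOpen_res δ (homOfLE (X.basicOpen_le g)).op
        rw [X.basicOpen_of_isUnit hu] at h6
        exact h6.le.trans inf_le_right
      exact h5 hzg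
    have : P' ∈ hV.fromSpec ⁻¹ᵁ X.basicOpen δ := hzδ
    rw [hV.fromSpec_preimage_basicOpen] at this
    exact this (hP.1.2 (Ideal.mem_span_singleton_self δ))
  · have hxD : x ∈ X.basicOpen δ := by
      have : p ∈ hV.fromSpec ⁻¹ᵁ X.basicOpen δ := by rw [hV.fromSpec_preimage_basicOpen]; exact hδp
      rw [Scheme.Hom.mem_preimage, hV.fromSpec_primeIdealOf] at this
      exact this
    have hD := hV.basicOpen δ
    refine hx ⟨X.basicOpen δ, hxD, (etale_snd_ι_iff f hD).mpr ?_⟩
    have hu := (formallyUnramified_app_iff f hV hD (X.basicOpen_le δ) b).mpr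
      (RingedSpace.isUnit_res_basicOpen _ δ)
    have hfl := f.flat_appLE hD (hD.preimage f) le_rfl
    have hfp := f.finitePresentation_appLE hD (hD.preimage f) le_rfl
    rw [← Scheme.Hom.app_eq_appLE] at hfl hfp
    algebraize [(f.app (X.basicOpen δ)).hom]
    exact Algebra.Etale.of_formallyUnramified_of_flat

end GrothLib.FEt21
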