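import Groth.Agent.Lib.FEt21.Colimits
import Mathlib.CategoryTheory.Galois.Basic
import Mathlib.CategoryTheory.Limits.Preserves.Opposites
import Mathlib.AlgebraicGeometry.Morphisms.UniversallyOpen

/-!
# Finite étale covers of a connected scheme form a Galois category
-/

set_option autoImplicit false
set_option backward.isDefEq.respectTransparency false

universe u

open CategoryTheory CategoryTheory.Limits AlgebraicGeometry Opposite

namespace GrothLib.FEt21

variable {X : Scheme.{u}}

theorem fiber_map_injective_of_mono {A B : FEt.Cat X} (i : A ⟶ B) [Mono i] {Ω : Type u} [Field Ω]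
    (ξ : Spec (CommRingCat.of Ω) ⟶ X) : Function.Injective ((FEt.fiber ξ).map i) :=
  haveI := fiber_preservesFiniteLimits ξ
  (mono_iff_injective _).1 inferInstance

theorem isClosed_compl_range {A B : FEt.Cat X} (i : A ⟶ B) :
    IsOpen (Set.range i.left) ∧ IsClosed (Set.range i.left) := by
  have := (prop_left i).1
  have := (prop_left i).2
  exact ⟨i.left.isOpenMap.isOpen_range, i.left.isClosedMap.isClosed_range⟩

/-- Every monomorphism of covers is the inclusion of a direct summand. -/
theorem mono_summand {A B : FEt.Cat X} (i : A ⟶ B) [Mono i] :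
    ∃ (Z : FEt.Cat X) (w : Z ⟶ B), Nonempty (IsColimit (BinaryCofan.mk i w)) := by
  obtain ⟨hopen, hclosed⟩ := isClosed_compl_range i
  let W : B.left.Opens := ⟨(Set.range i.left)ᶜ, hclosed.isOpen_compl⟩
  let Z : FEt.Cat X := mkOf B W.ι (prop_ι W hopen.isClosed_compl)
  let w : Z ⟶ B := MorphismProperty.Over.homMk W.ι rfl
  refine ⟨Z, w, ⟨?_⟩⟩
  let d := (sumCofanIsColimit A Z).desc (BinaryCofan.mk i w)
  have : IsIso d := by
    refine isIso_of_bijective d fun Ω _ _ ξ => ?_
    obtain ⟨hc⟩ := sumCofan_fiber ξ A Z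
    obtain ⟨hinl, hinr, hcompl⟩ := (Types.binaryCofan_isColimit_iff _).1 ⟨hc⟩
    have hl : ∀ a : FEt.fiberObj ξ A, (FEt.fiber ξ).map d ((FEt.fiber ξ).map (sumCofan A Z).inl a) =
        (FEt.fiber ξ).map i a := fun a => by
      exact (congr($((FEt.fiber ξ).map_comp (sumCofan A Z).inl d) a)).symm.trans
        congr($(congr_arg (FEt.fiber ξ).map
          ((sumCofanIsColimit A Z).fac (BinaryCofan.mk i w) ⟨WalkingPair.left⟩)) a)
    have hr : ∀ b : FEt.fiberObj ξ Z, (FEt.fiber ξ).map d ((FEt.fiber ξ).map (sumCofan A Z).inr b) =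
        (FEt.fiber ξ).map w b := fun b => by
      exact (congr($((FEt.fiber ξ).map_comp (sumCofan A Z).inr d) b)).symm.trans
        congr($(congr_arg (FEt.fiber ξ).map
          ((sumCofanIsColimit A Z).fac (BinaryCofan.mk i w) ⟨WalkingPair.right⟩)) b)
    have hne : ∀ (a : FEt.fiberObj ξ A) (b : FEt.fiberObj ξ Z),
        (FEt.fiber ξ).map i a ≠ (FEt.fiber ξ).map w b := fun a b h =>
      (show (b.1 default).1 ∉ Set.range i.left from (b.1 default).2)
        ⟨a.1 default, congr_arg (fun t : FEt.fiberObj ξ B => t.1 default) h⟩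
    have cases : ∀ t, (∃ a, (FEt.fiber ξ).map (sumCofan A Z).inl a = t) ∨
        (∃ b, (FEt.fiber ξ).map (sumCofan A Z).inr b = t) := fun t =>
      hcompl.codisjoint.top_le (Set.mem_univ t)
    constructor
    · intro s t h
      rcases cases s with ⟨a, rfl⟩ | ⟨b, rfl⟩ <;> rcases cases t with ⟨a', rfl⟩ | ⟨b', rfl⟩ <;>
        simp only [hl, hr] at h
      · rw [fiber_map_injective_of_mono i ξ h]
      · exact absurd h (hne a b')
      · exact absurd h.symm (hne a' b)
      · have : b = b' := Subtype.ext ((cancel_mono W.ι).1 (congr_arg Subtype.val h))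
        rw [this]
    · intro t
      by_cases ht : t.1 default ∈ Set.range i.left
      · obtain ⟨y, hy⟩ := ht
        have := (prop_left i).1
        have := (prop_left i).2
        have h1 := Scheme.Hom.one_le_finrank_map i.left y
        have hpos : 0 < Nat.card {s : FEt.fiberObj ξ A // s.1 ≫ i.left = t.1} :=
          Nat.lt_of_lt_of_le Nat.zero_lt_one
            (((congr_arg _ hy).trans (finrank_eq_card i ξ (t : FEt.fiberObj ξ B))) ▸ h1)
        obtain ⟨a, ha⟩ := (Nat.card_pos_iff.1 hpos).1
        exact ⟨_, (hl a).trans (Subtype.ext ha)⟩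
      · have hsub : Set.range t.1 ⊆ Set.range W.ι := by
          rintro _ ⟨z, rfl⟩
          rw [Subsingleton.elim z default, Scheme.Opens.range_ι]
          exact ht
        let b : FEt.fiberObj ξ Z := ⟨IsOpenImmersion.lift W.ι t.1 hsub,
          (IsOpenImmersion.lift_fac_assoc _ _ _ _).trans t.2⟩
        exact ⟨_, (hr b).trans (Subtype.ext (IsOpenImmersion.lift_fac _ _ _))⟩
  exact IsColimit.ofIsoColimit (sumCofanIsColimit A Z)
    (Cocone.ext (asIso d) fun j => (sumCofanIsColimit A Z).fac (BinaryCofan.mk i w) j)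

theorem hasColimitsOfShape_singleObj (G : Type u) [Group G] [Finite G] :
    HasColimitsOfShape (SingleObj G) (FEt.Cat X) := by
  obtain ⟨G', hg, hf, ⟨e⟩⟩ := Finite.exists_type_univ_nonempty_mulEquiv.{u, 0} G
  have := hasFiniteColimits (X := X)
  exact hasColimitsOfShape_of_equivalence e.toSingleObjEquiv.symm

theorem preGalois : PreGaloisCategory (FEt.Cat X) :=
  haveI := hasFiniteLimits (X := X)
  { hasTerminal := inferInstance
    hasPullbacks := inferInstance
    hasFiniteCoproducts := inferInstance
    hasQuotientsByFiniteGroups := fun G => hasColimitsOfShape_singleObj G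
    monoInducesIsoOnDirectSummand := fun i => mono_summand i }

/-- The fibre functor with values in finite sets. -/
noncomputable def fibFin {Ω : Type u} [Field Ω] (ξ : Spec (CommRingCat.of Ω) ⟶ X) :
    FEt.Cat X ⥤ FintypeCat.{u} where
  obj Y := FintypeCat.of (FEt.fiberObj ξ Y)
  map φ := FintypeCat.homMk ((FEt.fiber ξ).map φ)
  map_id Y := by ext s; exact congr($((FEt.fiber ξ).map_id Y) s)
  map_comp φ ψ := by ext s; exact congr($((FEt.fiber ξ).map_comp φ ψ) s)

/-- Forgetting finiteness gives back the fibre functor. -/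
noncomputable def fibFinIncl {Ω : Type u} [Field Ω] (ξ : Spec (CommRingCat.of Ω) ⟶ X) :
    fibFin ξ ⋙ FintypeCat.incl ≅ FEt.fiber ξ :=
  NatIso.ofComponents (fun _ => Iso.refl _) (fun _ => rfl)

theorem fiberFunctor [PreconnectedSpace X] {Ω : Type u} [Field Ω] [IsAlgClosed Ω]
    (ξ : Spec (CommRingCat.of Ω) ⟶ X) :
    haveI := preGalois (X := X)
    PreGaloisCategory.FiberFunctor (fibFin ξ) := by
  haveI := preGalois (X := X)
  haveI := fiber_preservesFiniteLimits ξ
  haveI := fiber_preservesFiniteColimits ξ
  haveI : PreservesFiniteLimits (fibFin ξ ⋙ FintypeCat.incl) :=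
    preservesFiniteLimits_of_natIso (fibFinIncl ξ).symm
  haveI : PreservesFiniteColimits (fibFin ξ ⋙ FintypeCat.incl) :=
    preservesFiniteColimits_of_natIso (fibFinIncl ξ).symm
  haveI : PreservesFiniteLimits (fibFin ξ) :=
    preservesFiniteLimits_of_reflects_of_preserves _ FintypeCat.incl
  haveI : PreservesFiniteColimits (fibFin ξ) :=
    preservesFiniteColimits_of_reflects_of_preserves _ FintypeCat.incl
  exact
    { preservesFiniteCoproducts := ⟨fun n => inferInstance⟩
      preservesEpis := inferInstance
      preservesQuotientsByFiniteGroups := fun G _ _ => by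
        obtain ⟨G', hg, hf, ⟨e⟩⟩ := Finite.exists_type_univ_nonempty_mulEquiv.{u, 0} G
        exact preservesColimitsOfShape_of_equiv e.toSingleObjEquiv.symm _
      reflectsIsos := ⟨fun φ hφ => isIso_of_bijective_connected φ ξ
        (ConcreteCategory.bijective_of_isIso ((fibFin ξ).map φ))⟩ }

section Restrict

variable {Y : Scheme.{u}} (f : X ⟶ Y)

/-- Fibres of a base change. -/
noncomputable def restrictFiberIso {Ω : Type u} [Field Ω] (ξ : Spec (CommRingCat.of Ω) ⟶ X) :
    FEt.restrict f ⋙ FEt.fiber ξ ≅ FEt.fiber (ξ ≫ f) :=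
  NatIso.ofComponents (fun A => Equiv.toIso
    { toFun := fun s => ⟨s.1 ≫ pullback.fst A.hom f,
        ((Category.assoc _ _ _).trans (congrArg (s.1 ≫ ·) pullback.condition)).trans
          ((Category.assoc _ _ _).symm.trans (congrArg (· ≫ f) s.2))⟩
      invFun := fun t => ⟨pullback.lift t.1 ξ t.2, pullback.lift_snd _ _ _⟩
      left_inv := fun s => Subtype.ext (pullback.hom_ext (pullback.lift_fst _ _ _)
        ((pullback.lift_snd _ _ _).trans s.2.symm))
      right_inv := fun t => Subtype.ext (pullback.lift_fst _ _ _) })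
    (fun {A B} φ => ConcreteCategory.hom_ext _ _ fun s => Subtype.ext (by
      change (s.1 ≫ pullback.lift _ _ _) ≫ pullback.fst B.hom f = (s.1 ≫ pullback.fst A.hom f) ≫ φ.left
      rw [Category.assoc, pullback.lift_fst, Category.assoc]))

theorem restrict_preservesFiniteColimits : PreservesFiniteColimits (FEt.restrict f) where
  preservesFiniteColimits J _ _ := by
    have := hasFiniteColimits (X := X)
    have := hasFiniteColimits (X := Y)
    refine ⟨fun {K} => ?_⟩
    have : IsIso (colimit.post K (FEt.restrict f)) := by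
      refine isIso_of_bijective _ fun Ω _ _ ξ => ?_
      have := fiber_preservesFiniteColimits ξ
      have := fiber_preservesFiniteColimits (ξ ≫ f)
      have : PreservesFiniteColimits (FEt.restrict f ⋙ FEt.fiber ξ) :=
        preservesFiniteColimits_of_natIso (restrictFiberIso f ξ).symm
      have h := colimit.post_post K (FEt.restrict f) (FEt.fiber ξ)
      have : IsIso ((FEt.fiber ξ).map (colimit.post K (FEt.restrict f))) :=
        @IsIso.of_isIso_fac_left _ _ _ _ _ _ _ _ inferInstance
          (inferInstanceAs (IsIso (colimit.post K (FEt.restrict f ⋙ FEt.fiber ξ)))) h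
      exact ConcreteCategory.bijective_of_isIso _
    exact preservesColimit_of_isIso_post _ _

end Restrict

end GrothLib.FEt21
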