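import Groth.Prelude.Def_Pi1
import Groth.Agent.Lib.Hensel.Normal
import Groth.Agent.Lib.NormalExt.Basic
import Mathlib.RingTheory.Polynomial.ScaleRoots
import Mathlib.Algebra.Polynomial.Lifts

/-!
# Schemes étale over a normal integral scheme are normal
-/

set_option autoImplicit false

universe u

open CategoryTheory CategoryTheory.Limits AlgebraicGeometry Polynomial

namespace GrothLib.FEt21

/-- The local rings of an étale algebra over a normal domain are normal domains. -/
theorem isNormal_localization_of_etale (R : Type u) [CommRing R] [IsDomain R] [IsIntegrallyClosed R]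
    {E : Type u} [CommRing E] [Algebra R E] [Algebra.Etale R E] (q : Ideal E) [q.IsPrime]
    (S : Type u) [CommRing S] [Algebra E S] [IsLocalization.AtPrime S q] :
    IsDomain S ∧ IsIntegrallyClosed S := by
  obtain ⟨hdom, hcrit⟩ := Hensel.isNormalDomain_localization_of_etale R q (E := E)
  have hzero : ∀ a : E, algebraMap E S a = 0 → ∃ t ∉ q, t * a = 0 := fun a ha => by
    obtain ⟨⟨t, ht⟩, h⟩ := (IsLocalization.map_eq_zero_iff q.primeCompl S a).1 ha
    exact ⟨t, ht, h⟩
  have hzero' : ∀ {a t : E}, t ∉ q → t * a = 0 → algebraMap E S a = 0 := fun {a t} ht h =>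
    (IsLocalization.map_units S (⟨t, ht⟩ : q.primeCompl)).mul_right_eq_zero.1
      (by rw [← map_mul, h, map_zero])
  haveI : IsLocalRing S := IsLocalization.AtPrime.isLocalRing S q
  haveI hD : IsDomain S := by
    haveI : NoZeroDivisors S := ⟨fun {x y} hxy => by
      obtain ⟨⟨a, s⟩, hx⟩ := IsLocalization.surj q.primeCompl x
      obtain ⟨⟨b, t⟩, hy⟩ := IsLocalization.surj q.primeCompl y
      have h0 : algebraMap E S (a * b) = 0 := by
        rw [map_mul, ← hx, ← hy, mul_mul_mul_comm, hxy, zero_mul]
      obtain ⟨c, hc, hcab⟩ := hzero _ h0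
      rw [← mul_assoc] at hcab
      rcases hdom _ _ hcab with ⟨d, hd, hda⟩ | ⟨d, hd, hdb⟩
      · refine Or.inl ((IsLocalization.map_units S s).mul_left_eq_zero.1 (hx.trans (hzero' (t := d * c) ?_ ?_)))
        · exact fun h => ((inferInstance : q.IsPrime).mem_or_mem h).elim hd hc
        · rw [mul_assoc, hda]
      · exact Or.inr ((IsLocalization.map_units S t).mul_left_eq_zero.1 (hy.trans (hzero' hd hdb)))⟩
    exact NoZeroDivisors.to_isDomain _
  refine ⟨hD, (isIntegrallyClosed_iff (FractionRing S)).mpr fun {z} hz => ?_⟩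
  obtain ⟨P, hP, hPz⟩ := hz
  obtain ⟨u, v, hv, huv⟩ := IsFractionRing.div_surjective (A := S) z
  obtain ⟨⟨a, sa⟩, ha⟩ := IsLocalization.surj q.primeCompl u
  obtain ⟨⟨b, sb⟩, hb⟩ := IsLocalization.surj q.primeCompl v
  classical
  obtain ⟨c, hc⟩ := IsLocalization.exist_integer_multiples q.primeCompl (S := S)
    (Finset.range P.natDegree) (fun i => P.coeff i)
  have hlift : P.scaleRoots (algebraMap E S c) ∈ Polynomial.lifts (algebraMap E S) := by
    rw [Polynomial.lifts_iff_coeff_lifts]
    intro i
    rw [coeff_scaleRoots]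
    rcases lt_trichotomy i P.natDegree with h | h | h
    · obtain ⟨e, he⟩ := hc i (Finset.mem_range.2 h)
      obtain ⟨k, hk⟩ : ∃ k, P.natDegree - i = k + 1 := ⟨P.natDegree - i - 1, by omega⟩
      refine ⟨e * (c : E) ^ k, ?_⟩
      rw [map_mul, map_pow, he, hk, pow_succ, Algebra.smul_def]
      ring
    · subst h
      exact ⟨1, by rw [map_one, hP.coeff_natDegree, Nat.sub_self, pow_zero, mul_one]⟩
    · exact ⟨0, by rw [map_zero, coeff_eq_zero_of_natDegree_lt h, zero_mul]⟩
  obtain ⟨p, hp, hpdeg, hpm⟩ := Polynomial.lifts_and_natDegree_eq_and_monic hlift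
    ((monic_scaleRoots_iff _).2 hP)
  let x : E := c * (a * sb)
  let y : E := b * sa
  have hinj : Function.Injective (algebraMap S (FractionRing S)) := IsFractionRing.injective S (FractionRing S)
  have hv0 : algebraMap S (FractionRing S) v ≠ 0 := IsFractionRing.to_map_ne_zero_of_mem_nonZeroDivisors hv
  have hy0 : algebraMap S (FractionRing S) (algebraMap E S y) ≠ 0 := by
    rw [Ne, map_eq_zero_iff _ hinj, map_mul, ← hb]
    exact mul_ne_zero (mul_ne_zero (nonZeroDivisors.ne_zero hv) (IsLocalization.map_units S sb).ne_zero)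
      (IsLocalization.map_units S sa).ne_zero
  have hxy : algebraMap S (FractionRing S) (algebraMap E S c) * z * algebraMap S (FractionRing S) (algebraMap E S y) =
      algebraMap S (FractionRing S) (algebraMap E S x) := by
    have huv' : algebraMap S (FractionRing S) u = z * algebraMap S (FractionRing S) v := by
      rw [← huv]; exact (div_mul_cancel₀ _ hv0).symm
    simp only [x, y, map_mul, ← ha, ← hb, huv']
    ring
  have hroot := scaleRoots_eval₂_eq_zero (algebraMap S (FractionRing S)) (s := algebraMap E S c) hPz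
  rw [← hp, eval₂_map] at hroot
  have hsum : algebraMap E S (∑ i ∈ Finset.range (p.natDegree + 1),
      p.coeff i * x ^ i * y ^ (p.natDegree - i)) = 0 := by
    refine hinj ?_
    rw [eval₂_eq_sum_range] at hroot
    have := congrArg (fun t : (FractionRing S) => t * algebraMap S (FractionRing S) (algebraMap E S y) ^ p.natDegree) hroot
    simp only [zero_mul, Finset.sum_mul] at this
    rw [map_zero, ← this, map_sum, map_sum]
    refine Finset.sum_congr rfl fun i hi => ?_
    obtain ⟨j, hj⟩ := Nat.exists_eq_add_of_le (Nat.lt_succ_iff.mp (Finset.mem_range.mp hi))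
    rw [hj, Nat.add_sub_cancel_left]
    simp only [RingHom.comp_apply, map_mul, map_pow, ← hxy]
    ring
  obtain ⟨t, ht, htsum⟩ := hzero _ hsum
  have hy2 : ∀ t ∉ q, t * y ≠ 0 := fun t ht h0 => hy0 (by rw [hzero' ht h0, map_zero])
  obtain ⟨w, s, hs, hw⟩ := hcrit p x y hpm hy2 ⟨t, ht, htsum⟩
  have hsu := IsLocalization.map_units S (⟨s, hs⟩ : q.primeCompl)
  have hcu := IsLocalization.map_units S c
  obtain ⟨r, hr⟩ := (hsu.mul hcu).exists_left_inv
  refine ⟨r * algebraMap E S w, mul_right_cancel₀ hy0 ?_⟩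
  have h1 : algebraMap S (FractionRing S) (r * (algebraMap E S s * algebraMap E S c)) = 1 := by
    rw [show r * (algebraMap E S s * algebraMap E S c) = 1 from hr, map_one]
  have h2 : algebraMap S (FractionRing S) (algebraMap E S s) * algebraMap S (FractionRing S) (algebraMap E S x) =
      algebraMap S (FractionRing S) (algebraMap E S y) * algebraMap S (FractionRing S) (algebraMap E S w) := by
    rw [← map_mul, ← map_mul, ← map_mul, ← map_mul, hw]
  rw [map_mul] at h1
  rw [map_mul] at h1
  rw [map_mul]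
  linear_combination (-algebraMap S (FractionRing S) r) * h2 + algebraMap S (FractionRing S) r * algebraMap S (FractionRing S) (algebraMap E S s) * (-hxy)
    + (z * algebraMap S (FractionRing S) (algebraMap E S y)) * h1

/-- An étale scheme over a normal integral scheme is normal. -/
theorem isNormalScheme_of_etale {X Z : Scheme.{u}} [IsIntegral X] (hX : Pi1.IsNormalScheme X)
    (g : Z ⟶ X) [Etale g] : Pi1.IsNormalScheme Z := by
  intro z
  obtain ⟨_, ⟨V, hV, rfl⟩, hxV, -⟩ :=
    X.isBasis_affineOpens.exists_subset_of_mem_open (Set.mem_univ (g z)) isOpen_univ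
  obtain ⟨_, ⟨W, hW, rfl⟩, hzW, hWV⟩ :=
    Z.isBasis_affineOpens.exists_subset_of_mem_open hxV (g ⁻¹ᵁ V).2
  have he := HasRingHomProperty.appLE @Etale g inferInstance ⟨V, hV⟩ ⟨W, hW⟩ hWV
  haveI : Nonempty V := ⟨⟨g z, hxV⟩⟩
  haveI : IsIntegrallyClosed Γ(X, V) := NormalExt.isIntegrallyClosed_Γ (fun x => (hX x).2) V hV
  letI := (g.appLE V W hWV).hom.toAlgebra
  haveI : Algebra.Etale Γ(X, V) Γ(Z, W) := he
  letI := TopCat.Presheaf.algebra_section_stalk Z.presheaf (⟨z, hzW⟩ : W)
  haveI := hW.isLocalization_stalk ⟨z, hzW⟩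
  exact isNormal_localization_of_etale Γ(X, V) (hW.primeIdealOf ⟨z, hzW⟩).asIdeal
    (Z.presheaf.stalk z)

end GrothLib.FEt21
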