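import Groth.Agent.Lib.UnrMono.NormalizationIso
import Groth.Agent.Lib.FEt21.NormalComp
import Mathlib.RingTheory.Localization.Integral

/-!
# The normalization of a normal integral scheme in a finite extension of its function field
-/

set_option autoImplicit false
set_option linter.style.haveILetI false
set_option backward.isDefEq.respectTransparency false

universe u

open CategoryTheory CategoryTheory.Limits AlgebraicGeometry TopologicalSpace

noncomputable section

namespace GrothLib.FEt21

/-- If `Z` is its own normalization along `s` and `g` is integral, `Z` is the normalization along `s ≫ g`. -/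
theorem isIso_normalizationDesc {W Z X : Scheme.{u}} (h : W ⟶ X) [QuasiCompact h] [QuasiSeparated h]
    (s : W ⟶ Z) (g : Z ⟶ X) [QuasiCompact s] [QuasiSeparated s] [IsIntegralHom g] (hsg : h = s ≫ g)
    [IsIso s.fromNormalization] : IsIso (h.normalizationDesc s g hsg) := by
  let d := h.normalizationDesc s g hsg
  have hd : h.toNormalization ≫ d = s := Scheme.Hom.toNormalization_normalizationDesc ..
  have hdg : d ≫ g = h.fromNormalization := Scheme.Hom.normalizationDesc_comp ..
  let e : s.normalization ⟶ h.normalization := s.normalizationDesc h.toNormalization d hd.symm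
  have he : s.toNormalization ≫ e = h.toNormalization := Scheme.Hom.toNormalization_normalizationDesc ..
  have hed : e ≫ d = s.fromNormalization := Scheme.Hom.normalizationDesc_comp ..
  let j := inv s.fromNormalization ≫ e
  have hjd : j ≫ d = 𝟙 Z := by rw [Category.assoc, hed, IsIso.inv_hom_id]
  have hs : s ≫ inv s.fromNormalization = s.toNormalization := by
    rw [IsIso.comp_inv_eq, Scheme.Hom.toNormalization_fromNormalization]
  refine ⟨j, ?_, hjd⟩
  refine Scheme.Hom.normalization.hom_ext h _ _ h.fromNormalization ?_ ?_ (Category.id_comp _)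
  · rw [reassoc_of% hd, Category.comp_id]
    show s ≫ inv s.fromNormalization ≫ e = h.toNormalization
    rw [reassoc_of% hs, he]
  · show (d ≫ j) ≫ h.fromNormalization = h.fromNormalization
    rw [← hdg, Category.assoc, reassoc_of% hjd]

/-- Precomposing with an isomorphism does not change the normalization. -/
theorem isIso_fromNormalization_comp {W W' Z : Scheme.{u}} (i : W ⟶ W') [IsIso i] (t : W' ⟶ Z)
    [QuasiCompact t] [QuasiSeparated t] [IsIso t.fromNormalization] (h : W ⟶ Z) [QuasiCompact h] [QuasiSeparated h]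
    (hh : i ≫ t = h) : IsIso h.fromNormalization := by
  let c : h.normalization ⟶ t.normalization := h.normalizationDesc (i ≫ t.toNormalization) t.fromNormalization
    (by rw [Category.assoc, Scheme.Hom.toNormalization_fromNormalization, hh])
  let c' : t.normalization ⟶ h.normalization := t.normalizationDesc (inv i ≫ h.toNormalization) h.fromNormalization
    (by rw [Category.assoc, Scheme.Hom.toNormalization_fromNormalization, IsIso.eq_inv_comp, hh])
  have hc : h.toNormalization ≫ c = i ≫ t.toNormalization := Scheme.Hom.toNormalization_normalizationDesc ..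
  have hc' : t.toNormalization ≫ c' = inv i ≫ h.toNormalization := Scheme.Hom.toNormalization_normalizationDesc ..
  have hcf : c ≫ t.fromNormalization = h.fromNormalization := Scheme.Hom.normalizationDesc_comp ..
  have hcf' : c' ≫ h.fromNormalization = t.fromNormalization := Scheme.Hom.normalizationDesc_comp ..
  refine ⟨inv t.fromNormalization ≫ c', ?_, by rw [Category.assoc, hcf', IsIso.inv_hom_id]⟩
  rw [← hcf, Category.assoc, IsIso.hom_inv_id_assoc]
  refine Scheme.Hom.normalization.hom_ext h _ _ h.fromNormalization ?_ ?_ (Category.id_comp _)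
  · rw [reassoc_of% hc, hc', IsIso.hom_inv_id_assoc, Category.comp_id]
  · rw [Category.assoc, hcf', hcf]

/-- A normal integral scheme is its own normalization at the generic point. -/
theorem isIso_fromNormalization_self {Z : Scheme.{u}} [IsIntegral Z] (hZ : Pi1.IsNormalScheme Z)
    [QuasiCompact (Z.fromSpecStalk (genericPoint Z))] [QuasiSeparated (Z.fromSpecStalk (genericPoint Z))] :
    IsIso (Z.fromSpecStalk (genericPoint Z)).fromNormalization := by
  haveI : IsIso ((𝟙 Z : Z ⟶ Z).stalkMap (genericPoint Z)) := inferInstance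
  obtain ⟨e, he⟩ := GrothLib.UnrMono.exists_iso_normalization (𝟙 Z) hZ inferInstance rfl inferInstance
  have : Curv2.normalizationι Z = e.inv := by rw [← cancel_epi e.hom, he, e.hom_inv_id]
  show IsIso (Curv2.normalizationι Z)
  rw [this]; infer_instance

variable {X : Scheme.{u}} [IsIntegral X] (L : Type u) [Field L] [Algebra X.functionField L]

/-- The morphism of a finite extension of the function field. -/
abbrev extPt : Spec (CommRingCat.of L) ⟶ X :=
  Spec.map (CommRingCat.ofHom (algebraMap X.functionField L)) ≫ X.fromSpecStalk (genericPoint X)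

theorem extPt_apply (w : Spec (CommRingCat.of L)) : extPt (X := X) L w = genericPoint X := by
  haveI : Subsingleton (Spec X.functionField) := inferInstanceAs (Subsingleton (PrimeSpectrum X.functionField))
  show X.fromSpecStalk (genericPoint X) (Spec.map (CommRingCat.ofHom (algebraMap X.functionField L)) w) = _
  rw [Subsingleton.elim (Spec.map (CommRingCat.ofHom (algebraMap X.functionField L)) w) (IsLocalRing.closedPoint _)]
  exact Scheme.fromSpecStalk_closedPoint

theorem appLE_extPt {U : X.Opens} [Nonempty U] (e : ⊤ ≤ extPt (X := X) L ⁻¹ᵁ U) (a : Γ(X, U)) :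
    (Scheme.ΓSpecIso (CommRingCat.of L)).hom ((extPt (X := X) L).appLE U ⊤ e a) =
      algebraMap X.functionField L (X.germToFunctionField U a) := by
  have hU : genericPoint X ∈ U := by
    obtain ⟨⟨x, hx⟩⟩ := ‹Nonempty U›
    exact (genericPoint_specializes x).mem_open U.2 hx
  haveI : Subsingleton (Spec X.functionField) := inferInstanceAs (Subsingleton (PrimeSpectrum X.functionField))
  have e1 : (⊤ : (Spec X.functionField).Opens) ≤ X.fromSpecStalk (genericPoint X) ⁻¹ᵁ U := fun w _ => by
    show X.fromSpecStalk (genericPoint X) w ∈ U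
    rw [Subsingleton.elim w (IsLocalRing.closedPoint _), Scheme.fromSpecStalk_closedPoint]
    exact hU
  rw [← Scheme.Hom.appLE_comp_appLE _ _ U ⊤ ⊤ e1 le_rfl]
  have h1 : (X.fromSpecStalk (genericPoint X)).appLE U ⊤ e1 =
      X.presheaf.germ U _ hU ≫ (Scheme.ΓSpecIso X.functionField).inv := by
    rw [Scheme.Hom.appLE, Scheme.fromSpecStalk_app hU, Category.assoc, Category.assoc, ← Functor.map_comp]
    simp
    rfl
  rw [h1, CommRingCat.comp_apply, CommRingCat.comp_apply]
  have h2 := Scheme.ΓSpecIso_naturality (CommRingCat.ofHom (algebraMap X.functionField L))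
  have h3 := ConcreteCategory.congr_hom h2
    ((Scheme.ΓSpecIso X.functionField).inv (X.presheaf.germ U _ hU a))
  rw [CommRingCat.comp_apply, CommRingCat.comp_apply] at h3
  erw [Iso.inv_hom_id_apply] at h3
  convert h3 using 2
  all_goals first
    | rfl
    | (rw [Scheme.Hom.appTop, Scheme.Hom.app_eq_appLE]; rfl)

variable [Algebra.IsAlgebraic X.functionField L] [QuasiCompact (extPt (X := X) L)]
  [QuasiSeparated (extPt (X := X) L)]

/-- The generic stalk of the normalization is the extension field. -/
theorem surjective_stalkMap_toNormalization (w : Spec (CommRingCat.of L)) :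
    Function.Surjective ((extPt (X := X) L).toNormalization.stalkMap w) := by
  intro c
  haveI : Subsingleton (Spec (CommRingCat.of L)) := inferInstanceAs (Subsingleton (PrimeSpectrum L))
  let h := extPt (X := X) L
  obtain ⟨V, hwV, c₀, rfl⟩ := TopCat.Presheaf.exists_germ_eq (Spec (CommRingCat.of L)).presheaf c
  obtain rfl : V = ⊤ := top_le_iff.1 fun v _ => by rwa [Subsingleton.elim v w]
  obtain ⟨_, ⟨U, hU, rfl⟩, hxU, -⟩ :=
    X.isBasis_affineOpens.exists_subset_of_mem_open (Set.mem_univ (genericPoint X)) isOpen_univ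
  have hU : IsAffineOpen U := hU
  haveI : Nonempty U := ⟨⟨_, hxU⟩⟩
  have e : (⊤ : (Spec (CommRingCat.of L)).Opens) ≤ h ⁻¹ᵁ U := fun v _ => by
    show h v ∈ U
    rw [extPt_apply]; exact hxU
  obtain ⟨l, rfl⟩ : ∃ l, (Scheme.ΓSpecIso (CommRingCat.of L)).inv l = c₀ :=
    ⟨(Scheme.ΓSpecIso (CommRingCat.of L)).hom c₀, Iso.hom_inv_id_apply _ _⟩
  -- clear denominators
  letI : Algebra Γ(X, U) X.functionField := (X.germToFunctionField U).hom.toAlgebra
  letI : Algebra Γ(X, U) L := ((algebraMap X.functionField L).comp (X.germToFunctionField U).hom).toAlgebra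
  haveI : IsScalarTower Γ(X, U) X.functionField L := IsScalarTower.of_algebraMap_eq fun _ => rfl
  haveI := functionField_isFractionRing_of_isAffineOpen X U hU
  haveI : Algebra.IsAlgebraic Γ(X, U) L :=
    (IsFractionRing.comap_isAlgebraic_iff (A := Γ(X, U)) (K := X.functionField) (C := L)).2 inferInstance
  obtain ⟨y, hy0, hy⟩ := (Algebra.IsAlgebraic.isAlgebraic (R := Γ(X, U)) l).exists_integral_multiple
  -- the section of the normalization
  letI := (h.app U).hom.toAlgebra
  let res : Γ(Spec (CommRingCat.of L), h ⁻¹ᵁ U) ⟶ Γ(Spec (CommRingCat.of L), ⊤) :=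
    (Spec (CommRingCat.of L)).presheaf.map (homOfLE e).op
  haveI : IsIso res := by
    have : (⊤ : (Spec (CommRingCat.of L)).Opens) = h ⁻¹ᵁ U := (top_le_iff.1 e).symm
    show IsIso ((Spec (CommRingCat.of L)).presheaf.map (homOfLE e).op)
    haveI : IsIso (homOfLE e) := ⟨eqToHom this.symm, rfl, rfl⟩
    infer_instance
  let θ : Γ(Spec (CommRingCat.of L), h ⁻¹ᵁ U) ≃+* L :=
    (asIso res ≪≫ Scheme.ΓSpecIso (CommRingCat.of L)).commRingCatIsoToRingEquiv
  have hθ : ∀ a : Γ(X, U), θ (algebraMap Γ(X, U) Γ(Spec (CommRingCat.of L), h ⁻¹ᵁ U) a) = algebraMap Γ(X, U) L a :=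
    fun a => appLE_extPt L e a
  let m := y • l
  obtain ⟨P, hP, hPe⟩ := hy
  have hint : IsIntegral Γ(X, U) (θ.symm m) := by
    refine ⟨P, hP, θ.injective ?_⟩
    rw [map_zero, ← RingEquiv.coe_toRingHom, Polynomial.hom_eval₂, RingEquiv.coe_toRingHom, θ.apply_symm_apply,
      show (θ : Γ(Spec (CommRingCat.of L), h ⁻¹ᵁ U) →+* L).comp
        (algebraMap Γ(X, U) Γ(Spec (CommRingCat.of L), h ⁻¹ᵁ U)) = algebraMap Γ(X, U) L from RingHom.ext hθ]
    exact hPe
  let b := (h.normalizationObjIso hU).inv ⟨θ.symm m, hint⟩
  have eN : h ⁻¹ᵁ U ≤ h.toNormalization ⁻¹ᵁ (h.fromNormalization ⁻¹ᵁ U) := by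
    rw [← Scheme.Hom.comp_preimage, Scheme.Hom.toNormalization_fromNormalization]
  have hb : h.toNormalization.appLE _ _ eN b = θ.symm m := by
    have := ConcreteCategory.congr_hom (h.normalizationObjIso_hom_val hU) b
    rw [CommRingCat.comp_apply] at this
    refine this.symm.trans ?_
    show ((h.normalizationObjIso hU).hom b : integralClosure Γ(X, U) Γ(Spec (CommRingCat.of L), h ⁻¹ᵁ U)).1 = _
    exact congrArg Subtype.val (Iso.inv_hom_id_apply (h.normalizationObjIso hU) _)
  let a := h.fromNormalization.app U y
  have ha : h.toNormalization.appLE _ _ eN a = algebraMap Γ(X, U) Γ(Spec (CommRingCat.of L), h ⁻¹ᵁ U) y := by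
    have h1 : h.fromNormalization.app U ≫ h.toNormalization.appLE _ _ eN = h.app U := by
      rw [Scheme.Hom.app_eq_appLE, Scheme.Hom.appLE_comp_appLE, Scheme.Hom.app_eq_appLE]
      congr 1
      exact h.toNormalization_fromNormalization
    exact ConcreteCategory.congr_hom h1 y
  have hwN : h.toNormalization w ∈ h.fromNormalization ⁻¹ᵁ U := eN (e (show w ∈ ⊤ from trivial))
  have key : ∀ z, (h.toNormalization.stalkMap w) (h.normalization.presheaf.germ _ _ hwN z) =
      (Spec (CommRingCat.of L)).presheaf.germ ⊤ w trivial (res (h.toNormalization.appLE _ _ eN z)) := fun z => by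
    rw [Scheme.Hom.germ_stalkMap_apply, TopCat.Presheaf.germ_res_apply, Scheme.Hom.appLE, CommRingCat.comp_apply,
      TopCat.Presheaf.germ_res_apply]
  let sU : Γ(Spec (CommRingCat.of L), ⊤) := (Scheme.ΓSpecIso (CommRingCat.of L)).inv (algebraMap Γ(X, U) L y)
  have hres : ∀ z, res z = (Scheme.ΓSpecIso (CommRingCat.of L)).inv (θ z) :=
    fun z => (Iso.hom_inv_id_apply _ _).symm
  -- the generic stalk is a field
  have hne : algebraMap Γ(X, U) L y ≠ 0 := fun h0 => hy0 (IsFractionRing.injective Γ(X, U) X.functionField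
    ((algebraMap X.functionField L).injective (by rw [map_zero, map_zero]; exact h0)))
  have hunit : IsUnit (h.normalization.presheaf.germ _ _ hwN a) := by
    refine (isUnit_map_iff (h.toNormalization.stalkMap w).hom _).1 ?_
    rw [key, ha, hres, hθ]
    exact ((isUnit_iff_ne_zero.2 hne).map (Scheme.ΓSpecIso (CommRingCat.of L)).inv.hom).map _
  obtain ⟨v, hv⟩ := hunit.exists_left_inv
  refine ⟨v * h.normalization.presheaf.germ _ _ hwN b, ?_⟩
  have hv' := congrArg (h.toNormalization.stalkMap w) hv
  rw [map_mul, map_one, key, ha, hres, hθ] at hv'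
  rw [map_mul, key, hb, hres, θ.apply_symm_apply, show m = algebraMap Γ(X, U) L y * l from Algebra.smul_def y l,
    map_mul, map_mul, ← mul_assoc, hv', one_mul]

end GrothLib.FEt21
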