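import Groth.Prelude.Def_PiSp
import Groth.Agent.Lib.FEt21.Galois
import Groth.Agent.Lib.GalCat21.Basic
import Groth.Agent.S0296
import Mathlib.CategoryTheory.Conj

/-!
# Paths, orbits and density in fundamental groups of finite étale covers
-/

set_option autoImplicit false
set_option backward.isDefEq.respectTransparency false

universe u

open CategoryTheory CategoryTheory.Limits AlgebraicGeometry

namespace GrothLib.FEt21

variable {X : Scheme.{u}} {Ω : Type u} [Field Ω] [IsAlgClosed Ω]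
  (ξ : Spec (CommRingCat.of Ω) ⟶ X)

/-- A geometric point lying in the image of a map of covers lifts. -/
theorem exists_map_eq_of_mem_range {A B : FEt.Cat X} (i : A ⟶ B) (t : FEt.fiberObj ξ B)
    (ht : t.1 default ∈ Set.range i.left) : ∃ a : FEt.fiberObj ξ A, (FEt.fiber ξ).map i a = t := by
  obtain ⟨y, hy⟩ := ht
  have := (prop_left i).1
  have := (prop_left i).2
  have h1 := Scheme.Hom.one_le_finrank_map i.left y
  have hpos : 0 < Nat.card {s : FEt.fiberObj ξ A // s.1 ≫ i.left = t.1} :=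
    Nat.lt_of_lt_of_le Nat.zero_lt_one (((congr_arg _ hy).trans (finrank_eq_card i ξ t)) ▸ h1)
  obtain ⟨a, ha⟩ := (Nat.card_pos_iff.1 hpos).1
  exact ⟨a, Subtype.ext ha⟩

theorem mem_range_of_map {A B : FEt.Cat X} (i : A ⟶ B) (a : FEt.fiberObj ξ A) :
    ((FEt.fiber ξ).map i a).1 default ∈ Set.range i.left := ⟨a.1 default, rfl⟩

/-- Isomorphisms of fibre functors respect clopen subsets of covers. -/
theorem mem_clopen_iff {Ω' : Type u} [Field Ω'] [IsAlgClosed Ω']
    {η : Spec (CommRingCat.of Ω') ⟶ X} (e : FEt.fiber η ≅ FEt.fiber ξ) {A : FEt.Cat X}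
    {D : Set A.left} (hD : IsClopen D) (s : FEt.fiberObj η A) :
    (e.hom.app A s : FEt.fiberObj ξ A).1 default ∈ D ↔ s.1 default ∈ D := by
  let W : A.left.Opens := ⟨D, hD.2⟩
  let i : mkOf A W.ι (prop_ι W hD.1) ⟶ A := MorphismProperty.Over.homMk W.ι rfl
  have hi : Set.range i.left = D := Scheme.Opens.range_ι W
  constructor <;> intro h <;> rw [← hi] at h ⊢
  · obtain ⟨a, ha⟩ := exists_map_eq_of_mem_range ξ i _ h
    have h2 : (FEt.fiber η).map i (e.inv.app _ a) = s := by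
      have h3 := congr($(e.inv.naturality i) a).symm
      refine h3.trans ?_
      change e.inv.app A ((FEt.fiber ξ).map i a) = s
      rw [ha]
      exact congr($(e.hom_inv_id_app A) s)
    rw [← h2]
    exact mem_range_of_map η i _
  · obtain ⟨a, rfl⟩ := exists_map_eq_of_mem_range η i s h
    rw [show e.hom.app A ((FEt.fiber η).map i a) = (FEt.fiber ξ).map i (e.hom.app _ a) from
      congr($(e.hom.naturality i) a)]
    exact mem_range_of_map ξ i _

/-- Geometric points of a connected scheme are joined by a path. -/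
theorem nonempty_path [ConnectedSpace X] {Ω' : Type u} [Field Ω'] [IsAlgClosed Ω']
    (η : Spec (CommRingCat.of Ω') ⟶ X) : Nonempty (FEt.fiber η ≅ FEt.fiber ξ) :=
  Groth.Agent.S0296.result η ξ

section Connected

variable [PreconnectedSpace X]

/-- Every point of a fibre is contained in a connected component, whose fibre is its orbit. -/
theorem exists_component (A : FEt.Cat X) (s : FEt.fiberObj ξ A) :
    ∃ (P : FEt.Cat X) (i : P ⟶ A) (p : FEt.fiberObj ξ P), (FEt.fiber ξ).map i p = s ∧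
      (∀ q : FEt.fiberObj ξ P, ∃ σ : FEt.piOne X ξ, σ.hom.app P p = q) ∧
      ∀ t : FEt.fiberObj ξ A, t.1 default ∈ Set.range i.left ↔
        ∃ σ : FEt.piOne X ξ, σ.hom.app A s = t := by
  haveI := preGalois (X := X)
  haveI := fiberFunctor ξ
  haveI : GaloisCategory (FEt.Cat X) := { hasFiberFunctor := ⟨fibFin ξ, ⟨inferInstance⟩⟩ }
  obtain ⟨P, i, p, hP, -, hp, -⟩ := GrothLib.GalCat21.exists_component (fibFin ξ) A s
  have htr : ∀ q : FEt.fiberObj ξ P, ∃ σ : FEt.piOne X ξ, σ.hom.app P p = q := fun q => by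
    obtain ⟨τ, hτ⟩ := MulAction.exists_smul_eq (Aut (fibFin ξ)) p (q : (fibFin ξ).obj P)
    exact ⟨(fibFinIncl ξ).conjAut (Functor.isoWhiskerRight τ FintypeCat.incl), hτ⟩
  refine ⟨P, i, p, hp, htr, fun t => ⟨fun ht => ?_, ?_⟩⟩
  · obtain ⟨q, rfl⟩ := exists_map_eq_of_mem_range ξ i t ht
    obtain ⟨σ, hσ⟩ := htr q
    refine ⟨σ, ?_⟩
    rw [← hσ, ← hp]
    exact congr($(σ.hom.naturality i) p)
  · rintro ⟨σ, rfl⟩
    rw [← hp, show σ.hom.app A ((fibFin ξ).map i p) = (FEt.fiber ξ).map i (σ.hom.app P p) from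
      congr($(σ.hom.naturality i) p)]
    exact mem_range_of_map ξ i _

/-- A subset of a fibre stable under the fundamental group is cut out by a clopen subset. -/
theorem exists_clopen_of_stable (A : FEt.Cat X) (O : Set (FEt.fiberObj ξ A))
    (hO : ∀ (σ : FEt.piOne X ξ) (s : FEt.fiberObj ξ A), s ∈ O → σ.hom.app A s ∈ O) :
    ∃ D : Set A.left, IsClopen D ∧ ∀ s : FEt.fiberObj ξ A, s.1 default ∈ D ↔ s ∈ O := by
  choose P i p hp _ hr using fun s : O => exists_component ξ A s.1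
  refine ⟨⋃ s : O, Set.range (i s).left, ?_, fun t => ?_⟩
  · haveI : Finite (FEt.fiberObj ξ A) := finite_fiber ξ A
    exact isClopen_iUnion_of_finite fun s =>
      ⟨(isClosed_compl_range (i s)).2, (isClosed_compl_range (i s)).1⟩
  · simp only [Set.mem_iUnion, hr]
    exact ⟨fun ⟨s, σ, e⟩ => e ▸ hO σ _ s.2, fun h => ⟨⟨t, h⟩, 1, rfl⟩⟩

/-- Over a connected base two clopen subsets of a cover meeting one fibre in the same points are equal. -/
theorem clopen_eq_of_fiber {A : FEt.Cat X} {D D' : Set A.left} (hD : IsClopen D) (hD' : IsClopen D')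
    (h : ∀ s : FEt.fiberObj ξ A, s.1 default ∈ D ↔ s.1 default ∈ D') : D = D' := by
  suffices key : ∀ E : Set A.left, IsClopen E → (∀ s : FEt.fiberObj ξ A, s.1 default ∉ E) → E = ∅ by
    refine Set.Subset.antisymm ?_ ?_ <;> rw [← Set.diff_eq_empty] <;>
      refine key _ (IsClopen.diff ‹_› ‹_›) fun s hs => hs.2 ?_
    · exact (h s).1 hs.1
    · exact (h s).2 hs.1
  intro E hE hs
  refine Set.eq_empty_of_forall_notMem fun a ha => ?_
  let W : A.left.Opens := ⟨E, hE.2⟩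
  obtain ⟨t⟩ := nonempty_fiber ξ (mkOf A W.ι (prop_ι W hE.1)) ⟨a, ha⟩
  let i : mkOf A W.ι (prop_ι W hE.1) ⟶ A := MorphismProperty.Over.homMk W.ι rfl
  exact hs ((FEt.fiber ξ).map i t) (t.1 default).2

/-- A connected cover with a point dominates finitely many pointed covers. -/
theorem exists_dominating (J : Finset (FEt.Cat X)) :
    ∃ (P : FEt.Cat X) (p : FEt.fiberObj ξ P),
      (∀ q : FEt.fiberObj ξ P, ∃ σ : FEt.piOne X ξ, σ.hom.app P p = q) ∧
      ∀ A ∈ J, ∀ s : FEt.fiberObj ξ A, ∃ φ : P ⟶ A, (FEt.fiber ξ).map φ p = s := by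
  classical
  haveI := preGalois (X := X)
  haveI := fiberFunctor ξ
  haveI : GaloisCategory (FEt.Cat X) := { hasFiberFunctor := ⟨fibFin ξ, ⟨inferInstance⟩⟩ }
  suffices key : ∀ L : List (Σ A : FEt.Cat X, FEt.fiberObj ξ A), ∃ (P : FEt.Cat X) (p : FEt.fiberObj ξ P),
      (∀ q : FEt.fiberObj ξ P, ∃ σ : FEt.piOne X ξ, σ.hom.app P p = q) ∧
      ∀ x ∈ L, ∃ φ : P ⟶ x.1, (FEt.fiber ξ).map φ p = x.2 by
    haveI : ∀ A : FEt.Cat X, Fintype (FEt.fiberObj ξ A) := fun A =>
      @Fintype.ofFinite _ (finite_fiber ξ A)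
    obtain ⟨P, p, hP, h⟩ := key (J.sigma fun A => (Finset.univ : Finset (FEt.fiberObj ξ A))).toList
    exact ⟨P, p, hP, fun A hA s => h ⟨A, s⟩ (by simp [hA])⟩
  intro L
  induction L with
  | nil =>
    obtain ⟨P, i, p, -, hP, -⟩ := exists_component ξ (⊤_ FEt.Cat X)
      (default : (fibFin ξ).obj (⊤_ FEt.Cat X))
    exact ⟨P, p, hP, by simp⟩
  | cons x L ih =>
    obtain ⟨P, p, -, hL⟩ := ih
    let z : FEt.fiberObj ξ (x.1 ⨯ P) :=
      (PreGaloisCategory.fiberBinaryProductEquiv (fibFin ξ) x.1 P).symm (x.2, p)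
    obtain ⟨Q, i, q, hq, hQ, -⟩ := exists_component ξ (x.1 ⨯ P) z
    have h1 : (FEt.fiber ξ).map (i ≫ prod.fst) q = x.2 := by
      rw [Functor.map_comp]
      exact (congrArg ((fibFin ξ).map prod.fst) hq).trans
        (PreGaloisCategory.fiberBinaryProductEquiv_symm_fst_apply (fibFin ξ) x.2 p)
    have h2 : (FEt.fiber ξ).map (i ≫ prod.snd) q = p := by
      rw [Functor.map_comp]
      exact (congrArg ((fibFin ξ).map prod.snd) hq).trans
        (PreGaloisCategory.fiberBinaryProductEquiv_symm_snd_apply (fibFin ξ) x.2 p)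
    refine ⟨Q, q, hQ, fun y hy => ?_⟩
    rcases List.mem_cons.1 hy with rfl | hy
    · exact ⟨_, h1⟩
    · obtain ⟨φ, hφ⟩ := hL y hy
      refine ⟨(i ≫ prod.snd) ≫ φ, ?_⟩
      rw [Functor.map_comp, ← hφ]
      exact congrArg ((FEt.fiber ξ).map φ) h2

/-- A subgroup is dense if it is transitive on the fibres of connected covers. -/
theorem topGenerates_of_transitive (S : Set (FEt.piOne X ξ))
    (h : ∀ (P : FEt.Cat X) (p : FEt.fiberObj ξ P),
      (∀ q : FEt.fiberObj ξ P, ∃ σ : FEt.piOne X ξ, σ.hom.app P p = q) →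
      ∀ q : FEt.fiberObj ξ P, ∃ τ ∈ Subgroup.closure S, τ.hom.app P p = q) :
    PiSp.TopGenerates S := by
  rw [PiSp.TopGenerates, dense_iff_inter_open]
  rintro U ⟨V, hV, rfl⟩ ⟨σ, hσ⟩
  letI : ∀ Z : FEt.Cat X, TopologicalSpace (FEt.fiberObj ξ Z → FEt.fiberObj ξ Z) := fun _ => ⊥
  obtain ⟨J, W, hW, hWV⟩ := (@isOpen_pi_iff (FEt.Cat X)
    (fun Z => FEt.fiberObj ξ Z → FEt.fiberObj ξ Z) (fun _ => ⊥) V).1 hV _ hσ
  obtain ⟨P, p, hP, hJ⟩ := exists_dominating ξ J
  obtain ⟨τ, hτ, hτp⟩ := h P p hP (σ.hom.app P p)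
  refine ⟨τ, hWV fun A hA => ?_, hτ⟩
  convert (hW A hA).2 using 1
  funext s
  obtain ⟨φ, rfl⟩ := hJ A hA s
  exact (congr($(τ.hom.naturality φ) p)).trans
    ((congrArg ((FEt.fiber ξ).map φ) hτp).trans (congr($(σ.hom.naturality φ) p)).symm)

end Connected

omit [IsAlgClosed Ω] in
/-- A dense subgroup matches every element on each fibre. -/
theorem exists_mem_agree {S : Set (FEt.piOne X ξ)} (hS : PiSp.TopGenerates S) (σ : FEt.piOne X ξ)
    (A : FEt.Cat X) : ∃ τ ∈ Subgroup.closure S, ∀ s, τ.hom.app A s = σ.hom.app A s := by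
  letI : ∀ Z : FEt.Cat X, TopologicalSpace (FEt.fiberObj ξ Z → FEt.fiberObj ξ Z) := fun _ => ⊥
  haveI : DiscreteTopology (FEt.fiberObj ξ A → FEt.fiberObj ξ A) := ⟨rfl⟩
  have ho : IsOpen {f : (Z : FEt.Cat X) → FEt.fiberObj ξ Z → FEt.fiberObj ξ Z |
      f A = fun s => σ.hom.app A s} :=
    (continuous_apply (A := fun Z => FEt.fiberObj ξ Z → FEt.fiberObj ξ Z) A).isOpen_preimage
      {(fun s => σ.hom.app A s)} (isOpen_discrete _)
  obtain ⟨τ, hτ, hτS⟩ := dense_iff_inter_open.1 hS _ (⟨_, ho, rfl⟩ :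
    IsOpen ((fun (τ : FEt.piOne X ξ) (Z : FEt.Cat X) (s : FEt.fiberObj ξ Z) => (τ.hom.app Z) s) ⁻¹'
      {f | f A = fun s => σ.hom.app A s})) ⟨σ, rfl⟩
  exact ⟨τ, hτS, fun s => congrFun hτ s⟩

/-- The map on automorphisms of fibre functors given by an identification of the composite with restriction. -/
noncomputable def pushHom {Y : Scheme.{u}} {Ω' : Type u} [Field Ω'] {η : Spec (CommRingCat.of Ω') ⟶ Y}
    {f : Y ⟶ X} (α : FEt.restrict f ⋙ FEt.fiber η ≅ FEt.fiber ξ) :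
    FEt.piOne Y η →* FEt.piOne X ξ :=
  α.conjAut.toMonoidHom.comp (((Functor.whiskeringLeft _ _ (Type u)).obj (FEt.restrict f)).mapAut (FEt.fiber η))

omit [IsAlgClosed Ω] in
theorem pushHom_app {Y : Scheme.{u}} {Ω' : Type u} [Field Ω'] {η : Spec (CommRingCat.of Ω') ⟶ Y}
    {f : Y ⟶ X} (α : FEt.restrict f ⋙ FEt.fiber η ≅ FEt.fiber ξ) (σ : FEt.piOne Y η)
    (A : FEt.Cat X) (s : FEt.fiberObj η ((FEt.restrict f).obj A)) :
    (pushHom ξ α σ).hom.app A (α.hom.app A s) = α.hom.app A (σ.hom.app ((FEt.restrict f).obj A) s) := by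
  change α.hom.app A (σ.hom.app _ (α.inv.app A (α.hom.app A s))) = _
  exact congrArg (fun t => α.hom.app A (σ.hom.app ((FEt.restrict f).obj A) t))
    (congr($(α.hom_inv_id_app A) s))

end GrothLib.FEt21
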