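import Groth.Agent.Lib.Purity.Basic
import Groth.Agent.Lib.NormalSerre.AssPrincipal

/-!
# Algebras which are finite étale off the common zeros of `y`, over a normal local domain
-/

set_option autoImplicit false
set_option linter.style.haveILetI false

universe u

open IsLocalRing TensorProduct

namespace GrothLib.FEt21

variable {A : Type u} [CommRing A] [IsDomain A] [IsNoetherianRing A] [IsLocalRing A]
  [IsIntegrallyClosed A] {d : ℕ} {y : Fin d → A}

theorem mem_range_of_forall_pow (hdim : (2 : WithBot ℕ∞) ≤ ringKrullDim A)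
    (hy : maximalIdeal A ≤ (Ideal.span (Set.range y)).radical) (w : FractionRing A)
    (hw : ∀ j, ∃ (k : ℕ) (a : A),
      algebraMap A (FractionRing A) a = w * algebraMap A (FractionRing A) (y j ^ k)) :
    w ∈ Set.range (algebraMap A (FractionRing A)) := by
  refine GrothLib.NormalSerre.mem_range_of_forall_height_one w fun P hP hP1 => ?_
  obtain ⟨j, hj⟩ : ∃ j, y j ∉ P := by
    by_contra! h
    have hm : maximalIdeal A ≤ P := hy.trans ((Ideal.IsPrime.radical_le_iff hP).2
      (Ideal.span_le.2 (Set.range_subset_iff.2 h)))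
    rw [← IsLocalRing.maximalIdeal_height_eq_ringKrullDim] at hdim
    have h2 : (2 : ℕ∞) ≤ P.height := (WithBot.coe_le_coe.1 hdim).trans (Ideal.height_mono hm)
    rw [hP1] at h2
    exact absurd h2 (by norm_num)
  obtain ⟨k, a, ha⟩ := hw j
  exact ⟨a, y j ^ k, fun hc => hj (hP.mem_of_pow_mem k hc), ha⟩

/-- Elements spanning up to powers of `s`. -/
theorem exists_span_pow {A R M L : Type u} [CommRing A] [CommRing R] [CommRing M] [CommRing L]
    [Algebra A R] [Algebra M L] [Algebra A M] [Algebra A L] [IsScalarTower A M L] [Algebra R L]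
    [IsScalarTower A R L] (s : A) [IsLocalization.Away s R] [IsLocalization.Away (algebraMap A M s) L]
    [Module.Finite R L] : ∃ (a : ℕ) (m : Fin a → M),
      Submodule.span R (Set.range fun c => algebraMap M L (m c)) = ⊤ ∧
      ∀ u : M, ∃ (k : ℕ) (c : Fin a → A), s ^ k • u = ∑ e, c e • m e := by
  classical
  obtain ⟨a, g, hg⟩ := Module.Finite.exists_fin (R := R) (M := L)
  have hfr : ∀ c, ∃ (m : M) (n : ℕ),
      g c * algebraMap M L (algebraMap A M s ^ n) = algebraMap M L m := fun c => by
    obtain ⟨⟨m, ⟨_, n, rfl⟩⟩, hm⟩ := IsLocalization.surj (Submonoid.powers (algebraMap A M s)) (g c)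
    exact ⟨m, n, hm⟩
  choose m nn hm using hfr
  have hspan : Submodule.span R (Set.range fun c => algebraMap M L (m c)) = ⊤ := by
    rw [eq_top_iff, ← hg, Submodule.span_le]
    rintro _ ⟨c, rfl⟩
    obtain ⟨r, hr⟩ : ∃ r : R, r * algebraMap A R (s ^ nn c) = 1 :=
      ⟨_, (IsLocalization.map_units R (⟨s ^ nn c, nn c, rfl⟩ : Submonoid.powers s)).val_inv_mul⟩
    have : r • algebraMap M L (m c) = g c := by
      rw [Algebra.smul_def, ← hm c, mul_left_comm, ← map_pow (algebraMap A M),
        ← IsScalarTower.algebraMap_apply A M L, IsScalarTower.algebraMap_apply A R L, ← map_mul, hr,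
        map_one, mul_one]
    rw [SetLike.mem_coe, ← this]
    exact Submodule.smul_mem _ _ (Submodule.subset_span ⟨c, rfl⟩)
  refine ⟨a, m, hspan, fun u => ?_⟩
  obtain ⟨r, hr⟩ := (Submodule.mem_span_range_iff_exists_fun R).1
    (hspan ▸ Submodule.mem_top : algebraMap M L u ∈ Submodule.span R (Set.range fun c => algebraMap M L (m c)))
  obtain ⟨⟨_, k, rfl⟩, hk⟩ := IsLocalization.exist_integer_multiples_of_finite (Submonoid.powers s) r
  choose c hc using hk
  have h1 : algebraMap M L (s ^ k • u) = algebraMap M L (∑ e, c e • m e) := by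
    have hmap : ∀ (x : A) (v : M), algebraMap M L (x • v) = x • algebraMap M L v := fun x v =>
      (IsScalarTower.toAlgHom A M L).toLinearMap.map_smul x v
    rw [map_sum, hmap, ← hr, Finset.smul_sum]
    refine Finset.sum_congr rfl fun e _ => ?_
    rw [hmap, ← algebraMap_smul R (c e), hc e, smul_assoc]
  obtain ⟨⟨_, n, rfl⟩, hn⟩ :=
    (IsLocalization.eq_iff_exists (Submonoid.powers (algebraMap A M s)) L).1 h1
  refine ⟨n + k, fun e => s ^ n * c e, ?_⟩
  simp only [← map_pow, ← Algebra.smul_def, Finset.smul_sum, ← mul_smul] at hn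
  rw [pow_add]
  exact hn

/-- Finiteness and local projectivity of an algebra which is finite étale off the common zeros. -/
theorem punct_of_local (hdim : (2 : WithBot ℕ∞) ≤ ringKrullDim A)
    (hy : maximalIdeal A ≤ (Ideal.span (Set.range y)).radical) {M : Type u} [CommRing M] [Algebra A M]
    (hinj : ∀ (k : ℕ) (u : M), (∀ i, y i ^ k • u = 0) → u = 0)
    (hsat : ∀ (k : ℕ) (t : Fin d → M), (∀ i j, y j ^ k • t i = y i ^ k • t j) →
      ∃ u, ∀ i, y i ^ k • u = t i)
    (hloc : ∀ i, ∃ (R L : Type u) (_ : CommRing R) (_ : CommRing L) (_ : Algebra A R) (_ : Algebra M L)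
      (ψ : R →+* L), IsLocalization.Away (y i) R ∧ IsLocalization.Away (algebraMap A M (y i)) L ∧
        ψ.comp (algebraMap A R) = (algebraMap M L).comp (algebraMap A M) ∧ ψ.Finite ∧ ψ.Etale) :
    GrothLib.Purity.Punct A y M := by
  classical
  choose R L iR iL iAR iML ψ hR hL hcomm hfin het using hloc
  letI : ∀ i, CommRing (R i) := iR
  letI : ∀ i, CommRing (L i) := iL
  letI : ∀ i, Algebra A (R i) := iAR
  letI : ∀ i, Algebra M (L i) := iML
  letI : ∀ i, Algebra (R i) (L i) := fun i => (ψ i).toAlgebra
  letI : ∀ i, Algebra A (L i) := fun i => ((algebraMap M (L i)).comp (algebraMap A M)).toAlgebra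
  haveI : ∀ i, IsScalarTower A M (L i) := fun i => IsScalarTower.of_algebraMap_eq fun _ => rfl
  haveI : ∀ i, IsScalarTower A (R i) (L i) := fun i =>
    IsScalarTower.of_algebraMap_eq fun a => (RingHom.congr_fun (hcomm i) a).symm
  haveI := hR
  haveI := hL
  haveI : ∀ i, Module.Finite (R i) (L i) := hfin
  haveI : ∀ i, Algebra.Etale (R i) (L i) := het
  have hetA : ∀ i, Algebra.Etale A (Localization.Away (algebraMap A M (y i))) := fun i => by
    haveI : Algebra.Etale A (R i) := Algebra.Etale.of_isLocalizationAway (y i)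
    haveI : Algebra.Etale A (L i) := Algebra.Etale.comp A (R i) (L i)
    exact Algebra.Etale.of_equiv
      ((IsLocalization.algEquiv (Submonoid.powers (algebraMap A M (y i))) (L i) _).restrictScalars A)
  choose a m hspan hpow using fun i => exists_span_pow (R := R i) (M := M) (L := L i) (y i)
  -- bounded-denominator coordinates
  have main : ∀ i, ∃ (N : ℕ) (ι : M →ₗ[A] (Fin (a i) → A)),
      ∀ u, algebraMap M (L i) (∑ c, ι u c • m i c) = algebraMap M (L i) (y i ^ N • u) := by
    intro i
    by_cases hyi : y i = 0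
    · exact ⟨1, 0, fun u => by simp [hyi]⟩
    haveI : Module.FinitePresentation (R i) (L i) := Module.FinitePresentation.of_finite_of_finitePresentation _ _
    haveI : Module.Projective (R i) (L i) := Module.Flat.projective_of_finitePresentation
    let π : (Fin (a i) → R i) →ₗ[R i] L i := Fintype.linearCombination (R i) (fun c => algebraMap M (L i) (m i c))
    have hπ : Function.Surjective π := by
      rw [← LinearMap.range_eq_top, Fintype.range_linearCombination, hspan]
    obtain ⟨σ, hσ⟩ := Module.projective_lifting_property π LinearMap.id hπ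
    let f : M →ₗ[A] (Fin (a i) → R i) :=
      (σ.restrictScalars A).comp (IsScalarTower.toAlgHom A M (L i)).toLinearMap
    have hle : Submonoid.powers (y i) ≤ nonZeroDivisors A :=
      powers_le_nonZeroDivisors_of_noZeroDivisors hyi
    have hu : IsUnit (algebraMap A (FractionRing A) (y i)) :=
      isUnit_iff_ne_zero.2 ((map_ne_zero_iff _ (IsFractionRing.injective A _)).2 hyi)
    let κ : R i →+* FractionRing A := IsLocalization.Away.lift (y i) hu
    have hκ : ∀ x : A, κ (algebraMap A (R i) x) = algebraMap A _ x := IsLocalization.Away.lift_eq (y i) hu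
    have hκi : Function.Injective κ := by
      refine (IsLocalization.lift_injective_iff _).2 fun x z => ⟨fun h => ?_, fun h => ?_⟩
      · exact congrArg _ (IsLocalization.injective (R i) hle h)
      · exact congrArg _ (IsFractionRing.injective A _ h)
    have hRi : Function.Injective (algebraMap A (R i)) := IsLocalization.injective (R i) hle
    obtain ⟨⟨_, N, rfl⟩, hN⟩ := IsLocalization.exist_integer_multiples_of_finite (Submonoid.powers (y i))
      (fun q : (Σ j, Fin (a j)) × Fin (a i) => f (m q.1.1 q.1.2) q.2)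
    choose z hz using hN
    have hint : ∀ u e, ∃ x : A, algebraMap A (R i) x = y i ^ N • f u e := by
      intro u e
      obtain ⟨x, hx⟩ := mem_range_of_forall_pow hdim hy (κ (y i ^ N • f u e)) fun j => by
        obtain ⟨k, c, hc⟩ := hpow j u
        refine ⟨k, ∑ e', c e' * z (⟨j, e'⟩, e), ?_⟩
        have h1 : y j ^ k • (y i ^ N • f u e) = algebraMap A (R i) (∑ e', c e' * z (⟨j, e'⟩, e)) := by
          rw [smul_comm, ← Pi.smul_apply (y j ^ k) (f u) e, ← map_smul, hc, map_sum, Finset.sum_apply,
            Finset.smul_sum, map_sum]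
          refine Finset.sum_congr rfl fun e' _ => ?_
          rw [map_smul, Pi.smul_apply, map_mul, hz, smul_comm, Algebra.smul_def (c e')]
        rw [← hκ, ← h1, Algebra.smul_def, map_mul, hκ, mul_comm]
      exact ⟨x, hκi ((hκ x).trans hx)⟩
    choose x hx using hint
    let ι : M →ₗ[A] (Fin (a i) → A) :=
      { toFun := fun u e => x u e
        map_add' := fun u v => funext fun e => hRi (by simp [hx])
        map_smul' := fun r u => funext fun e => hRi (by
          simp only [hx, map_smul, Pi.smul_apply, RingHom.id_apply, smul_eq_mul, map_mul]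
          rw [← Algebra.smul_def, smul_comm]) }
    refine ⟨N, ι, fun u => ?_⟩
    have hmap : ∀ (r : A) (v : M), algebraMap M (L i) (r • v) = r • algebraMap M (L i) v := fun r v =>
      (IsScalarTower.toAlgHom A M (L i)).toLinearMap.map_smul r v
    have h2 : π (f u) = algebraMap M (L i) u := LinearMap.congr_fun hσ _
    rw [map_sum, hmap, ← h2, Fintype.linearCombination_apply, Finset.smul_sum]
    refine Finset.sum_congr rfl fun e _ => ?_
    rw [hmap, ← algebraMap_smul (R i) (ι u e)]
    show algebraMap A (R i) (x u e) • _ = _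
    rw [hx, smul_assoc]
  choose N ι hι using main
  let Φ : M →ₗ[A] (∀ i, Fin (a i) → A) := LinearMap.pi ι
  have hΦ : Function.Injective Φ := by
    refine (injective_iff_map_eq_zero Φ).2 fun u hu => ?_
    have h1 : ∀ i, ∃ n, y i ^ n • u = 0 := fun i => by
      have h2 : algebraMap M (L i) (y i ^ N i • u) = 0 := by
        rw [← hι i u]
        have : ι i u = 0 := congrFun hu i
        simp [this]
      obtain ⟨⟨_, n, rfl⟩, hn⟩ :=
        (IsLocalization.map_eq_zero_iff (Submonoid.powers (algebraMap A M (y i))) (L i) _).1 h2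
      refine ⟨n + N i, ?_⟩
      rw [pow_add, mul_smul, Algebra.smul_def, map_pow]
      exact hn
    choose n hn using h1
    refine hinj (Finset.univ.sup n) u fun i => ?_
    rw [← Nat.sub_add_cancel (Finset.le_sup (f := n) (Finset.mem_univ i)), pow_add, mul_smul, hn, smul_zero]
  haveI hfinM : Module.Finite A M := Module.Finite.of_injective Φ hΦ
  obtain ⟨r, gen, hgen⟩ := Module.Finite.exists_fin (R := A) (M := M)
  let π : ∀ i, (Fin (a i) → A) →ₗ[A] M := fun i => Fintype.linearCombination A (m i)
  have h3 : ∀ i l, ∃ n, y i ^ n • π i (ι i (gen l)) = y i ^ (n + N i) • gen l := fun i l => by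
    obtain ⟨⟨_, n, rfl⟩, hn⟩ :=
      (IsLocalization.eq_iff_exists (Submonoid.powers (algebraMap A M (y i))) (L i)).1 (hι i (gen l))
    refine ⟨n, ?_⟩
    rw [pow_add, mul_smul, Algebra.smul_def (y i ^ n), Algebra.smul_def (y i ^ n), map_pow]
    rw [Fintype.linearCombination_apply]
    exact hn
  choose n hn using h3
  obtain ⟨K, hK0, hK⟩ : ∃ K, 0 < K ∧ ∀ i l, n i l + N i ≤ K :=
    ⟨(Finset.univ.sup fun i => Finset.univ.sup fun l => n i l + N i) + 1, by omega, fun i l =>
      ((Finset.le_sup (f := fun l => n i l + N i) (Finset.mem_univ l)).trans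
        (Finset.le_sup (f := fun i => Finset.univ.sup fun l => n i l + N i) (Finset.mem_univ i))).trans
        (by omega)⟩
  refine ⟨hfinM, hinj, hsat, ⟨K, hK0, fun i => ⟨a i, (y i ^ (K - N i)) • ι i, π i, fun t => ?_⟩⟩, hetA⟩
  have h4 : (π i).comp ((y i ^ (K - N i)) • ι i) = y i ^ K • LinearMap.id :=
    LinearMap.ext_on hgen (by
      rintro _ ⟨l, rfl⟩
      have := hK i l
      show π i (y i ^ (K - N i) • ι i (gen l)) = y i ^ K • gen l
      rw [map_smul, show K - N i = (K - N i - n i l) + n i l by omega, pow_add, mul_smul, hn, ← mul_smul,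
        ← pow_add]
      congr 2
      omega)
  exact LinearMap.congr_fun h4 t

end GrothLib.FEt21
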