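import Mathlib.AlgebraicGeometry.Normalization
import Mathlib.AlgebraicGeometry.Morphisms.Affine

/-!
# Morphisms into a scheme affine over the base

They are compatible families of ring maps over the affine opens of the base.
-/

set_option autoImplicit false
set_option backward.isDefEq.respectTransparency false

universe u

open CategoryTheory CategoryTheory.Limits AlgebraicGeometry Opposite

namespace GrothLib.FEt21

variable {S X W : Scheme.{u}} {f : X ⟶ S} {g : W ⟶ S}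

theorem preimage_le_preimage {h : X ⟶ W} (hh : h ≫ g = f) (U : S.Opens) :
    f ⁻¹ᵁ U ≤ h ⁻¹ᵁ (g ⁻¹ᵁ U) := by
  subst hh; exact le_rfl

variable [IsAffineHom g]

theorem ι_comp_eq (h : X ⟶ W) (hh : h ≫ g = f) {U : S.Opens} (hU : IsAffineOpen U) :
    (f ⁻¹ᵁ U).ι ≫ h = (f ⁻¹ᵁ U).toSpecΓ ≫
      Spec.map (h.appLE (g ⁻¹ᵁ U) (f ⁻¹ᵁ U) (preimage_le_preimage hh U)) ≫
        (hU.preimage g).fromSpec := by
  rw [Scheme.Opens.toSpecΓ_SpecMap_appLE_assoc, IsAffineOpen.toSpecΓ_fromSpec,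
    Scheme.Hom.resLE_comp_ι]

/-- Morphisms into a scheme affine over the base are determined by their maps on sections. -/
theorem hom_ext_affine (h h' : X ⟶ W) (hh : h ≫ g = f) (hh' : h' ≫ g = f)
    (H : ∀ (U : S.Opens) (_ : IsAffineOpen U),
      h.appLE (g ⁻¹ᵁ U) (f ⁻¹ᵁ U) (preimage_le_preimage hh U) =
        h'.appLE (g ⁻¹ᵁ U) (f ⁻¹ᵁ U) (preimage_le_preimage hh' U)) : h = h' := by
  refine Scheme.hom_ext_of_forall h h' fun x => ?_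
  obtain ⟨_, ⟨U, hU, rfl⟩, hxU, -⟩ :=
    S.isBasis_affineOpens.exists_subset_of_mem_open (Set.mem_univ (f x)) isOpen_univ
  exact ⟨f ⁻¹ᵁ U, hxU, by rw [ι_comp_eq h hh hU, ι_comp_eq h' hh' hU, H U hU]⟩

omit [IsAffineHom g] in
/-- Morphisms given on the preimages of the affine opens of the base glue. -/
theorem exists_glue {T : Scheme.{u}} (m : ∀ U : S.affineOpens, (f ⁻¹ᵁ U.1 : Scheme) ⟶ T)
    (hm : ∀ (U V : S.affineOpens) (i : V.1 ≤ U.1), X.homOfLE (f.preimage_mono i) ≫ m U = m V) :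
    ∃ h : X ⟶ T, ∀ U : S.affineOpens, (f ⁻¹ᵁ U.1).ι ≫ h = m U := by
  let 𝒰 := X.openCoverOfIsOpenCover (fun U : S.affineOpens => f ⁻¹ᵁ U.1)
    (.comap (iSup_affineOpens_eq_top S) f.base.1)
  have H : ∀ U V : S.affineOpens,
      pullback.fst (f ⁻¹ᵁ U.1).ι (f ⁻¹ᵁ V.1).ι ≫ m U = pullback.snd _ _ ≫ m V := by
    intro U V
    refine Scheme.hom_ext_of_forall _ _ fun p => ?_
    let P := pullback (f ⁻¹ᵁ U.1).ι (f ⁻¹ᵁ V.1).ι
    let a : P ⟶ X := pullback.fst _ _ ≫ (f ⁻¹ᵁ U.1).ι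
    have ha : a = pullback.snd _ _ ≫ (f ⁻¹ᵁ V.1).ι := pullback.condition
    have hpU : f (a p) ∈ U.1 := ((pullback.fst (f ⁻¹ᵁ U.1).ι (f ⁻¹ᵁ V.1).ι) p).2
    have hpV : f (a p) ∈ V.1 := by
      rw [ha]; exact ((pullback.snd (f ⁻¹ᵁ U.1).ι (f ⁻¹ᵁ V.1).ι) p).2
    obtain ⟨_, ⟨O, hO, rfl⟩, hxO, hle⟩ := S.isBasis_affineOpens.exists_subset_of_mem_open
      (show f (a p) ∈ ((U.1 ⊓ V.1 : S.Opens) : Set S) from ⟨hpU, hpV⟩) (U.1 ⊓ V.1 : S.Opens).2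
    have hOU : O ≤ U.1 := fun x hx => (hle hx).1
    have hOV : O ≤ V.1 := fun x hx => (hle hx).2
    refine ⟨a ⁻¹ᵁ (f ⁻¹ᵁ O), hxO, ?_⟩
    have e1 : (a ∣_ (f ⁻¹ᵁ O)) ≫ X.homOfLE (f.preimage_mono hOU) =
        (a ⁻¹ᵁ (f ⁻¹ᵁ O)).ι ≫ pullback.fst _ _ := by
      rw [← cancel_mono (f ⁻¹ᵁ U.1).ι, Category.assoc, Category.assoc, Scheme.homOfLE_ι,
        morphismRestrict_ι]
    have e2 : (a ∣_ (f ⁻¹ᵁ O)) ≫ X.homOfLE (f.preimage_mono hOV) =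
        (a ⁻¹ᵁ (f ⁻¹ᵁ O)).ι ≫ pullback.snd _ _ := by
      rw [← cancel_mono (f ⁻¹ᵁ V.1).ι, Category.assoc, Category.assoc, Scheme.homOfLE_ι,
        morphismRestrict_ι, ha]
    rw [← reassoc_of% e1, ← reassoc_of% e2, hm U ⟨O, hO⟩ hOU, hm V ⟨O, hO⟩ hOV]
  exact ⟨𝒰.glueMorphisms m H, fun U => 𝒰.ι_glueMorphisms m H U⟩

/-- A compatible family of ring maps over the affine opens gives a morphism over the base. -/
theorem exists_hom (φ : ∀ U : S.affineOpens, Γ(W, g ⁻¹ᵁ U.1) ⟶ Γ(X, f ⁻¹ᵁ U.1))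
    (hφ : ∀ U : S.affineOpens, g.app U.1 ≫ φ U = f.app U.1)
    (hres : ∀ (U V : S.affineOpens) (i : V.1 ≤ U.1),
      W.presheaf.map (homOfLE (g.preimage_mono i)).op ≫ φ V =
        φ U ≫ X.presheaf.map (homOfLE (f.preimage_mono i)).op) :
    ∃ h : X ⟶ W, ∃ hh : h ≫ g = f, ∀ U : S.affineOpens,
      h.appLE (g ⁻¹ᵁ U.1) (f ⁻¹ᵁ U.1) (preimage_le_preimage hh U.1) = φ U := by
  let hW : ∀ U : S.affineOpens, IsAffineOpen (g ⁻¹ᵁ U.1) := fun U => U.2.preimage g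
  obtain ⟨h, hι⟩ := exists_glue (f := f)
    (fun U => (f ⁻¹ᵁ U.1).toSpecΓ ≫ Spec.map (φ U) ≫ (hW U).fromSpec) fun U V i => by
      rw [← Scheme.Opens.toSpecΓ_SpecMap_presheaf_map_assoc _ _ (f.preimage_mono i),
        ← Spec.map_comp_assoc, ← hres U V i, Spec.map_comp_assoc, IsAffineOpen.map_fromSpec]
  have hh : h ≫ g = f := by
    refine Scheme.hom_ext_of_forall _ f fun x => ?_
    obtain ⟨_, ⟨U, hU, rfl⟩, hxU, -⟩ :=
      S.isBasis_affineOpens.exists_subset_of_mem_open (Set.mem_univ (f x)) isOpen_univ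
    refine ⟨f ⁻¹ᵁ U, hxU, ?_⟩
    let U' : S.affineOpens := ⟨U, hU⟩
    change (f ⁻¹ᵁ U'.1).ι ≫ h ≫ g = (f ⁻¹ᵁ U'.1).ι ≫ f
    rw [← Category.assoc, hι U', Category.assoc, Category.assoc,
      ← IsAffineOpen.SpecMap_appLE_fromSpec g U'.2 (hW U') le_rfl, ← Spec.map_comp_assoc,
      ← Scheme.Hom.app_eq_appLE, hφ, Scheme.Opens.toSpecΓ_naturality_assoc,
      IsAffineOpen.toSpecΓ_fromSpec, morphismRestrict_ι]
  refine ⟨h, hh, fun U => ?_⟩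
  have h1 := hι U
  rw [ι_comp_eq h hh U.2, ← Category.assoc, ← Category.assoc, cancel_mono] at h1
  have h2 := congr_arg Scheme.Hom.appTop h1
  simp only [Scheme.Hom.comp_appTop, Scheme.Opens.toSpecΓ_appTop] at h2
  have key : ∀ {A : CommRingCat.{u}} (a : A ⟶ Γ(X, f ⁻¹ᵁ U.1)), a = (Scheme.ΓSpecIso A).inv ≫
      (Spec.map a).appTop ≫ (Scheme.ΓSpecIso _).hom ≫ (f ⁻¹ᵁ U.1).topIso.inv ≫
        (f ⁻¹ᵁ U.1).topIso.hom := by
    intro A a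
    rw [Iso.inv_hom_id, Category.comp_id, Scheme.ΓSpecIso_naturality, Iso.inv_hom_id_assoc]
  rw [key (h.appLE _ _ _), key (φ U)]
  simp only [← Category.assoc] at h2 ⊢
  simp only [Category.assoc] at h2 ⊢
  rw [reassoc_of% h2]

end GrothLib.FEt21
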