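import Mathlib.RingTheory.TotallySplit
import Mathlib.RingTheory.TensorProduct.Pi
import Mathlib.RingTheory.Flat.Basic
import Mathlib.RingTheory.Flat.Equalizer
import Mathlib.RingTheory.Localization.AtPrime.Basic

/-!
# Equalisers of homomorphisms of split algebras

A homomorphism between totally split algebras is, locally on the base, induced by a map of the
index sets; hence the equaliser of two such is again split, locally on the base.
-/

set_option autoImplicit false

open TensorProduct Function

namespace GrothLib.FEt21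

universe u

section Split

variable {T : Type u} [CommRing T] {F E : Type} [Finite F] [Finite E]

theorem exists_single_notMem [DecidableEq F] (χ : (F → T) →ₐ[T] (E → T)) (Q : Ideal T) [Q.IsPrime]
    (e : E) : ∃ i, χ (Pi.single i (1 : T)) e ∉ Q := by
  haveI := Fintype.ofFinite F
  by_contra hcon
  push Not at hcon
  have h1 : χ 1 e = ∑ i, χ (Pi.single i (1 : T)) e := by
    rw [← Finset.sum_apply, ← map_sum]
    exact congr_arg (fun g : F → T => χ g e) (Finset.univ_sum_single (1 : F → T)).symm
  rw [map_one, Pi.one_apply] at h1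
  exact (inferInstance : Q.IsPrime).ne_top ((Ideal.eq_top_iff_one _).2
    (h1 ▸ Q.sum_mem fun i _ => hcon i))

theorem mul_apply_eq (χ : (F → T) →ₐ[T] (E → T)) [DecidableEq F] (e : E) (i : F) (g : F → T) :
    χ (Pi.single i (1 : T)) e * χ g e = χ (Pi.single i (1 : T)) e * g i := by
  have hg : Pi.single i (1 : T) * g = g i • Pi.single i (1 : T) := by
    funext j
    rcases eq_or_ne j i with rfl | hj
    · simp
    · simp [Pi.single_eq_of_ne hj]
  have := congr_fun (congr_arg χ hg) e
  rw [map_mul, map_smul, Pi.mul_apply, Pi.smul_apply, smul_eq_mul] at this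
  rw [this, mul_comm]

/-- Near a prime, a homomorphism of split algebras is induced by a map of index sets. -/
theorem exists_eq_comp_nhd (χ : (F → T) →ₐ[T] (E → T)) (Q : Ideal T) [Q.IsPrime] :
    ∃ (f : T) (σ : E → F), f ∉ Q ∧ ∀ g e, f * χ g e = f * g (σ e) := by
  classical
  haveI := Fintype.ofFinite E
  choose σ hσ using exists_single_notMem χ Q
  refine ⟨∏ e, χ (Pi.single (σ e) (1 : T)) e, σ, fun h => ?_, fun g e => ?_⟩
  · obtain ⟨e, -, he⟩ := (inferInstance : Q.IsPrime).prod_mem_iff.1 h
    exact hσ e he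
  · rw [← Finset.prod_erase_mul _ _ (Finset.mem_univ e), mul_assoc, mul_assoc, mul_apply_eq]

/-- A point of a split algebra with values in a domain is an evaluation. -/
theorem exists_eval {L Ω : Type u} [CommRing L] [CommRing Ω] [IsDomain Ω] [Algebra L Ω]
    (χ : (F → L) →ₐ[L] Ω) : ∃ i, ∀ g, χ g = algebraMap L Ω (g i) := by
  classical
  haveI := Fintype.ofFinite F
  have h : ∃ i, χ (Pi.single i (1 : L)) ≠ 0 := by
    by_contra hcon
    push Not at hcon
    have := congr_arg χ (Finset.univ_sum_single (1 : F → L))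
    rw [map_sum, map_one] at this
    simp [hcon] at this
  obtain ⟨i, hi⟩ := h
  refine ⟨i, fun g => mul_left_cancel₀ hi ?_⟩
  have hg : Pi.single i (1 : L) * g = g i • Pi.single i (1 : L) := by
    funext j
    rcases eq_or_ne j i with rfl | hj
    · simp
    · simp [Pi.single_eq_of_ne hj]
  rw [← map_mul, hg, map_smul, Algebra.smul_def, mul_comm]

end Split

section Equalizer

variable {R A A' : Type u} [CommRing R] [CommRing A] [Algebra R A] [CommRing A'] [Algebra R A']
  (φ ψ : A →ₐ[R] A')

/-- The base change of a homomorphism. -/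
noncomputable abbrev bc (S : Type u) [CommRing S] [Algebra R S] : S ⊗[R] A →ₐ[S] S ⊗[R] A' :=
  Algebra.TensorProduct.map (AlgHom.id S S) φ

variable (S : Type u) [CommRing S] [Algebra R S] [Module.Flat R S]

theorem lTensor_equalizer_injective :
    Injective (Algebra.TensorProduct.map (AlgHom.id S S) (AlgHom.equalizer φ ψ).val) :=
  Module.Flat.lTensor_preserves_injective_linearMap (M := S)
    (AlgHom.equalizer φ ψ).val.toLinearMap Subtype.val_injective

theorem lTensor_equalizer_range (t : S ⊗[R] A) (ht : bc φ S t = bc ψ S t) :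
    ∃ s, Algebra.TensorProduct.map (AlgHom.id S S) (AlgHom.equalizer φ ψ).val s = t := by
  let Δ : A →ₗ[R] A' := φ.toLinearMap - ψ.toLinearMap
  have hex : Exact (AlgHom.equalizer φ ψ).val.toLinearMap Δ := by
    intro a
    constructor
    · intro h
      exact ⟨⟨a, sub_eq_zero.1 h⟩, rfl⟩
    · rintro ⟨⟨b, hb⟩, rfl⟩
      exact sub_eq_zero.2 hb
  have hΔ : LinearMap.lTensor S Δ t = 0 := by
    have : ∀ u : S ⊗[R] A, LinearMap.lTensor S Δ u = bc φ S u - bc ψ S u := by
      intro u
      induction u using TensorProduct.induction_on with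
      | zero => simp
      | tmul s a => simp [Δ, TensorProduct.tmul_sub]
      | add x y hx hy => simp only [map_add, hx, hy]; abel
    rw [this, ht, sub_self]
  obtain ⟨s, hs⟩ := (Module.Flat.lTensor_exact S hex t).1 hΔ
  exact ⟨s, hs⟩

end Equalizer

section Local

variable {R A A' : Type u} [CommRing R] [CommRing A] [Algebra R A] [CommRing A'] [Algebra R A']
  (φ ψ : A →ₐ[R] A') {L : Type u} [CommRing L] [Algebra R L] {F E : Type}

/-- Over a flat algebra where both maps are induced by maps of index sets, the equaliser is split on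
the coequaliser of the index sets. -/
theorem exists_algEquiv_equalizer [Module.Flat R L] (eA : L ⊗[R] A ≃ₐ[L] (F → L))
    (eA' : L ⊗[R] A' ≃ₐ[L] (E → L)) (σ τ : E → F)
    (hσ : ∀ t e, eA' (bc φ L t) e = eA t (σ e)) (hτ : ∀ t e, eA' (bc ψ L t) e = eA t (τ e)) :
    ∃ Θ : L ⊗[R] (AlgHom.equalizer φ ψ) ≃ₐ[L] (Quot (fun a b => ∃ e, σ e = a ∧ τ e = b) → L),
      ∀ t a, Θ t (Quot.mk _ a) =
        eA (Algebra.TensorProduct.map (AlgHom.id L L) (AlgHom.equalizer φ ψ).val t) a := by
  let r : F → F → Prop := fun a b => ∃ e, σ e = a ∧ τ e = b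
  let ι : L ⊗[R] (AlgHom.equalizer φ ψ) →ₐ[L] (L ⊗[R] A) :=
    Algebra.TensorProduct.map (AlgHom.id L L) (AlgHom.equalizer φ ψ).val
  have hι : ∀ t, bc φ L (ι t) = bc ψ L (ι t) := by
    intro t
    induction t using TensorProduct.induction_on with
    | zero => simp
    | tmul l x => simp [ι, show φ x.1 = ψ x.1 from x.2]
    | add x y hx hy => simp only [map_add, hx, hy]
  have hfix : ∀ t a b, r a b → eA (ι t) a = eA (ι t) b := by
    rintro t a b ⟨e, rfl, rfl⟩
    rw [← hσ, ← hτ, hι]
  let Θ : L ⊗[R] (AlgHom.equalizer φ ψ) →ₐ[L] (Quot r → L) :=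
    { toFun := fun t => Quot.lift (eA (ι t)) (hfix t)
      map_one' := by funext q; induction q using Quot.ind; simp
      map_mul' := fun x y => by funext q; induction q using Quot.ind; simp
      map_zero' := by funext q; induction q using Quot.ind; simp
      map_add' := fun x y => by funext q; induction q using Quot.ind; simp
      commutes' := fun l => by
        funext q
        induction q using Quot.ind with
        | mk a =>
          change eA (ι (algebraMap L _ l)) a = _
          rw [AlgHom.commutes ι, AlgEquiv.commutes]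
          rfl }
  have hΘ : ∀ t a, Θ t (Quot.mk r a) = eA (ι t) a := fun t a => rfl
  refine ⟨AlgEquiv.ofBijective Θ ⟨fun x y h => ?_, fun g => ?_⟩, hΘ⟩
  · refine lTensor_equalizer_injective φ ψ L (eA.injective (funext fun a => ?_))
    rw [← hΘ, ← hΘ, h]
  · obtain ⟨t, ht⟩ := lTensor_equalizer_range φ ψ L (eA.symm (fun a => g (Quot.mk r a)))
      (eA'.injective (funext fun e => by
        rw [hσ, hτ, eA.apply_symm_apply]
        exact congr_arg g (Quot.sound ⟨e, rfl, rfl⟩)))
    refine ⟨t, funext fun q => ?_⟩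
    induction q using Quot.ind with
    | mk a => rw [hΘ, ht, eA.apply_symm_apply]

end Local

section Nhd

variable {R A A' : Type u} [CommRing R] [CommRing A] [Algebra R A] [CommRing A'] [Algebra R A']
  (φ ψ : A →ₐ[R] A') {T : Type u} [CommRing T] [Algebra R T]
  {L : Type u} [CommRing L] [Algebra R L] [Algebra T L] [IsScalarTower R T L]

/-- Base change of a splitting. -/
noncomputable def splitBC {F : Type} [Finite F] (e : T ⊗[R] A ≃ₐ[T] (F → T)) (L : Type u)
    [CommRing L] [Algebra R L] [Algebra T L] [IsScalarTower R T L] :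
    L ⊗[R] A ≃ₐ[L] (F → L) :=
  letI := Fintype.ofFinite F
  letI := Classical.decEq F
  ((Algebra.TensorProduct.cancelBaseChange R T L L A).symm.trans
    (Algebra.TensorProduct.congr AlgEquiv.refl e)).trans
    (Algebra.TensorProduct.piScalarRight T L L F)

theorem splitBC_tmul {F : Type} [Finite F] (e : T ⊗[R] A ≃ₐ[T] (F → T)) (l : L) (a : A) (i : F) :
    splitBC e L (l ⊗ₜ[R] a) i = l * algebraMap T L (e (1 ⊗ₜ a) i) := by
  simp [splitBC, Algebra.smul_def, mul_comm]

variable {F E : Type} [Finite F] [Finite E] (eA : T ⊗[R] A ≃ₐ[T] (F → T))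
  (eA' : T ⊗[R] A' ≃ₐ[T] (E → T))

/-- Near every prime of a splitting algebra, both maps are maps of index sets. -/
theorem exists_nhd (Q : Ideal T) [Q.IsPrime] :
    ∃ (f : T) (σ τ : E → F), f ∉ Q ∧ ∀ (L : Type u) [CommRing L] [Algebra R L] [Algebra T L]
      [IsScalarTower R T L], IsUnit (algebraMap T L f) →
        (∀ t e, splitBC eA' L (bc φ L t) e = splitBC eA L t (σ e)) ∧
        (∀ t e, splitBC eA' L (bc ψ L t) e = splitBC eA L t (τ e)) := by
  let χ : (A →ₐ[R] A') → ((F → T) →ₐ[T] (E → T)) := fun φ =>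
    (eA'.toAlgHom.comp (bc φ T)).comp eA.symm.toAlgHom
  obtain ⟨f, σ, hf, hσ⟩ := exists_eq_comp_nhd (χ φ) Q
  obtain ⟨g, τ, hg, hτ⟩ := exists_eq_comp_nhd (χ ψ) Q
  refine ⟨f * g, σ, τ, fun h => ((inferInstance : Q.IsPrime).mem_or_mem h).elim hf hg, ?_⟩
  intro L _ _ _ _ hu
  rw [map_mul] at hu
  have key : ∀ (φ : A →ₐ[R] A') (f : T) (σ : E → F), IsUnit (algebraMap T L f) →
      (∀ g e, f * χ φ g e = f * g (σ e)) →
      ∀ t e, splitBC eA' L (bc φ L t) e = splitBC eA L t (σ e) := by
    intro φ f σ hu h t e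
    induction t using TensorProduct.induction_on with
    | zero => simp
    | add x y hx hy => simp only [map_add, Pi.add_apply, hx, hy]
    | tmul l a =>
      rw [show bc φ L (l ⊗ₜ[R] a) = l ⊗ₜ φ a by simp, splitBC_tmul, splitBC_tmul]
      refine congr_arg (l * ·) (hu.mul_left_cancel ?_)
      rw [← map_mul, ← map_mul, ← h]
      simp [χ]
  exact ⟨key φ f σ (isUnit_of_mul_isUnit_left hu) hσ, key ψ g τ (isUnit_of_mul_isUnit_right hu) hτ⟩

end Nhd

end GrothLib.FEt21
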