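import Groth.Agent.Lib.Hensel.LocalHull
import Groth.Agent.Lib.LocAcyc.Universal
import Mathlib.FieldTheory.IsSepClosed
import Mathlib.LinearAlgebra.TensorProduct.Vanishing

/-!
# The strict henselization at a prime as a colimit of étale algebras

For an `A`-algebra field `Ω` which is separably closed, `Hull A Ω` is a strictly henselian local
ring, and tensor products with it commute with the colimit of étale neighbourhoods.
-/

set_option autoImplicit false

universe u

open CategoryTheory TensorProduct Polynomial IsLocalRing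
open GrothLib.Hensel

namespace GrothLib.FEt21.StrictHull

variable (A : Type u) [CommRing A] (Ω : Type u) [Field Ω] [Algebra A Ω]

theorem isUnit_iff (x : Hull A Ω) : IsUnit x ↔ Hull.proj x ≠ 0 :=
  ⟨fun h ↦ (h.map Hull.proj).ne_zero, fun h ↦ Hull.isUnit_of_isUnit_proj h.isUnit⟩

theorem isLocalRing : IsLocalRing (Hull A Ω) := by
  have : Nontrivial (Hull A Ω) := (Hull.proj (A := A) (C := Ω)).toRingHom.domain_nontrivial
  refine .of_nonunits_add fun {a b} ha hb ↦ ?_
  simp only [mem_nonunits_iff, isUnit_iff, ne_eq, not_not] at *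
  rw [map_add, ha, hb, add_zero]

theorem henselianLocalRing : HenselianLocalRing (Hull A Ω) := by
  haveI := isLocalRing A Ω
  refine henselianLocalRing_of_henselianRing ?_
  have : maximalIdeal (Hull A Ω) = RingHom.ker (Hull.proj : Hull A Ω →ₐ[A] Ω).toRingHom := by
    ext x
    simp [mem_maximalIdeal, mem_nonunits_iff, isUnit_iff]
  rw [this]
  exact Hull.henselianRing

/-- Roots in `Ω` of separable monic polynomials with coefficients in the image lie in the image. -/
theorem exists_proj_eq (f : (Hull A Ω)[X]) (hf : f.Monic) (c : Ω)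
    (h1 : (f.map (Hull.proj : Hull A Ω →ₐ[A] Ω).toRingHom).eval c = 0)
    (h2 : (f.derivative.map (Hull.proj : Hull A Ω →ₐ[A] Ω).toRingHom).eval c ≠ 0) :
    ∃ x : Hull A Ω, Hull.proj x = c := by
  classical
  set d := f.natDegree
  obtain ⟨N, a, ha⟩ := Hull.exists_ι_family (fun i : Fin d ↦ f.coeff i)
  let p : N.Ring[X] := X ^ d + ∑ i : Fin d, Polynomial.C (a i) * X ^ (i : ℕ)
  have hp : p.map (Hull.ι N).toRingHom = f := by
    conv_rhs => rw [hf.as_sum]
    rw [← Fin.sum_univ_eq_sum_range (fun i ↦ Polynomial.C (f.coeff i) * X ^ i)]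
    simp [p, Polynomial.map_sum, ha, d]
  have : Nontrivial N.Ring := N.pt.toRingHom.domain_nontrivial
  have hpm : p.Monic := by
    refine monic_X_pow_add ((degree_sum_le _ _).trans_lt ((Finset.sup_lt_iff
      (WithBot.bot_lt_coe d)).mpr fun i _ ↦ (degree_C_mul_X_pow_le _ _).trans_lt
      (Nat.cast_lt.mpr i.isLt)))
  let _ : Algebra N.Ring Ω := N.pt.toRingHom.toAlgebra
  have : IsScalarTower A N.Ring Ω :=
    IsScalarTower.of_algebraMap_eq (R := A) (S := N.Ring) (A := Ω) fun r ↦ (N.pt.commutes r).symm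
  set P := simpleRootPair p hpm
  have hev : ∀ q : N.Ring[X], aeval c q =
      ((q.map (Hull.ι N).toRingHom).map (Hull.proj : Hull A Ω →ₐ[A] Ω).toRingHom).eval c := by
    intro q
    rw [Polynomial.map_map, Polynomial.eval_map, Polynomial.aeval_def]
    congr 1
    exact RingHom.ext fun y ↦ (Hull.proj_ι N y).symm
  have hmap : P.HasMap c := by
    refine ⟨?_, ?_⟩
    · rw [hev]
      show ((p.map (Hull.ι N).toRingHom).map _).eval c = 0
      rw [hp]; exact h1
    · rw [hev]
      show IsUnit (((p.derivative.map (Hull.ι N).toRingHom).map _).eval c)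
      rw [← derivative_map, hp]
      exact h2.isUnit
  let _ : Algebra A P.Ring := ((algebraMap N.Ring P.Ring).comp (algebraMap A N.Ring)).toAlgebra
  have : IsScalarTower A N.Ring P.Ring :=
    IsScalarTower.of_algebraMap_eq (R := A) (S := N.Ring) (A := P.Ring) fun _ ↦ rfl
  have : Algebra.Etale A P.Ring := Algebra.Etale.comp A N.Ring _
  let φ : P.Ring →ₐ[A] Ω := (P.lift _ hmap).restrictScalars A
  exact ⟨Hull.of φ P.X, (AlgHom.congr_fun (Hull.proj_comp_of φ) P.X).trans (P.lift_X _ hmap)⟩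

theorem isSepClosed_residueField [IsSepClosed Ω] :
    letI := isLocalRing A Ω
    IsSepClosed (ResidueField (Hull A Ω)) := by
  letI := isLocalRing A Ω
  have hle : ∀ x ∈ maximalIdeal (Hull A Ω), Hull.proj x = 0 := fun x hx => by
    simpa [mem_maximalIdeal, mem_nonunits_iff, isUnit_iff] using hx
  let ρ : ResidueField (Hull A Ω) →+* Ω :=
    Ideal.Quotient.lift _ (Hull.proj : Hull A Ω →ₐ[A] Ω).toRingHom hle
  have hρ : ∀ x, ρ (residue _ x) = Hull.proj x := fun x => rfl
  refine IsSepClosed.of_exists_root _ fun q hqm hqi hqs => ?_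
  obtain ⟨c, hc⟩ := IsSepClosed.exists_root (q.map ρ)
    (by rw [Polynomial.degree_map]; exact (Polynomial.degree_pos_of_irreducible hqi).ne') hqs.map
  obtain ⟨f, hf, -, hfm⟩ := lifts_and_degree_eq_and_monic
    ((mem_lifts q).2 (Polynomial.map_surjective (residue (Hull A Ω)) residue_surjective q)) hqm
  have hcomp : (Hull.proj : Hull A Ω →ₐ[A] Ω).toRingHom = ρ.comp (residue _) := rfl
  obtain ⟨x, hx⟩ := exists_proj_eq A Ω f hfm c (by rw [hcomp, ← Polynomial.map_map, hf]; exact hc) (by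
    rw [hcomp, ← Polynomial.map_map, ← derivative_map, hf, ← derivative_map]
    simpa [Polynomial.coe_aeval_eq_eval] using
      (hqs.map (f := ρ)).aeval_derivative_ne_zero (x := c) (by rw [Polynomial.coe_aeval_eq_eval]; exact hc))
  refine ⟨residue _ x, ρ.injective ?_⟩
  rw [map_zero, ← Polynomial.eval₂_at_apply, hρ, hx, ← Polynomial.eval_map]
  exact hc

variable {A Ω} {M : Type u} [AddCommGroup M] [Module A M]

/-- Finitely many elements of the tensor product come from one stage. -/
theorem exists_stage {σ : Type*} [Finite σ] (z : σ → Hull A Ω ⊗[A] M) :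
    ∃ (N : Nbhd A Ω) (w : σ → N.Ring ⊗[A] M),
      ∀ s, (Hull.ι N).toLinearMap.rTensor M (w s) = z s := by
  classical
  haveI := Fintype.ofFinite σ
  have key : ∀ z : Hull A Ω ⊗[A] M, ∃ (N : Nbhd A Ω) (w : N.Ring ⊗[A] M),
      (Hull.ι N).toLinearMap.rTensor M w = z := by
    intro z
    induction z using TensorProduct.induction_on with
    | zero => exact ⟨Classical.arbitrary _, 0, map_zero _⟩
    | tmul h m =>
      obtain ⟨N, a, rfl⟩ := Hull.exists_ι h
      exact ⟨N, a ⊗ₜ m, rfl⟩
    | add x y hx hy =>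
      obtain ⟨N, w, rfl⟩ := hx
      obtain ⟨N', w', rfl⟩ := hy
      obtain ⟨K, f, g, -⟩ := IsFilteredOrEmpty.cocone_objs N N'
      refine ⟨K, f.map.toLinearMap.rTensor M w + g.map.toLinearMap.rTensor M w', ?_⟩
      rw [map_add, ← LinearMap.rTensor_comp_apply, ← LinearMap.rTensor_comp_apply]
      congr 3 <;> exact LinearMap.ext fun t => Hull.ι_map _ t
  choose N w hw using fun s => key (z s)
  obtain ⟨K, hK⟩ := IsFiltered.sup_objs_exists (Finset.univ.image N)
  have f : ∀ s, N s ⟶ K := fun s => (hK (Finset.mem_image_of_mem N (Finset.mem_univ s))).some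
  refine ⟨K, fun s => (f s).map.toLinearMap.rTensor M (w s), fun s => ?_⟩
  rw [← LinearMap.rTensor_comp_apply, ← hw s]
  congr 3
  exact LinearMap.ext fun t => Hull.ι_map _ t

/-- An element vanishing in the tensor product vanishes at a later stage. -/
theorem exists_stage_eq_zero {N : Nbhd A Ω} (w : N.Ring ⊗[A] M)
    (hw : (Hull.ι N).toLinearMap.rTensor M w = 0) :
    ∃ (K : Nbhd A Ω) (f : N ⟶ K), f.map.toLinearMap.rTensor M w = 0 := by
  classical
  obtain ⟨s, hs⟩ := TensorProduct.exists_finset w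
  have hsum : ∑ p : s, (p.1.2 : M) ⊗ₜ[A] Hull.ι N p.1.1 = 0 := by
    have := congrArg (TensorProduct.comm A (Hull A Ω) M) hw
    rw [hs, map_sum, map_sum, map_zero] at this
    rw [← this, ← Finset.sum_coe_sort s]
    rfl
  obtain ⟨k, a, y, hy, ha⟩ := vanishesTrivially_of_sum_tmul_eq_zero_of_rTensor_injective A
    (Module.Flat.rTensor_preserves_injective_linearMap _ (Submodule.injective_subtype _)) hsum
  obtain ⟨N', y', hy'⟩ := Hull.exists_ι_family y
  obtain ⟨K, f, g, -⟩ := IsFilteredOrEmpty.cocone_objs N N'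
  let D : s → K.Ring := fun p => f.map p.1.1 - ∑ j, a p j • g.map (y' j)
  have hD : ∀ p, Hull.ι K (D p) = 0 := fun p => by
    simp only [D, map_sub, map_sum, map_smul, Hull.ι_map, hy', hy p, sub_self]
  choose L l hl using fun p => Hull.exists_map_eq_zero (hD p)
  obtain ⟨P, hP⟩ := IsFiltered.sup_objs_exists (insert K (Finset.univ.image L))
  let mK : K ⟶ P := (hP (Finset.mem_insert_self _ _)).some
  let mL : ∀ p, L p ⟶ P := fun p => (hP (Finset.mem_insert_of_mem (Finset.mem_image_of_mem L (Finset.mem_univ p)))).some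
  choose Q cQ hQ using fun p => IsFilteredOrEmpty.cocone_maps mK (l p ≫ mL p)
  obtain ⟨Q', hQ'⟩ := IsFiltered.sup_objs_exists (insert P (Finset.univ.image Q))
  let mP : P ⟶ Q' := (hQ' (Finset.mem_insert_self _ _)).some
  let mQ : ∀ p, Q p ⟶ Q' := fun p => (hQ' (Finset.mem_insert_of_mem (Finset.mem_image_of_mem Q (Finset.mem_univ p)))).some
  obtain ⟨Z, tZ, hZ⟩ : ∃ (Z : Nbhd A Ω) (t : Q' ⟶ Z), ∀ p : s, mP ≫ t = cQ p ≫ mQ p ≫ t := by
    have : ∀ (S : Finset s), ∃ (Z : Nbhd A Ω) (t : Q' ⟶ Z), ∀ p ∈ S, mP ≫ t = cQ p ≫ mQ p ≫ t := by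
      intro S
      induction S using Finset.induction_on with
      | empty => exact ⟨Q', 𝟙 _, fun p hp => absurd hp (Finset.notMem_empty _)⟩
      | insert p S _ ih =>
        obtain ⟨Z, t, ht⟩ := ih
        obtain ⟨Z', t', ht'⟩ := IsFilteredOrEmpty.cocone_maps (mP ≫ t) (cQ p ≫ mQ p ≫ t)
        refine ⟨Z', t ≫ t', fun p' hp' => ?_⟩
        rcases Finset.mem_insert.1 hp' with rfl | h
        · simpa [Category.assoc] using ht'
        · simp only [← Category.assoc] at ht ⊢
          rw [ht p' h]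
    obtain ⟨Z, t, ht⟩ := this Finset.univ
    exact ⟨Z, t, fun p => ht p (Finset.mem_univ p)⟩
  let G : K ⟶ Z := mK ≫ mP ≫ tZ
  have hG : ∀ p, G.map (D p) = 0 := fun p => by
    have e : G = l p ≫ mL p ≫ cQ p ≫ mQ p ≫ tZ := by
      simp only [G]
      rw [hZ p, ← Category.assoc mK, hQ p]
      simp only [Category.assoc]
    rw [e]
    show ((mL p ≫ cQ p ≫ mQ p ≫ tZ).map) ((l p).map (D p)) = 0
    rw [hl p, map_zero]
  refine ⟨Z, f ≫ G, ?_⟩
  have h1 : ∀ p : s, (f ≫ G).map p.1.1 = ∑ j, a p j • (g ≫ G).map (y' j) := fun p => by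
    have := hG p
    simp only [D, map_sub, map_sum, map_smul, sub_eq_zero] at this
    exact this
  conv_lhs => rw [hs]
  rw [map_sum, ← Finset.sum_coe_sort s]
  calc ∑ p : s, (f ≫ G).map.toLinearMap.rTensor M (p.1.1 ⊗ₜ[A] p.1.2)
      = ∑ p : s, ∑ j, (g ≫ G).map (y' j) ⊗ₜ[A] (a p j • p.1.2) := by
        refine Finset.sum_congr rfl fun p _ => ?_
        rw [LinearMap.rTensor_tmul]
        show (f ≫ G).map p.1.1 ⊗ₜ[A] p.1.2 = _
        rw [h1 p, TensorProduct.sum_tmul]
        exact Finset.sum_congr rfl fun j _ => TensorProduct.smul_tmul _ _ _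
    _ = ∑ j, (g ≫ G).map (y' j) ⊗ₜ[A] (∑ p : s, a p j • p.1.2) := by
        rw [Finset.sum_comm]; simp only [TensorProduct.tmul_sum]
    _ = 0 := by simp only [ha, TensorProduct.tmul_zero, Finset.sum_const_zero]

/-- Finitely many vanishing elements vanish at a later stage. -/
theorem exists_stage_eq_zero_family {σ : Type*} [Finite σ] {N : Nbhd A Ω} (w : σ → N.Ring ⊗[A] M)
    (hw : ∀ s, (Hull.ι N).toLinearMap.rTensor M (w s) = 0) :
    ∃ (K : Nbhd A Ω) (f : N ⟶ K), ∀ s, f.map.toLinearMap.rTensor M (w s) = 0 := by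
  classical
  haveI := Fintype.ofFinite σ
  suffices ∀ S : Finset σ, ∃ (K : Nbhd A Ω) (f : N ⟶ K), ∀ s ∈ S, f.map.toLinearMap.rTensor M (w s) = 0 by
    obtain ⟨K, f, hf⟩ := this Finset.univ
    exact ⟨K, f, fun s => hf s (Finset.mem_univ s)⟩
  intro S
  induction S using Finset.induction_on with
  | empty => exact ⟨N, 𝟙 _, fun s hs => absurd hs (Finset.notMem_empty _)⟩
  | insert s S _ ih =>
    obtain ⟨K, f, hf⟩ := ih
    obtain ⟨L, g, hg⟩ := exists_stage_eq_zero (f.map.toLinearMap.rTensor M (w s)) (by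
      rw [← LinearMap.rTensor_comp_apply, ← hw s]
      congr 3
      exact LinearMap.ext fun t => Hull.ι_map f t)
    refine ⟨L, f ≫ g, fun s' hs' => ?_⟩
    show (g.map.comp f.map).toLinearMap.rTensor M (w s') = 0
    rw [AlgHom.comp_toLinearMap, LinearMap.rTensor_comp_apply]
    rcases Finset.mem_insert.1 hs' with rfl | h
    · exact hg
    · rw [hf s' h, map_zero]

end GrothLib.FEt21.StrictHull
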