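import Groth.Prelude.Def_Pi1
import Mathlib.RingTheory.Smooth.Fiber
import Mathlib.RingTheory.Kaehler.TensorProduct
import Mathlib.Algebra.Module.CharacterModule
import Mathlib.RingTheory.Finiteness.Descent

/-!
# Descent along universally injective ring maps
-/

set_option autoImplicit false

universe u

open TensorProduct

namespace GrothLib.UnivInj

variable {R S : Type u} [CommRing R] [CommRing S] [Algebra R S] (h : Pi1.UnivInjective R S)
include h

theorem mk_one_injective (P : Type u) [AddCommGroup P] [Module R P] :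
    Function.Injective (TensorProduct.mk R S P 1) := by
  have h' : Function.Injective
      ((TensorProduct.comm R P S).toLinearMap ∘ₗ (Algebra.linearMap R S).lTensor P ∘ₗ
        (TensorProduct.rid R P).symm.toLinearMap) :=
    ((TensorProduct.comm R P S).injective.comp (h P)).comp (TensorProduct.rid R P).symm.injective
  convert h' using 1
  ext p
  simp

theorem subsingleton_of_tensor (P : Type u) [AddCommGroup P] [Module R P]
    [Subsingleton (S ⊗[R] P)] : Subsingleton P :=
  (mk_one_injective h P).subsingleton

theorem surjective_of_lTensor {M N : Type u} [AddCommGroup M] [Module R M] [AddCommGroup N]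
    [Module R N] (f : M →ₗ[R] N) (hf : Function.Surjective (f.lTensor S)) : Function.Surjective f := by
  have hex := lTensor_exact S (LinearMap.exact_map_mkQ_range f) (Submodule.mkQ_surjective _)
  haveI : Subsingleton (S ⊗[R] (N ⧸ LinearMap.range f)) := by
    refine subsingleton_of_forall_eq 0 fun z => ?_
    obtain ⟨y, rfl⟩ := LinearMap.lTensor_surjective S (Submodule.mkQ_surjective (LinearMap.range f)) z
    obtain ⟨x, rfl⟩ := hf y
    exact hex.apply_apply_eq_zero x
  have := subsingleton_of_tensor h (N ⧸ LinearMap.range f)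
  rwa [Submodule.Quotient.subsingleton_iff, LinearMap.range_eq_top] at this

theorem injective_of_lTensor {M N : Type u} [AddCommGroup M] [Module R M] [AddCommGroup N]
    [Module R N] (f : M →ₗ[R] N) (hf : Function.Injective (f.lTensor S)) : Function.Injective f := by
  intro x y hxy
  apply mk_one_injective h M
  apply hf
  simp [hxy]

/-- A natural extension of characters along `L → S ⊗ L`. -/
theorem exists_natural_extension :
    ∃ τ : ∀ (L : Type u) [AddCommGroup L] [Module R L], CharacterModule L → CharacterModule (S ⊗[R] L),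
      (∀ (L : Type u) [AddCommGroup L] [Module R L] (φ : CharacterModule L) (l : L),
        τ L φ (1 ⊗ₜ l) = φ l) ∧
      ∀ (L L' : Type u) [AddCommGroup L] [Module R L] [AddCommGroup L'] [Module R L'] (g : L →ₗ[R] L')
        (φ : CharacterModule L') (z : S ⊗[R] L),
        τ L (CharacterModule.dual g φ) z = τ L' φ (g.lTensor S z) := by
  let ev : CharacterModule (CharacterModule R) := AddMonoidHom.mk' (fun χ => χ 1) fun _ _ => rfl
  obtain ⟨η, hη⟩ := CharacterModule.dual_surjective_of_injective (R := R) _
    (mk_one_injective h (CharacterModule R)) ev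
  let lam : ∀ (L : Type u) [AddCommGroup L] [Module R L], CharacterModule L → (L →ₗ[R] CharacterModule R) :=
    fun L _ _ φ =>
    { toFun := fun l => AddMonoidHom.mk' (fun r => φ (r • l)) fun a b => by
        show φ ((a + b) • l) = _; rw [add_smul, map_add]
      map_add' := fun a b => by
        ext r
        show φ (r • (a + b)) = φ (r • a) + φ (r • b)
        rw [smul_add, map_add]
      map_smul' := fun c a => by
        ext r
        show φ (r • c • a) = φ ((c • r) • a)
        rw [smul_smul, smul_eq_mul, mul_comm] }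
  refine ⟨fun L _ _ φ => CharacterModule.dual ((lam L φ).lTensor S) η, fun L _ _ φ l => ?_, ?_⟩
  · show η (1 ⊗ₜ lam L φ l) = φ l
    refine (DFunLike.congr_fun hη (lam L φ l)).trans ?_
    show φ ((1 : R) • l) = φ l
    rw [one_smul]
  · intro L L' _ _ _ _ g φ z
    show η ((lam L (CharacterModule.dual g φ)).lTensor S z) = η ((lam L' φ).lTensor S (g.lTensor S z))
    have hlam : lam L (CharacterModule.dual g φ) = lam L' φ ∘ₗ g := by
      apply LinearMap.ext
      intro l
      ext r
      show φ (g (r • l)) = φ (r • g l)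
      rw [map_smul]
    rw [← LinearMap.lTensor_comp_apply, hlam]

omit h in
theorem distrib_natural (M : Type u) [AddCommGroup M] [Module R M] {L L' : Type u} [AddCommGroup L]
    [Module R L] [AddCommGroup L'] [Module R L'] (f : L →ₗ[R] L') (z : S ⊗[R] (L ⊗[R] M)) :
    AlgebraTensorModule.distribBaseChange R S L' M ((f.rTensor M).baseChange S z) =
      (f.baseChange S).rTensor (S ⊗[R] M) (AlgebraTensorModule.distribBaseChange R S L M z) := by
  induction z using TensorProduct.induction_on with
  | zero => simp
  | add a b ha hb => simp only [map_add, ha, hb]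
  | tmul s y =>
    induction y using TensorProduct.induction_on with
    | zero => simp
    | add a b ha hb => simp only [map_add, TensorProduct.tmul_add, ha, hb]
    | tmul l m => simp

omit h in
theorem distrib_symm_tmul (M : Type u) [AddCommGroup M] [Module R M] {L : Type u} [AddCommGroup L]
    [Module R L] (k : S ⊗[R] L) (s : S) (m : M) :
    (AlgebraTensorModule.distribBaseChange R S L M).symm (k ⊗ₜ (s ⊗ₜ m)) =
      ((TensorProduct.mk R L M).flip m).lTensor S (s • k) := by
  apply (AlgebraTensorModule.distribBaseChange R S L M).injective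
  rw [LinearEquiv.apply_symm_apply]
  induction k using TensorProduct.induction_on with
  | zero => simp
  | add a b ha hb => simp only [TensorProduct.add_tmul, smul_add, map_add, ha, hb]
  | tmul a n =>
    rw [TensorProduct.smul_tmul', smul_eq_mul, LinearMap.lTensor_tmul, LinearMap.flip_apply,
      TensorProduct.mk_apply, AlgebraTensorModule.distribBaseChange_tmul, ← smul_eq_mul,
      ← TensorProduct.smul_tmul' s a n, TensorProduct.smul_tmul, TensorProduct.smul_tmul', smul_eq_mul,
      mul_one]

theorem flat (M : Type u) [AddCommGroup M] [Module R M] [Module.Flat S (S ⊗[R] M)] :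
    Module.Flat R M := by
  obtain ⟨τ, hτ1, hτn⟩ := exists_natural_extension h
  rw [Module.Flat.iff_rTensor_preserves_injective_linearMap]
  intro N' N _ _ _ _ i hi
  rw [injective_iff_map_eq_zero]
  intro x hx
  refine CharacterModule.eq_zero_of_character_apply fun φ => ?_
  -- flatness: the kernel of `S ⊗ (i ⊗ M)` comes from the kernel of `S ⊗ i`
  have hexS : Function.Exact (LinearMap.ker (i.baseChange S)).subtype (i.baseChange S) :=
    LinearMap.exact_subtype_ker_map _
  have hex := Module.Flat.rTensor_exact (R := S) (S ⊗[R] M) (N := LinearMap.ker (i.baseChange S)) (N' := S ⊗[R] N') (N'' := S ⊗[R] N) hexS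
  have hz : (i.baseChange S).rTensor (S ⊗[R] M)
      (AlgebraTensorModule.distribBaseChange R S N' M (1 ⊗ₜ x)) = 0 := by
    rw [← distrib_natural, LinearMap.baseChange_tmul, hx, TensorProduct.tmul_zero, map_zero]
  obtain ⟨u, hu⟩ := (hex _).1 hz
  have key : ∀ v, τ (N' ⊗[R] M) φ ((AlgebraTensorModule.distribBaseChange R S N' M).symm
      ((LinearMap.ker (i.baseChange S)).subtype.rTensor (S ⊗[R] M) v)) = 0 := by
    intro v
    induction v using TensorProduct.induction_on with
    | zero => simp only [map_zero]
    | add a b ha hb => simp only [map_add, ha, hb, add_zero]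
    | tmul k t =>
      induction t using TensorProduct.induction_on with
      | zero => simp only [TensorProduct.tmul_zero, map_zero]
      | add a b ha hb => simp only [TensorProduct.tmul_add, map_add, ha, hb, add_zero]
      | tmul s m =>
        rw [LinearMap.rTensor_tmul, distrib_symm_tmul, ← hτn]
        obtain ⟨ψ, hψ⟩ := CharacterModule.dual_surjective_of_injective i hi
          (CharacterModule.dual ((TensorProduct.mk R N' M).flip m) φ)
        rw [← hψ, hτn]
        have hk : i.baseChange S (s • k.1) = 0 := by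
          rw [map_smul, LinearMap.mem_ker.1 k.2, smul_zero]
        show τ N ψ (i.baseChange S (s • k.1)) = 0
        rw [hk, map_zero]
  have := key u
  rw [hu, LinearEquiv.symm_apply_apply, hτ1] at this
  exact this

theorem finite (M : Type u) [AddCommGroup M] [Module R M] [Module.Finite S (S ⊗[R] M)] :
    Module.Finite R M := by
  obtain ⟨n, f, hf⟩ := Module.Finite.exists_fin' S (S ⊗[R] M)
  have hgen : ∀ z : S ⊗[R] M, ∃ N : Submodule R M, N.FG ∧ z ∈ LinearMap.range (N.subtype.lTensor S) := by
    intro z
    induction z using TensorProduct.induction_on with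
    | zero => exact ⟨⊥, Submodule.fg_bot, zero_mem _⟩
    | tmul s m => exact ⟨R ∙ m, Submodule.fg_span_singleton m,
        ⟨s ⊗ₜ ⟨m, Submodule.mem_span_singleton_self m⟩, by simp⟩⟩
    | add a b ha hb =>
      obtain ⟨N, hN, a', rfl⟩ := ha
      obtain ⟨N', hN', b', rfl⟩ := hb
      refine ⟨N ⊔ N', hN.sup hN', (Submodule.inclusion le_sup_left).lTensor S a' +
        (Submodule.inclusion le_sup_right).lTensor S b', ?_⟩
      rw [map_add, ← LinearMap.lTensor_comp_apply, ← LinearMap.lTensor_comp_apply]
      rfl
  choose N hN hz using fun i => hgen (f (Pi.single i 1))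
  let N₀ := ⨆ i, N i
  have hN₀ : N₀.FG := Submodule.fg_iSup N hN
  haveI : Module.Finite R N₀ := Module.Finite.iff_fg.2 hN₀
  refine Module.Finite.of_surjective N₀.subtype (surjective_of_lTensor h _ fun z => ?_)
  have htop : LinearMap.range ((N₀.subtype).baseChange S) = ⊤ := by
    rw [eq_top_iff, ← LinearMap.range_eq_top.2 hf, LinearMap.range_le_iff_comap, eq_top_iff,
      ← (Pi.basisFun S (Fin n)).span_eq, Submodule.span_le]
    rintro _ ⟨i, rfl⟩
    rw [Pi.basisFun_apply]
    obtain ⟨w, hw⟩ := hz i
    refine ⟨(Submodule.inclusion (le_iSup N i)).lTensor S w, ?_⟩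
    rw [← hw]
    show N₀.subtype.lTensor S _ = _
    rw [← LinearMap.lTensor_comp_apply]
    rfl
  obtain ⟨w, hw⟩ : z ∈ LinearMap.range ((N₀.subtype).baseChange S) := htop ▸ trivial
  exact ⟨w, hw⟩

theorem exists_fg_le_lTensor_eq {P : Type u} [AddCommGroup P] [Module R P] (K : Submodule R P)
    {W : Submodule S (S ⊗[R] P)} (hW : W.FG) (hWK : W ≤ LinearMap.range (K.subtype.baseChange S)) :
    ∃ K' ≤ K, K'.FG ∧ W ≤ LinearMap.range (K'.subtype.baseChange S) := by
  obtain ⟨gen, rfl⟩ := hW
  have hgen : ∀ z : S ⊗[R] K, ∃ K' ≤ K, K'.FG ∧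
      K.subtype.baseChange S z ∈ LinearMap.range (K'.subtype.baseChange S) := by
    intro z
    induction z using TensorProduct.induction_on with
    | zero => exact ⟨⊥, bot_le, Submodule.fg_bot, by simp⟩
    | tmul s m => exact ⟨R ∙ m.1, by simp, Submodule.fg_span_singleton _,
        ⟨s ⊗ₜ ⟨m.1, Submodule.mem_span_singleton_self m.1⟩, by simp⟩⟩
    | add a b ha hb =>
      obtain ⟨A, hA, hAfg, a', ha'⟩ := ha
      obtain ⟨B, hB, hBfg, b', hb'⟩ := hb
      refine ⟨A ⊔ B, sup_le hA hB, hAfg.sup hBfg, (Submodule.inclusion le_sup_left).baseChange S a' +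
        (Submodule.inclusion le_sup_right).baseChange S b', ?_⟩
      rw [map_add, map_add, ← ha', ← hb', ← LinearMap.comp_apply, ← LinearMap.baseChange_comp,
        ← LinearMap.comp_apply, ← LinearMap.baseChange_comp]
      rfl
  have : ∀ g : gen, ∃ K' ≤ K, K'.FG ∧ g.1 ∈ LinearMap.range (K'.subtype.baseChange S) := fun g => by
    obtain ⟨z, hz⟩ := hWK (Submodule.subset_span g.2)
    rw [← hz]
    exact hgen z
  choose A hA hAfg hAmem using this
  refine ⟨⨆ g, A g, iSup_le hA, Submodule.fg_iSup A hAfg, Submodule.span_le.2 fun g hg => ?_⟩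
  obtain ⟨w, hw⟩ := hAmem ⟨g, hg⟩
  refine ⟨(Submodule.inclusion (le_iSup A ⟨g, hg⟩)).baseChange S w, ?_⟩
  rw [← LinearMap.comp_apply, ← LinearMap.baseChange_comp]
  exact hw

theorem finitePresentation (M : Type u) [AddCommGroup M] [Module R M]
    [Module.FinitePresentation S (S ⊗[R] M)] : Module.FinitePresentation R M := by
  haveI := finite h M
  obtain ⟨n, f, hf⟩ := Module.Finite.exists_fin' R M
  have hfS : Function.Surjective (f.baseChange S) := LinearMap.lTensor_surjective S hf
  have hfg : (LinearMap.ker (f.baseChange S)).FG := Module.FinitePresentation.fg_ker _ hfS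
  have hex : Function.Exact ((LinearMap.ker f).subtype.lTensor S) (f.lTensor S) :=
    lTensor_exact S (LinearMap.exact_subtype_ker_map f) hf
  obtain ⟨K', hK', hK'fg, hle⟩ := exists_fg_le_lTensor_eq h (LinearMap.ker f) hfg
    (fun z hz => (hex z).1 hz)
  refine Module.finitePresentation_of_surjective f hf ?_
  suffices LinearMap.ker f = K' by rwa [this]
  refine le_antisymm (fun x hx => ?_) hK'
  rw [← Submodule.Quotient.mk_eq_zero]
  apply mk_one_injective h
  rw [map_zero]
  obtain ⟨w, hw⟩ := hle (show (1 : S) ⊗ₜ[R] x ∈ LinearMap.ker (f.baseChange S) by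
    simp [LinearMap.mem_ker.1 hx])
  have : K'.mkQ.lTensor S (K'.subtype.lTensor S w) = 0 :=
    (lTensor_exact S (LinearMap.exact_subtype_mkQ K') K'.mkQ_surjective).apply_apply_eq_zero w
  rw [show K'.subtype.lTensor S w = (1 : S) ⊗ₜ[R] x from hw] at this
  exact this

omit h in
theorem map_id_eq_lTensor {A B : Type u} [CommRing A] [Algebra R A] [CommRing B] [Algebra R B]
    (f : A →ₐ[R] B) (z : S ⊗[R] A) :
    Algebra.TensorProduct.map (AlgHom.id S S) f z = f.toLinearMap.lTensor S z := by
  induction z using TensorProduct.induction_on with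
  | zero => simp
  | tmul a b => simp
  | add a b ha hb => simp only [map_add, ha, hb]

theorem finiteType (A : Type u) [CommRing A] [Algebra R A] [Algebra.FiniteType S (S ⊗[R] A)] :
    Algebra.FiniteType R A := by
  classical
  obtain ⟨gen, hgen⟩ := (Algebra.FiniteType.out : (⊤ : Subalgebra S (S ⊗[R] A)).FG)
  choose T hT using fun z : S ⊗[R] A => TensorProduct.exists_finset z
  let t : Finset A := gen.biUnion fun z => (T z).image Prod.snd
  haveI : Algebra.FiniteType R (Algebra.adjoin R (t : Set A)) :=
    (Algebra.adjoin R (t : Set A)).fg_iff_finiteType.1 ⟨t, rfl⟩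
  refine Algebra.FiniteType.of_surjective (Algebra.adjoin R (t : Set A)).val
    (surjective_of_lTensor h (Algebra.adjoin R (t : Set A)).val.toLinearMap fun z => ?_)
  have htop : (Algebra.TensorProduct.map (AlgHom.id S S) (Algebra.adjoin R (t : Set A)).val).range = ⊤ := by
    rw [eq_top_iff, ← hgen, Algebra.adjoin_le_iff]
    intro x hx
    rw [hT x]
    refine Subalgebra.sum_mem _ fun p hp => ?_
    have hp' : p.2 ∈ t := Finset.mem_biUnion.2 ⟨x, hx, Finset.mem_image_of_mem _ hp⟩
    exact ⟨p.1 ⊗ₜ ⟨p.2, Algebra.subset_adjoin hp'⟩, Algebra.TensorProduct.map_tmul _ _ _ _⟩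
  obtain ⟨w, hw⟩ : z ∈ (Algebra.TensorProduct.map (AlgHom.id S S) (Algebra.adjoin R (t : Set A)).val).range :=
    htop ▸ trivial
  exact ⟨w, (map_id_eq_lTensor _ w).symm.trans hw⟩

theorem algFinitePresentation (A : Type u) [CommRing A] [Algebra R A]
    [Algebra.FinitePresentation S (S ⊗[R] A)] : Algebra.FinitePresentation R A := by
  haveI := finiteType h A
  obtain ⟨n, f, hf⟩ := Algebra.FiniteType.iff_quotient_mvPolynomial''.1 ‹Algebra.FiniteType R A›
  let P := MvPolynomial (Fin n) R
  let g : S ⊗[R] P →ₐ[S] S ⊗[R] A := Algebra.TensorProduct.map (AlgHom.id S S) f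
  have hg : ∀ z, g z = f.toLinearMap.lTensor S z := fun z => by
    induction z using TensorProduct.induction_on with
    | zero => simp
    | tmul a b => simp [g]
    | add a b ha hb => simp [ha, hb]
  have hgs : Function.Surjective g := fun y => by
    obtain ⟨z, hz⟩ := LinearMap.lTensor_surjective S (g := f.toLinearMap) hf y
    exact ⟨z, (hg z).trans hz⟩
  haveI : Algebra.FinitePresentation S (S ⊗[R] P) := inferInstance
  obtain ⟨gen, hgen⟩ := Algebra.FinitePresentation.ker_fG_of_surjective g hgs
  replace hgen : Ideal.span (gen : Set (S ⊗[R] P)) = RingHom.ker g := hgen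
  have hex : Function.Exact ((LinearMap.ker f.toLinearMap).subtype.lTensor S) (f.toLinearMap.lTensor S) :=
    lTensor_exact S (LinearMap.exact_subtype_ker_map _) hf
  obtain ⟨K', hK', hK'fg, hle⟩ := exists_fg_le_lTensor_eq h (LinearMap.ker f.toLinearMap)
    (W := Submodule.span S (gen : Set (S ⊗[R] P))) ⟨gen, rfl⟩ (Submodule.span_le.2 fun z hz => by
      have hz' : z ∈ RingHom.ker g := hgen ▸ Ideal.subset_span hz
      exact (hex z).1 ((hg z).symm.trans hz'))
  obtain ⟨gK, hgK⟩ := hK'fg
  let J : Ideal P := Ideal.span (gK : Set P)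
  have hK'J : ∀ x ∈ K', x ∈ J := by
    intro x hx
    rw [← hgK] at hx
    exact (Submodule.span_le (p := J.restrictScalars R)).2 Ideal.subset_span hx
  have hJker : J ≤ RingHom.ker f.toRingHom := Ideal.span_le.2 fun x hx =>
    hK' (hgK ▸ Submodule.subset_span hx)
  refine Algebra.FinitePresentation.of_surjective hf ?_
  suffices RingHom.ker f.toRingHom = J by rw [this]; exact ⟨gK, rfl⟩
  refine le_antisymm (fun x hx => ?_) hJker
  rw [← Ideal.Quotient.eq_zero_iff_mem]
  apply mk_one_injective h
  rw [map_zero]
  let q : S ⊗[R] P →ₐ[S] S ⊗[R] (P ⧸ J) :=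
    Algebra.TensorProduct.map (AlgHom.id S S) (Ideal.Quotient.mkₐ R J)
  have hq : RingHom.ker g ≤ RingHom.ker q := by
    rw [← hgen, Ideal.span_le]
    intro z hz
    obtain ⟨w, rfl⟩ := hle (Submodule.subset_span hz)
    show q _ = 0
    clear hz
    induction w using TensorProduct.induction_on with
    | zero => simp
    | tmul a b => simp [q, Ideal.Quotient.eq_zero_iff_mem.2 (hK'J b.1 b.2)]
    | add a b ha hb => rw [map_add, map_add, ha, hb, add_zero]
  have := hq (show (1 : S) ⊗ₜ[R] x ∈ RingHom.ker g by
    show g _ = 0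
    have hx' : f x = 0 := hx
    simp [g, hx'])
  simpa [q] using this

attribute [local instance] Algebra.TensorProduct.rightAlgebra in
theorem etale (A : Type u) [CommRing A] [Algebra R A] [Algebra.Etale S (S ⊗[R] A)] :
    Algebra.Etale R A := by
  haveI := algFinitePresentation h A
  haveI := flat h A
  haveI : Algebra.FormallyUnramified R A := by
    refine ⟨?_⟩
    haveI : Subsingleton (S ⊗[R] Ω[A⁄R]) :=
      (KaehlerDifferential.tensorKaehlerEquivBase R S A (S ⊗[R] A)).toEquiv.subsingleton
    exact subsingleton_of_tensor h _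
  exact Algebra.Etale.of_formallyUnramified_of_flat

end GrothLib.UnivInj
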